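import Groth.Agent.RefX.QCoh
import Groth.Agent.MorLib.ProjSections
import Groth.Agent.QCoh.LocFree
import Groth.Agent.QCoh.VanIdeal
import Groth.Agent.FFun.Basic
import Groth.Prelude.Def_FlatMod2

/-!
# Cohomology of finite locally free modules is killed by what kills the cohomology of the structure sheaf

If `w` is a global function on a qcqs scheme with affine non-vanishing locus and `F` is finite locally
free then a power of `w` on `F` factors through a finite sum of copies of the structure module.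
-/

universe u

set_option backward.isDefEq.respectTransparency false
set_option backward.isDefEq.respectTransparency.types false
set_option linter.style.haveILetI false

open CategoryTheory AlgebraicGeometry TopologicalSpace Opposite

namespace Groth.Agent.LocDual54

variable {X : Scheme.{u}} {F G H : X.Modules}

/-- The morphism given by a global section of the sheaf Hom. -/
noncomputable def toHom (g : Γ(RefHull.homSh F G, ⊤)) : F ⟶ G :=
  ⟨PresheafOfModules.homMk
    { app := fun U => AddCommGrpCat.ofHom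
        (AddMonoidHom.mk' (fun m : Γ(F, U.unop) => RefX.app (le_top : U.unop ≤ ⊤) g m)
          (RefX.app_add (le_top : U.unop ≤ ⊤) g))
      naturality := fun U V i => by
        ext m
        exact (RefX.res_app (le_top : U.unop ≤ ⊤) i.unop.le g m).symm }
    (fun U r m => RefX.app_smul (le_top : U.unop ≤ ⊤) g r m)⟩

theorem toHom_app (g : Γ(RefHull.homSh F G, ⊤)) (U : X.Opens) (m : Γ(F, U)) :
    (toHom g).app U m = RefX.app le_top g m := rfl

theorem stalkMap_toHom (g : Γ(RefHull.homSh F G, ⊤)) (y : X) :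
    RefHull.stalkMapₗ (toHom g) y = g.1 ⟨y, trivial⟩ := by
  refine LinearMap.ext fun v => ?_
  obtain ⟨U, hy, m, rfl⟩ := TopCat.Presheaf.exists_germ_eq F.presheaf v
  rw [RefHull.stalkMapₗ_germ, toHom_app, RefX.germ_app]

theorem stalkMap_comp (φ : F ⟶ G) (ψ : G ⟶ H) (y : X) :
    RefHull.stalkMapₗ (φ ≫ ψ) y = (RefHull.stalkMapₗ ψ y).comp (RefHull.stalkMapₗ φ y) := by
  refine LinearMap.ext fun v => ?_
  obtain ⟨U, hy, m, rfl⟩ := TopCat.Presheaf.exists_germ_eq F.presheaf v
  rw [LinearMap.comp_apply, RefHull.stalkMapₗ_germ, RefHull.stalkMapₗ_germ, RefHull.stalkMapₗ_germ]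
  rfl

theorem stalkMap_add (φ ψ : F ⟶ G) (y : X) :
    RefHull.stalkMapₗ (φ + ψ) y = RefHull.stalkMapₗ φ y + RefHull.stalkMapₗ ψ y := by
  refine LinearMap.ext fun v => ?_
  obtain ⟨U, hy, m, rfl⟩ := TopCat.Presheaf.exists_germ_eq F.presheaf v
  rw [LinearMap.add_apply, RefHull.stalkMapₗ_germ, RefHull.stalkMapₗ_germ, RefHull.stalkMapₗ_germ,
    ← map_add]
  rfl

theorem stalkMap_zero (y : X) : RefHull.stalkMapₗ (0 : F ⟶ G) y = 0 := by
  have h := stalkMap_add (0 : F ⟶ G) 0 y
  rw [add_zero] at h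
  exact left_eq_add.1 h

theorem stalkMap_sub (φ ψ : F ⟶ G) (y : X) :
    RefHull.stalkMapₗ (φ - ψ) y = RefHull.stalkMapₗ φ y - RefHull.stalkMapₗ ψ y := by
  rw [eq_sub_iff_add_eq, ← stalkMap_add, sub_add_cancel]

theorem stalkMap_sum {ι : Type*} (s : Finset ι) (φ : ι → (F ⟶ G)) (y : X) :
    RefHull.stalkMapₗ (∑ i ∈ s, φ i) y = ∑ i ∈ s, RefHull.stalkMapₗ (φ i) y := by
  classical
  induction s using Finset.induction with
  | empty => simp [stalkMap_zero]
  | insert a s ha ih => rw [Finset.sum_insert ha, Finset.sum_insert ha, stalkMap_add, ih]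

theorem hom_ext_stalk {φ ψ : F ⟶ G} (h : ∀ y : X, RefHull.stalkMapₗ φ y = RefHull.stalkMapₗ ψ y) : φ = ψ := by
  ext U m
  refine ZClosLib.section_ext G _ _ fun y hy => ?_
  have := LinearMap.congr_fun (h y) (F.presheaf.germ U y hy m)
  rwa [RefHull.stalkMapₗ_germ, RefHull.stalkMapₗ_germ] at this

theorem stalkMap_smulModΓ (r : Γ(X, ⊤)) (y : X) :
    RefHull.stalkMapₗ (Formal.smulModΓ F r) y = X.presheaf.germ ⊤ y trivial r • LinearMap.id := by
  refine LinearMap.ext fun v => ?_
  obtain ⟨U, hy, m, rfl⟩ := TopCat.Presheaf.exists_germ_eq F.presheaf v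
  rw [RefHull.stalkMapₗ_germ, LinearMap.smul_apply, LinearMap.id_apply,
    ← TopCat.Presheaf.germ_res_apply X.presheaf (homOfLE (le_top : U ≤ ⊤)) y hy r, ← QCoh.germ_smul']
  rfl

theorem isFinLocFree_unit (X : Scheme.{u}) : FlatMod.IsFinLocFree (Coh.structureModule X) :=
  fun x => ⟨⊤, 1, trivial, ⟨Scheme.Modules.restrictUnitIso _ ≪≫
    (Limits.coproductUniqueIso fun _ : Fin 1 => Coh.structureModule ((⊤ : X.Opens) : Scheme.{u})).symm⟩⟩

theorem projective_sections (hF : FlatMod.IsFinLocFree F) {D : X.Opens} (hD : IsAffineOpen D) :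
    Module.Projective Γ(X, D) Γ(F, D) := by
  choose U n hx hn using hF
  have hb := fun x => X.isBasis_affineOpens.exists_subset_of_mem_open (show x ∈ U x from hx x) (U x).2
  choose V hV hxV hle using hb
  choose V' hV' hVV' using hV
  obtain rfl : V = fun x => (V' x : Set X) := funext fun x => (hVV' x).symm
  refine MorLib.projective_sections_of_cover (QCoh.isQCoh_of_isFinLocFree fun x => ⟨U x, n x, hx x, hn x⟩) V'
    (top_le_iff.1 fun x _ => Opens.mem_iSup.2 ⟨x, hxV x⟩) hV' (fun x => ?_) hD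
  obtain ⟨l⟩ := QCoh.free_sections (hV' x) (hle x) (hn x).some
  exact Module.Projective.of_equiv l.symm

theorem pow_mul_pow_factor [CompactSpace X] [QuasiSeparatedSpace X] (hF : FlatMod.IsFinLocFree F)
    (w : Γ(X, ⊤)) (hD : IsAffineOpen (X.basicOpen w)) :
    ∃ (N n : ℕ) (a : Fin n → (F ⟶ Coh.structureModule X)) (b : Fin n → (Coh.structureModule X ⟶ F)),
      ∑ i, a i ≫ b i = Formal.smulModΓ F (w ^ N) := by
  classical
  set D := X.basicOpen w with hDdef
  have hq := QCoh.isQCoh_of_isFinLocFree hF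
  have hfp := QCoh.isFP_of_isFinLocFree hF
  have hOq : Coh.IsQCoh (Coh.structureModule X) := QCoh.isQCoh_structureModule
  have hOfp := QCoh.isFP_of_isFinLocFree (isFinLocFree_unit X)
  haveI := QCoh.finitePresentation_of_isFP hfp hD
  haveI := projective_sections hF hD
  obtain ⟨n, π, hπ⟩ := Module.Finite.exists_fin' Γ(X, D) Γ(F, D)
  obtain ⟨σ, hσ⟩ := Module.projective_lifting_property π LinearMap.id hπ
  let α : Fin n → (Γ(F, D) →ₗ[Γ(X, D)] Γ(X, D)) := fun i => (LinearMap.proj i).comp σ
  let p : Fin n → Γ(F, D) := fun i => π (Pi.single i 1)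
  have hid : ∀ m, ∑ i, α i m • p i = m := fun m => by
    simp only [α, p, LinearMap.comp_apply, LinearMap.proj_apply, ← map_smul, ← map_sum]
    rw [show (∑ i, σ m i • Pi.single (M := fun _ => Γ(X, D)) i (1 : Γ(X, D))) = σ m from
      (pi_eq_sum_univ' (σ m)).symm]
    exact LinearMap.congr_fun hσ m
  have hres : ∀ (M : X.Modules) (r : Γ(X, D)) (m : Γ(M, D)), AModX.resR (le_refl D) r • m = r • m :=
    fun M r m => by rw [AModX.resR_self]
  let θa : Fin n → (letI := RefX.resModule (Coh.structureModule X) (le_refl D);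
      Γ(F, D) →ₗ[Γ(X, D)] Γ(Coh.structureModule X, D)) := fun i =>
    letI := RefX.resModule (Coh.structureModule X) (le_refl D)
    { toFun := fun m => α i m
      map_add' := map_add (α i)
      map_smul' := fun r m => ((α i).map_smul r m).trans (hres (Coh.structureModule X) r (α i m)).symm }
  let q : Fin n → Γ(X, D) → Γ(F, D) := fun i r => r • p i
  have q_add : ∀ i r s, q i (r + s) = q i r + q i s := fun i r s => add_smul r s (p i)
  have q_mul : ∀ i r s, q i (r * s) = AModX.resR (le_refl D) r • q i s := fun i r s =>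
    (mul_smul r s (p i)).trans (hres F r _).symm
  let θb : Fin n → (letI := RefX.resModule F (le_refl D);
      Γ(Coh.structureModule X, D) →ₗ[Γ(X, D)] Γ(F, D)) := fun i =>
    letI := RefX.resModule F (le_refl D)
    { toFun := q i
      map_add' := q_add i
      map_smul' := q_mul i }
  let ga := fun i => RefX.ofLin hq hD le_rfl (θa i)
  let gb := fun i => RefX.ofLin hOq hD le_rfl (θb i)
  have hDt : D ≤ ⊤ := le_top
  choose na ta hta using fun i => QCoh.exists_pow_smul_eq_map_of_isQuasiSeparated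
    (RefX.isQCoh_homSh hfp hOq) (W := ⊤) isCompact_univ
    (by simpa using isQuasiSeparated_univ) w (ga i)
  choose nb tb htb using fun i => QCoh.exists_pow_smul_eq_map_of_isQuasiSeparated
    (RefX.isQCoh_homSh hOfp hq) (W := ⊤) isCompact_univ
    (by simpa using isQuasiSeparated_univ) w (gb i)
  let N := ∑ i, (na i + nb i)
  have hN : ∀ i, na i + nb i ≤ N := fun i =>
    Finset.single_le_sum (f := fun i => na i + nb i) (fun _ _ => Nat.zero_le _) (Finset.mem_univ i)
  let a : Fin n → (F ⟶ Coh.structureModule X) := fun i =>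
    Formal.smulModΓ F (w ^ (N - (na i + nb i))) ≫ toHom (ta i)
  let b : Fin n → (Coh.structureModule X ⟶ F) := fun i => toHom (tb i)
  let T : F ⟶ F := ∑ i, a i ≫ b i
  have key : ∀ (y : X) (hy : y ∈ D), RefHull.stalkMapₗ T y =
      X.presheaf.germ ⊤ y trivial (w ^ N) • LinearMap.id := by
    intro y hy
    set g := X.presheaf.germ ⊤ y trivial w with hgdef
    have hval : ∀ {M M' : X.Modules} (k : ℕ) (t : Γ(RefHull.homSh M M', ⊤)) (s : Γ(RefHull.homSh M M', D)),
        (RefHull.homSh M M').presheaf.map (homOfLE (X.basicOpen_le w)).op t =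
          X.presheaf.map (homOfLE (X.basicOpen_le w)).op w ^ k • s →
        t.1 ⟨y, trivial⟩ = g ^ k • s.1 ⟨y, hy⟩ := by
      intro M M' k t s e
      have h1 := congrArg (fun z : Γ(RefHull.homSh M M', D) => z.1 ⟨y, hy⟩) e
      refine h1.trans ?_
      show X.presheaf.germ D y hy (X.presheaf.map (homOfLE (X.basicOpen_le w)).op w ^ k) • _ = _
      rw [map_pow, TopCat.Presheaf.germ_res_apply]
    refine RefX.stalkHom_ext hq hD hy fun m => ?_
    rw [show T = ∑ i, a i ≫ b i from rfl, stalkMap_sum, LinearMap.smul_apply, LinearMap.id_apply,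
      LinearMap.sum_apply]
    have : ∀ i, (RefHull.stalkMapₗ (a i ≫ b i) y) (F.presheaf.germ D y hy m) =
        g ^ N • F.presheaf.germ D y hy (α i m • p i) := by
      intro i
      have ea := hval (na i) (ta i) (ga i) (hta i)
      have eb := hval (nb i) (tb i) (gb i) (htb i)
      have e1 : (ga i).1 ⟨y, hy⟩ (F.presheaf.germ D y hy m) =
          (Coh.structureModule X).presheaf.germ D y hy (θa i m) := RefX.ofLin_germ hq hD le_rfl (θa i) hy m
      have e2 : (gb i).1 ⟨y, hy⟩ ((Coh.structureModule X).presheaf.germ D y hy (θa i m)) =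
          F.presheaf.germ D y hy (α i m • p i) := RefX.ofLin_germ hOq hD le_rfl (θb i) hy (θa i m)
      simp only [a, b, stalkMap_comp, LinearMap.comp_apply, stalkMap_smulModΓ, LinearMap.smul_apply,
        LinearMap.id_apply, map_pow, stalkMap_toHom, ea, eb]
      simp only [LinearMap.map_smul]
      rw [e1, e2, smul_smul, smul_smul]
      rw [← pow_add, ← pow_add, show nb i + na i + (N - (na i + nb i)) = N by have := hN i; omega]
    simp only [this, ← Finset.smul_sum]
    erw [← map_sum]
    rw [hid, map_pow]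
  let δ : F ⟶ F := T - Formal.smulModΓ F (w ^ N)
  have hδ : (RefHull.homSh F F).presheaf.map (homOfLE (X.basicOpen_le w)).op (RefHull.ofHom δ ⊤) = 0 := by
    refine RefX.sect_ext fun y => ?_
    show RefHull.stalkMapₗ δ y.1 = 0
    rw [show δ = T - Formal.smulModΓ F (w ^ N) from rfl, stalkMap_sub, key y.1 y.2, stalkMap_smulModΓ, sub_self]
  obtain ⟨k, hk⟩ := QCoh.exists_pow_smul_eq_zero_of_isCompact (RefX.isQCoh_homSh hfp hq) (W := ⊤)
    isCompact_univ w (RefHull.ofHom δ ⊤) hδ
  refine ⟨k + N, n, fun i => Formal.smulModΓ F (w ^ k) ≫ a i, b, hom_ext_stalk fun y => ?_⟩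
  have h0 : X.presheaf.germ ⊤ y trivial (w ^ k) • RefHull.stalkMapₗ δ y = 0 :=
    congrArg (fun z : Γ(RefHull.homSh F F, ⊤) => z.1 ⟨y, trivial⟩) hk
  rw [show δ = T - Formal.smulModΓ F (w ^ N) from rfl, stalkMap_sub, smul_sub, sub_eq_zero] at h0
  calc RefHull.stalkMapₗ (∑ i, (Formal.smulModΓ F (w ^ k) ≫ a i) ≫ b i) y
      = RefHull.stalkMapₗ (Formal.smulModΓ F (w ^ k) ≫ T) y := by
        rw [show T = ∑ i, a i ≫ b i from rfl, Preadditive.comp_sum]; simp only [Category.assoc]
    _ = X.presheaf.germ ⊤ y trivial (w ^ k) • RefHull.stalkMapₗ T y := by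
        rw [stalkMap_comp, stalkMap_smulModΓ]
        refine LinearMap.ext fun v => ?_
        simp only [LinearMap.comp_apply, LinearMap.smul_apply, LinearMap.id_apply, map_smul]
    _ = _ := by
        rw [h0, stalkMap_smulModΓ, stalkMap_smulModΓ, smul_smul, ← map_mul, ← pow_add]

/-- What kills the cohomology of the structure sheaf kills, up to a power of `f`, that of `F`. -/
theorem exists_pow_kill {A : Type u} [CommRing A] [X.Over (Spec (CommRingCat.of A))]
    [CompactSpace X] [QuasiSeparatedSpace X] (hF : FlatMod.IsFinLocFree F) (p : ℕ) (f : A)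
    (hD : IsAffineOpen (X.basicOpen (Coh.toGlobal (X ↘ Spec (CommRingCat.of A)) f : Γ(X, ⊤)))) :
    ∃ N : ℕ, ∀ a : A, (∀ y : Coh.HH X (Coh.structureModule X) p, a • y = 0) →
      ∀ x : Coh.HH X F p, (a * f ^ N) • x = 0 := by
  obtain ⟨N, n, u, v, huv⟩ := pow_mul_pow_factor hF _ hD
  refine ⟨N, fun a ha x => ?_⟩
  have hpow : Formal.smulMod A F (f ^ N) = ∑ i, u i ≫ v i := by
    refine Eq.trans ?_ huv.symm
    show Formal.smulModΓ F (Coh.toGlobal _ (f ^ N)) = _
    rw [map_pow]
  rw [mul_smul, ← FFun.mapLin_smulMod (A := A) F (f ^ N) p x, hpow]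
  let φ : (F ⟶ F) →+ Coh.HH X F p :=
    AddMonoidHom.mk' (fun ψ => Sheaf.H.map ((QCoh.toAbFunctor X).map ψ) p x) fun ψ ψ' => by
      rw [Functor.map_add, Sheaf.H.map_add_apply]
  show a • φ (∑ i, u i ≫ v i) = 0
  rw [map_sum, Finset.smul_sum]
  refine Finset.sum_eq_zero fun i _ => ?_
  have : φ (u i ≫ v i) = PnCoh.Finite.mapLin A (v i) p (PnCoh.Finite.mapLin A (u i) p x) :=
    (PnCoh.Finite.map_map (Y := X.toPresheafedSpace.carrier)
      ((QCoh.toAbFunctor X).map_comp (u i) (v i)).symm p x).symm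
  rw [this, ← map_smul, ha, map_zero]

end Groth.Agent.LocDual54
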