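import Groth.Agent.LocDual54.PhiMap
import Mathlib.RingTheory.Filtration
import Mathlib.Algebra.Module.LinearMap.Defs

/-!
# Artin–Rees: maps from a perfect torsion complex into `I^m M` die in `I^n M`
-/

universe u

open CategoryTheory CategoryTheory.Limits

namespace Groth.Agent.LocDual54

attribute [local instance] HasDerivedCategory.standard

variable {A : Type u} [CommRing A] (I : Ideal A) (M : Type u) [AddCommGroup M] [Module A M]

/-- `I^n M`. -/
noncomputable abbrev powM (n : ℕ) : ModuleCat.{u} A := ModuleCat.of A ↥(I ^ n • (⊤ : Submodule A M))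

/-- The inclusions `I^m M ⊆ I^n M`. -/
noncomputable def powMap {n m : ℕ} (h : n ≤ m) : powM I M m ⟶ powM I M n :=
  ModuleCat.ofHom (Submodule.inclusion (Submodule.smul_mono (Ideal.pow_le_pow_right h) le_rfl))

variable {I M} {P : CochainComplex (ModuleCat.{u} A) ℤ}

/-- The degree zero component of a map to a module. -/
noncomputable def deg0' {N : ModuleCat.{u} A}
    (g : P ⟶ (HomologicalComplex.single (ModuleCat.{u} A) (ComplexShape.up ℤ) 0).obj N) : P.X 0 ⟶ N :=
  g.f 0 ≫ (HomologicalComplex.singleObjXSelf (ComplexShape.up ℤ) 0 N).hom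

theorem deg0'_injective {N : ModuleCat.{u} A}
    {g g' : P ⟶ (HomologicalComplex.single (ModuleCat.{u} A) (ComplexShape.up ℤ) 0).obj N}
    (h : deg0' g = deg0' g') : g = g' :=
  HomologicalComplex.to_single_hom_ext ((cancel_mono _).1 h)

variable [IsNoetherianRing A] [Module.Finite A M]

/-- The core estimate. -/
theorem exists_bound (hP : BddFree P) (k : ℕ)
    (hk : ∀ a ∈ I ^ k, a • 𝟙 (DerivedCategory.Q.obj P) = 0) :
    ∃ c : ℕ, ∀ (n m : ℕ) (h : n ≤ m), n + k + c ≤ m →
      ∀ x : DerivedCategory.Q.obj P ⟶ (DerivedCategory.singleFunctor (ModuleCat.{u} A) 0).obj (powM I M m),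
        x ≫ (DerivedCategory.singleFunctor (ModuleCat.{u} A) 0).map (powMap I M h) = 0 := by
  have := hP.finite 0
  have := hP.free 0
  have := isKProjective_of_bddFree hP
  let sgl := fun N : ModuleCat.{u} A => (HomologicalComplex.single (ModuleCat.{u} A) (ComplexShape.up ℤ) 0).obj N
  let Z : Submodule A (P.X 0 →ₗ[A] M) :=
    LinearMap.ker (LinearMap.lcomp A M (P.d (-1) 0).hom)
  obtain ⟨c, hc⟩ := I.exists_pow_inf_eq_pow_smul Z
  refine ⟨c, fun n m hnm hm x => ?_⟩
  obtain ⟨g, rfl⟩ := (Q_map_bijective_of_proj (P := P) (E := sgl (powM I M m))).1 x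
  let φ : P.X 0 →ₗ[A] M := Submodule.subtype _ ∘ₗ (deg0' g).hom
  have hφZ : φ ∈ Z := by
    refine LinearMap.ext fun y => ?_
    have h0 : P.d (-1) 0 ≫ deg0' g = 0 := by
      rw [deg0', ← Category.assoc, ← g.comm, HomologicalComplex.single_obj_d, comp_zero, zero_comp]
    show ((deg0' g).hom ((P.d (-1) 0).hom y) : M) = 0
    exact (congrArg Subtype.val (ConcreteCategory.congr_hom h0 y)).trans rfl
  have hφI : φ ∈ I ^ m • (⊤ : Submodule A (P.X 0 →ₗ[A] M)) := by
    let b := Module.Free.chooseBasis A (P.X 0)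
    have e : φ = ∑ i, (LinearMap.toSpanSingleton A M (φ (b i))).comp (b.coord i) := by
      refine b.ext fun j => ?_
      simp [LinearMap.sum_apply, Finsupp.single_apply, Finset.sum_ite_eq]
    rw [e]
    refine Submodule.sum_mem _ fun i _ => ?_
    let L : M →ₗ[A] (P.X 0 →ₗ[A] M) :=
      { toFun := fun y => (LinearMap.toSpanSingleton A M y).comp (b.coord i)
        map_add' := fun y y' => LinearMap.ext fun z => smul_add _ y y'
        map_smul' := fun r y => LinearMap.ext fun z => smul_comm _ r y }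
    have hL : L (φ (b i)) ∈ (I ^ m • (⊤ : Submodule A M)).map L :=
      Submodule.mem_map_of_mem ((deg0' g).hom (b i)).2
    rw [Submodule.map_smul''] at hL
    exact Submodule.smul_mono le_rfl le_top hL
  let K : (P.X 0 →ₗ[A] M) → Prop := fun ψ => ∃ g' : P ⟶ sgl (powM I M n),
    DerivedCategory.Q.map g' = 0 ∧ Submodule.subtype _ ∘ₗ (deg0' g').hom = ψ
  suffices hK : K φ by
    obtain ⟨g', hg', hg'φ⟩ := hK
    have e : g ≫ (HomologicalComplex.single (ModuleCat.{u} A) (ComplexShape.up ℤ) 0).map (powMap I M hnm) = g' := by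
      refine deg0'_injective (ModuleCat.hom_ext (LinearMap.ext fun y => Subtype.ext ?_))
      refine Eq.trans ?_ (LinearMap.congr_fun hg'φ y).symm
      simp only [deg0', HomologicalComplex.comp_f, HomologicalComplex.single_map_f_self, Category.assoc,
        Iso.inv_hom_id, Category.comp_id]
      rfl
    refine Eq.trans ?_ hg'
    rw [← e, Functor.map_comp]
    rfl
  have hadd : ∀ ψ ψ', K ψ → K ψ' → K (ψ + ψ') := by
    rintro ψ ψ' ⟨g₁, h₁, rfl⟩ ⟨g₂, h₂, rfl⟩
    refine ⟨g₁ + g₂, by rw [Functor.map_add, h₁, h₂, add_zero], ?_⟩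
    refine LinearMap.ext fun y => ?_
    simp [deg0', Preadditive.add_comp]
  have hmem : φ ∈ I ^ k • (I ^ n • (⊤ : Submodule A (P.X 0 →ₗ[A] M)) ⊓ Z) := by
    have h1 : φ ∈ I ^ (m - c) • (I ^ c • (⊤ : Submodule A (P.X 0 →ₗ[A] M)) ⊓ Z) := by
      rw [← hc m (by omega)]
      exact ⟨hφI, hφZ⟩
    have h2 : φ ∈ I ^ k • (I ^ n • (I ^ c • (⊤ : Submodule A (P.X 0 →ₗ[A] M)) ⊓ Z)) := by
      rw [← Submodule.mul_smul, ← pow_add]
      exact Submodule.smul_mono (Ideal.pow_le_pow_right (by omega)) le_rfl h1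
    refine Submodule.smul_mono le_rfl (le_inf ?_ ?_) h2
    · exact Submodule.smul_mono le_rfl le_top
    · exact (Submodule.smul_le_right).trans inf_le_right
  refine Submodule.smul_induction_on hmem (fun a ha ψ hψ => ?_) hadd
  have hval : ∀ y, ψ y ∈ I ^ n • (⊤ : Submodule A M) := by
    intro y
    have := Submodule.mem_map_of_mem (f := LinearMap.applyₗ y) hψ.1
    rw [Submodule.map_smul''] at this
    exact Submodule.smul_mono le_rfl le_top this
  let g₁ : P ⟶ sgl (powM I M n) := HomologicalComplex.mkHomToSingle (ModuleCat.ofHom (ψ.codRestrict _ hval))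
    (fun i hi => ModuleCat.hom_ext (LinearMap.ext fun y => Subtype.ext (by
      obtain rfl : i = -1 := by change i + 1 = 0 at hi; omega
      exact LinearMap.congr_fun hψ.2 y)))
  refine ⟨a • g₁, ?_, LinearMap.ext fun y => ?_⟩
  · rw [Functor.map_smul, ← Category.id_comp (DerivedCategory.Q.map g₁), ← Linear.smul_comp, hk a ha, zero_comp]
  · show ((deg0' (a • g₁)).hom y : M) = a • ψ y
    simp [deg0', g₁, HomologicalComplex.mkHomToSingle_f]

theorem bddFree_shift (hP : BddFree P) (a : ℤ) : BddFree (P⟦a⟧) := by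
  obtain ⟨N, hN⟩ := hP.bdd
  exact ⟨fun n => hP.finite (n + a), fun n => hP.free (n + a), ⟨N + a.natAbs, fun n hn => hN (n + a) (by omega)⟩⟩

/-- Maps from `P` into `I^m M` die in `I^n M`, uniformly in the degree. -/
theorem exists_hom_kill (hP : BddFree P) (k : ℕ) (hk : ∀ a ∈ I ^ k, a • 𝟙 (DerivedCategory.Q.obj P) = 0)
    (n : ℕ) : ∃ (m : ℕ) (h : n ≤ m), ∀ (q : ℤ)
      (x : DerivedCategory.Q.obj P ⟶ ((DerivedCategory.singleFunctor (ModuleCat.{u} A) 0).obj (powM I M m))⟦q⟧),
        x ≫ ((DerivedCategory.singleFunctor (ModuleCat.{u} A) 0).map (powMap I M h))⟦q⟧' = 0 := by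
  obtain ⟨N, hN⟩ := hP.bdd
  have hshift : ∀ q : ℤ, ∀ a ∈ I ^ k, a • 𝟙 (DerivedCategory.Q.obj (P⟦-q⟧)) = 0 := by
    intro q a ha
    let e := ((DerivedCategory.Q (C := ModuleCat.{u} A)).commShiftIso (-q)).app P
    have h0 : a • 𝟙 ((DerivedCategory.Q.obj P)⟦-q⟧) = 0 := by
      rw [← CategoryTheory.Functor.map_id, ← Functor.map_smul, hk a ha, Functor.map_zero]
    rw [← cancel_mono e.hom, zero_comp, Linear.smul_comp, Category.id_comp]
    refine Eq.trans ?_ (comp_zero (f := e.hom))
    rw [← h0, Linear.comp_smul]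
    exact congrArg (a • ·) (Category.comp_id _).symm
  choose c hc using fun q : ℤ => exists_bound (M := M) (bddFree_shift hP (-q)) k (hshift q)
  refine ⟨n + k + (Finset.Icc (-(N : ℤ)) N).sup c, by omega, fun q x => ?_⟩
  let adj := (shiftEquiv' (Dual.D A) (-q) q (neg_add_cancel q)).toAdjunction
  obtain ⟨y, rfl⟩ := (adj.homEquiv _ _).surjective x
  refine ((adj.homEquiv_naturality_right y
    ((DerivedCategory.singleFunctor (ModuleCat.{u} A) 0).map (powMap I M _))).symm).trans ?_
  rw [show y ≫ (DerivedCategory.singleFunctor (ModuleCat.{u} A) 0).map (powMap I M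
      (show n ≤ n + k + (Finset.Icc (-(N : ℤ)) N).sup c by omega)) = 0 from ?_]
  · simp [adj, Adjunction.homEquiv_unit, Functor.map_zero]
    rfl
  · have e : (((DerivedCategory.Q (C := ModuleCat.{u} A)).commShiftIso (-q)).app P).hom ≫
        (y ≫ (DerivedCategory.singleFunctor (ModuleCat.{u} A) 0).map (powMap I M
          (show n ≤ n + k + (Finset.Icc (-(N : ℤ)) N).sup c by omega))) = 0 := by
      rw [← Category.assoc]
      by_cases hq : -q ∈ Finset.Icc (-(N : ℤ)) N
      · exact hc q n _ _ (add_le_add le_rfl ((Finset.le_sup (f := fun i : ℤ => c i)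
          (show q ∈ Finset.Icc (-(N : ℤ)) N by rw [Finset.mem_Icc] at hq ⊢; omega)))) _
      · have := isKProjective_of_bddFree (bddFree_shift hP (-q))
        obtain ⟨g, hg⟩ := (Q_map_bijective_of_proj (P := P⟦-q⟧)
          (E := (HomologicalComplex.single (ModuleCat.{u} A) (ComplexShape.up ℤ) 0).obj
            (powM I M (n + k + (Finset.Icc (-(N : ℤ)) N).sup c)))).1
          ((((DerivedCategory.Q (C := ModuleCat.{u} A)).commShiftIso (-q)).app P).hom ≫ y)
        have hg0 : g = 0 := deg0'_injective (IsZero.eq_of_src (hN (0 + -q) (by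
          rw [Finset.mem_Icc] at hq; omega)) _ _)
        refine (congrArg (· ≫ _) (hg.symm.trans (by rw [hg0, Functor.map_zero]))).trans zero_comp
    exact (cancel_epi _).1 (e.trans comp_zero.symm)

end Groth.Agent.LocDual54
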