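import Groth.Agent.LocDual54.Splitting
import Groth.Agent.LC.CohTorsion
import Groth.Prelude.Def_Wider
import Mathlib.AlgebraicGeometry.Morphisms.Affine

/-!
# Affineness of the punctured open in cohomological dimension one
-/

universe u

open CategoryTheory AlgebraicGeometry TopologicalSpace Opposite

noncomputable section

namespace Groth.Agent.LocDual54.AffinePunct

variable {A : Type u} [CommRing A]

local notation "SA" => Spec (CommRingCat.of A)

/-- A distinguished open. -/
abbrev bo (g : A) : (SA).Opens := PrimeSpectrum.basicOpen g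

/-- Functions on an open. -/
def rho (V : (SA).Opens) : A →+* Γ(SA, V) :=
  (((SA).presheaf.map (homOfLE (le_top : V ≤ ⊤)).op).hom).comp (Scheme.ΓSpecIso (CommRingCat.of A)).inv.hom

theorem res_rho {V W : (SA).Opens} (h : W ≤ V) (a : A) :
    ((SA).presheaf.map (homOfLE h).op).hom (rho V a) = rho W a := by
  show ((SA).presheaf.map (homOfLE (le_top : V ≤ ⊤)).op ≫ (SA).presheaf.map (homOfLE h).op).hom
    ((Scheme.ΓSpecIso (CommRingCat.of A)).inv.hom a) = _
  rw [← Functor.map_comp]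
  rfl

theorem basicOpen_rho (a : A) (V : (SA).Opens) :
    (SA).basicOpen (rho V a) = V ⊓ bo a := by
  show (SA).basicOpen (((SA).presheaf.map (homOfLE le_top).op).hom ((Scheme.ΓSpecIso (CommRingCat.of A)).inv.hom a)) = _
  rw [Scheme.basicOpen_res, basicOpen_eq_of_affine]

theorem isUnit_rho {V : (SA).Opens} {g : A} (h : V ≤ bo g) : IsUnit (rho V g) := by
  have hle : V ≤ (SA).basicOpen (rho ⊤ g) := by rw [basicOpen_rho, top_inf_eq]; exact h
  have h₁ := RingedSpace.isUnit_res_basicOpen (X := (SA).toLocallyRingedSpace.toRingedSpace) (rho ⊤ g)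
  have h₂ : IsUnit (rho ((SA).basicOpen (rho ⊤ g)) g) := (res_rho le_top g) ▸ h₁
  exact res_rho hle g ▸ h₂.map ((SA).presheaf.map (homOfLE hle).op).hom

variable [IsNoetherianRing A] (I : Ideal A)

omit [IsNoetherianRing A] in
theorem bo_le {g : A} (hg : g ∈ I) :
    bo g ≤ LocCoh.puncturedOpen A I := fun _ hx hz => hx (hz hg)

omit [IsNoetherianRing A] in
theorem cover : (LocCoh.puncturedOpen A I : (SA).Opens) ≤
    ⨆ g : I, bo (g : A) := fun z hz => by
  obtain ⟨g, hg, hgz⟩ := Set.not_subset.1 hz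
  exact Opens.mem_iSup.2 ⟨⟨g, hg⟩, hgz⟩

theorem exists_section {m : ℕ} (φ : ↥(I ^ m) →ₗ[A] A) :
    ∃ s : Γ(SA, LocCoh.puncturedOpen A I), ∀ (g : A) (hg : g ∈ I),
      rho (bo g) (g ^ m) * ((SA).presheaf.map (homOfLE (bo_le I hg)).op).hom s =
        rho (bo g) (φ ⟨g ^ m, Ideal.pow_mem_pow hg m⟩) := by
  let U : I → (SA).Opens := fun g => bo (g : A)
  let val : I → A := fun g => φ ⟨(g : A) ^ m, Ideal.pow_mem_pow g.2 m⟩
  have hu : ∀ g : I, ∀ V : (SA).Opens, V ≤ U g → IsUnit (rho V ((g : A) ^ m)) := fun g V h => by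
    rw [map_pow]; exact (isUnit_rho h).pow m
  choose sf hsf using fun g : I => show ∃ t : Γ(SA, U g), rho (U g) ((g : A) ^ m) * t = rho (U g) (val g) from
    ⟨((hu g (U g) le_rfl).unit⁻¹ : Γ(SA, U g)ˣ) * rho (U g) (val g), by
      rw [← mul_assoc, IsUnit.mul_val_inv, one_mul]⟩
  have hc : TopCat.Presheaf.IsCompatible (SA).sheaf.1 U sf := by
    intro g g'
    let V := U g ⊓ U g'
    have e : ∀ (k : I) (h : V ≤ U k), rho V ((k : A) ^ m) * ((SA).presheaf.map (homOfLE h).op).hom (sf k) =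
        rho V (val k) := fun k h => by
      rw [← res_rho h, ← res_rho h, ← map_mul, hsf]
    have hcomm : (g : A) ^ m * val g' = (g' : A) ^ m * val g := by
      rw [← smul_eq_mul, ← smul_eq_mul, ← map_smul, ← map_smul]
      exact congrArg φ (Subtype.ext (mul_comm _ _))
    refine ((hu g V inf_le_left).mul (hu g' V inf_le_right)).mul_right_injective ?_
    show rho V ((g : A) ^ m) * rho V ((g' : A) ^ m) * ((SA).presheaf.map (homOfLE inf_le_left).op).hom (sf g) =
      rho V ((g : A) ^ m) * rho V ((g' : A) ^ m) * ((SA).presheaf.map (homOfLE inf_le_right).op).hom (sf g')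
    rw [mul_assoc, mul_assoc, e g' inf_le_right, mul_left_comm, e g inf_le_left, ← map_mul, ← map_mul, hcomm]
  obtain ⟨s, hs, -⟩ := (SA).sheaf.existsUnique_gluing' U (LocCoh.puncturedOpen A I)
    (fun g => homOfLE (bo_le I g.2)) (cover I) sf hc
  exact ⟨s, fun g hg => (congrArg _ (hs ⟨g, hg⟩)).trans (hsf ⟨g, hg⟩)⟩

theorem span_eq_top {r : ℕ} (f : Fin r → A) (hI : I = Ideal.span (Set.range f))
    (h₁ : LocCoh.CdLE A I 1) :
    Ideal.span (Set.range fun j => rho (LocCoh.puncturedOpen A I) (f j)) = ⊤ := by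
  classical
  subst hI
  obtain ⟨c, φ, hφ⟩ := exists_splitting f h₁
  let I := Ideal.span (Set.range f)
  choose s hs using fun j => exists_section I (φ j)
  refine Ideal.eq_top_iff_one _ |>.2 ?_
  have h1 : (1 : Γ(SA, LocCoh.puncturedOpen A I)) = ∑ j, s j * rho _ (f j) := by
    refine (SA).sheaf.eq_of_locally_eq' (fun g : I => bo (g : A)) _
      (fun g => homOfLE (bo_le I g.2)) (cover I) _ _ fun g => ?_
    show ((SA).presheaf.map (homOfLE (bo_le I g.2)).op).hom 1 =
      ((SA).presheaf.map (homOfLE (bo_le I g.2)).op).hom (∑ j, s j * rho _ (f j))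
    refine ((isUnit_rho (le_refl _)).pow (c + 1)).mul_right_injective ?_
    beta_reduce
    rw [← map_pow, map_one, mul_one, map_sum, Finset.mul_sum]
    conv_rhs => enter [2, j]; rw [map_mul, res_rho, ← mul_assoc, hs j g.1 g.2, ← map_mul]
    rw [← map_sum]
    refine congrArg _ ((hφ ⟨(g : A) ^ (c + 1), Ideal.pow_mem_pow g.2 _⟩).trans ?_)
    exact Finset.sum_congr rfl fun j _ => mul_comm _ _
  rw [h1]
  exact Ideal.sum_mem _ fun j _ => Ideal.mul_mem_left _ _ (Ideal.subset_span ⟨j, rfl⟩)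

theorem isAffine_punctured (h₁ : LocCoh.CdLE A I 1) :
    IsAffine (↑(LocCoh.puncturedOpen A I) : Scheme.{u}) := by
  obtain ⟨r, f, hf⟩ := Submodule.fg_iff_exists_fin_generating_family.1 (IsNoetherian.noetherian I)
  refine isAffineOpen_of_isAffineOpen_basicOpen _ _ (span_eq_top I f hf.symm h₁) ?_
  rintro _ ⟨j, rfl⟩
  rw [basicOpen_rho]
  erw [inf_eq_right.2 (bo_le I (g := f j) (hf ▸ Submodule.subset_span ⟨j, rfl⟩))]
  exact (congrArg IsAffineOpen (basicOpen_eq_of_affine (R := CommRingCat.of A) (f j))).mp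
    ((isAffineOpen_top (SA)).basicOpen _)

theorem nonempty_punctured (h₀ : ¬ LocCoh.CdLE A I 0) :
    Nonempty (↑(LocCoh.puncturedOpen A I) : Scheme.{u}) := by
  by_contra hne
  refine h₀ fun M _ _ i hi => ?_
  obtain ⟨j, rfl⟩ : ∃ j, i = j + 1 := ⟨i - 1, by omega⟩
  refine LC.subsingleton_of_torsion I j (ModuleCat.of A M) fun m => ?_
  have hle : I ≤ nilradical A := by
    rw [nilradical_eq_sInf]
    refine le_sInf fun q hq g hg => ?_
    by_contra hgq
    exact hne ⟨⟨(⟨q, hq⟩ : PrimeSpectrum A), fun hz => hgq (hz hg)⟩⟩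
  obtain ⟨n, hn⟩ := Ideal.exists_pow_le_of_le_radical_of_fg (show I ≤ (⊥ : Ideal A).radical from hle)
    (IsNoetherian.noetherian I)
  exact ⟨n, fun a ha => by rw [Submodule.mem_bot _ |>.1 (hn ha), zero_smul]⟩

end Groth.Agent.LocDual54.AffinePunct
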