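import Groth.Agent.LC.HlvtMain
import Groth.Agent.LC.CohAcyclic
import Groth.Agent.Dual59.LocalDualRows
import Mathlib.RingTheory.TensorProduct.Quotient

/-!
# Vanishing of the top local cohomology from a dualizing complex
-/

universe u

open CategoryTheory CategoryTheory.Limits IsLocalRing TensorProduct Opposite

namespace Groth.Agent.LocDual54

attribute [local instance] HasDerivedCategory.standard

open Groth.Agent.LC Groth.Agent.Dual59 Groth.Agent.KFlatLib

variable {A : Type u} [CommRing A] [IsLocalRing A] [IsNoetherianRing A] {ω : Dual.D A}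

/-- If `H^0_I(ω) = 0` then the torsion submodules of `A/I^n` form a pro-zero system. -/
theorem proZero_torsion_of_HDI (hω : Dual.IsDualizing A ω) (hN : Dual.IsNormalized A ω) (I : Ideal A)
    (h0 : Subsingleton (Dual2.HDI A I ω 0)) (n : ℕ) :
    ∃ (l : ℕ) (h : n ≤ l), ∀ z ∈ DRing.torsionSub (maximalIdeal A) (A ⧸ I ^ l), (qMap I h).hom z = 0 := by
  let D : ℕᵒᵖᵒᵖ ⥤ ModuleCat.{u + 1} A :=
    (localCohomology.ringModIdeals (localCohomology.idealPowersDiagram I) ⋙
      DerivedCategory.singleFunctor (ModuleCat.{u} A) 0).op ⋙ (linearYoneda A (Dual.D A)).obj (ω⟦(0 : ℤ)⟧)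
  have := finite_shifted hω hN (A ⧸ I ^ n) 0
  obtain ⟨g, hg⟩ := Module.Finite.fg_top (R := A) (M := Dual.inD A (A ⧸ I ^ n) ⟶ ω⟦(0 : ℤ)⟧)
  have hkill : ∀ φ : Dual.inD A (A ⧸ I ^ n) ⟶ ω⟦(0 : ℤ)⟧, ∃ l, ∃ h : n ≤ l,
      pre (qMap I h).hom (ω⟦(0 : ℤ)⟧) φ = 0 := by
    intro φ
    obtain ⟨⟨⟨k⟩⟩, f, f', hk⟩ := Concrete.colimit_exists_of_rep_eq D (i := op (op n)) (j := op (op n)) φ
      (0 : D.obj (op (op n))) (h0.elim _ _)
    exact ⟨k, f.unop.unop.down.down, hk.trans (map_zero _)⟩
  choose L hL hL0 using hkill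
  classical
  refine ⟨max n (g.sup L), le_max_left _ _, fun z hz => ?_⟩
  let qm := qMap I (show n ≤ max n (g.sup L) from le_max_left _ _)
  have hpre : ∀ φ, pre qm.hom (ω⟦(0 : ℤ)⟧) φ = 0 := by
    intro φ
    have hmem : φ ∈ Submodule.span A (g : Set (Dual.inD A (A ⧸ I ^ n) ⟶ ω⟦(0 : ℤ)⟧)) := hg ▸ Submodule.mem_top
    induction hmem using Submodule.span_induction with
    | mem y hy =>
      have hle : L y ≤ max n (g.sup L) := (Finset.le_sup hy).trans (le_max_right _ _)
      have e : qm.hom = (qMap I (hL y)).hom ∘ₗ (qMap I hle).hom := Submodule.linearMap_qext _ rfl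
      rw [e, pre_comp, LinearMap.comp_apply, hL0 y, map_zero]
    | zero => exact map_zero _
    | add u v _ _ hu hv => rw [map_add, hu, hv, add_zero]
    | smul r u _ hu => rw [map_smul, hu, smul_zero]
  obtain ⟨E, _, _, f, hf⟩ := exists_injectiveHull A (ResidueField A)
  obtain ⟨P⟩ := exists_pairData hω hN hf
  have hgood := good_of_finite P hω hN (isPointDual hω hN) hf.isInjective (hull_isPowerTorsion hf) (A ⧸ I ^ n)
  obtain ⟨w, hw⟩ : ∃ w, H0Equiv (maximalIdeal A) (qObj I (max n (g.sup L))) w = ⟨z, hz⟩ :=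
    (H0Equiv (maximalIdeal A) (qObj I (max n (g.sup L)))).surjective _
  have hw0 : ((localCohomology (maximalIdeal A) 0).map qm).hom w = 0 := by
    refine (hgood 0 0 (by simp)).1 ?_
    rw [pairH_natural, map_zero]
    exact LinearMap.ext fun ψ => by rw [LinearMap.comp_apply, hpre ψ, map_zero]; rfl
  have := H0Equiv_natural (maximalIdeal A) qm w
  rw [hw0, hw, map_zero] at this
  exact this.symm

/-- `H^{dim A}_I(A) = 0` when `H^0_I(ω) = 0`. -/
theorem subsingleton_H_top_of_HDI (hω : Dual.IsDualizing A ω) (hN : Dual.IsNormalized A ω) (I : Ideal A)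
    (h0 : Subsingleton (Dual2.HDI A I ω 0)) {d : ℕ} (hd : ringKrullDim A = d) :
    Subsingleton ((localCohomology I d).obj (ModuleCat.of A A)) := by
  rcases eq_or_ne I ⊤ with rfl | hI
  · refine subsingleton_of_forall_eq 0 fun z => ?_
    obtain ⟨n, hn⟩ := isPowerTorsion_obj (⊤ : Ideal A) d (ModuleCat.of A A) z
    simpa using hn 1 (by simp [Ideal.top_pow])
  refine subsingleton_H_hlvt I hd fun p hp _ => ?_
  by_contra hlt
  let R' := AdicCompletion (maximalIdeal A) A
  have hmax : maximalIdeal A = (maximalIdeal A).map (algebraMap A A) := by rw [Algebra.algebraMap_self, Ideal.map_id]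
  have : IsNoetherianRing R' := LocalCrit.isNoetherianRing_completion (A := A) (C := A) hmax
  have : IsLocalHom (algebraMap A R') := AdicCompletion.algebraMap_isLocalHom_of_fg (IsNoetherian.noetherian _)
  let I' : Ideal R' := I.map (algebraMap A R')
  have hI' : I' ≤ maximalIdeal R' := by
    rw [AdicCompletion.maximalIdeal_eq_map (R := A)]
    exact Ideal.map_mono (le_maximalIdeal hI)
  have hpp : p.IsPrime := hp.1.1
  have hple : p ≤ maximalIdeal R' := le_maximalIdeal hpp.ne_top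
  -- the sum is primary to the maximal ideal
  obtain ⟨k, hk⟩ : ∃ k, maximalIdeal R' ^ k ≤ I' ⊔ p := by
    refine Ideal.exists_pow_le_of_le_radical_of_fg ?_ (IsNoetherian.noetherian _)
    rw [← Ideal.sInf_minimalPrimes]
    refine le_sInf fun Q hQ => ?_
    have hQp := hQ.1.1
    by_contra hne
    apply hlt
    have hQm : Q < maximalIdeal R' := lt_of_le_of_ne (le_maximalIdeal hQp.ne_top) fun e => hne e.ge
    rw [ringKrullDim_quotient]
    refine le_iSup_of_le ((RelSeries.singleton _ (⟨⟨Q, hQp⟩, hQ.1.2⟩ :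
      PrimeSpectrum.zeroLocus ((I' ⊔ p : Ideal R') : Set R'))).snoc ⟨closedPoint R', sup_le hI' hple⟩ hQm) ?_
    exact le_of_eq rfl
  obtain ⟨-, x, hx⟩ := Groth.Agent.Alg6.mem_ass_iff.1
    (Module.associatedPrimes.minimalPrimes_annihilator_subset_associatedPrimes R' R' (by
      rwa [Module.annihilator_eq_bot.2 inferInstance]))
  have hx0 : x ≠ 0 := fun e => hpp.ne_top ((Ideal.eq_top_iff_one p).2 ((hx 1).2 (by rw [e, smul_zero])))
  refine hx0 ((Submodule.mem_bot R').1 ?_)
  rw [← Ideal.iInf_pow_eq_bot_of_isLocalRing I' (ne_top_of_le_ne_top (maximalIdeal.isMaximal R').ne_top hI'),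
    Submodule.mem_iInf]
  intro n
  obtain ⟨l, hl, hzero⟩ := proZero_torsion_of_HDI hω hN I h0 n
  have hmem : x ⊗ₜ[A] (Ideal.Quotient.mk (I ^ l) 1) ∈
      DRing.torsionSub ((maximalIdeal A).map (algebraMap A R')) (R' ⊗[A] (A ⧸ I ^ l)) := by
    refine ⟨k * (l + 1), fun c hc => ?_⟩
    rw [← AdicCompletion.maximalIdeal_eq_map (R := A), pow_mul] at hc
    have hcx : c * x ∈ I' ^ l := by
      obtain ⟨u, hu, v, hv, rfl⟩ := Submodule.mem_sup.1
        (Ideal.sup_pow_add_le_pow_sup_pow (Ideal.pow_right_mono hk (l + 1) hc))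
      rw [add_mul, show v * x = 0 from (hx v).1 (by simpa using hv), add_zero]
      exact Ideal.mul_mem_right _ _ hu
    rw [smul_tmul', smul_eq_mul]
    have h1 : (Algebra.TensorProduct.quotIdealMapEquivTensorQuot R' (I ^ l))
        (Ideal.Quotient.mk ((I ^ l).map (algebraMap A R')) (c * x)) = (c * x) ⊗ₜ[A] (Ideal.Quotient.mk (I ^ l) 1) := rfl
    rw [← h1, Ideal.Quotient.eq_zero_iff_mem.2 (by rw [Ideal.map_pow]; exact hcx), map_zero]
  obtain ⟨w, hw⟩ := (
    ((baseChange_torsionSub (R' := R') (maximalIdeal A) (A ⧸ I ^ l)).2.ge hmem))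
  have hz : LinearMap.baseChange R' (qMap I hl).hom (x ⊗ₜ[A] (Ideal.Quotient.mk (I ^ l) 1)) = 0 := by
    rw [← hw, ← LinearMap.comp_apply, ← LinearMap.baseChange_comp,
      show (qMap I hl).hom ∘ₗ (DRing.torsionSub (maximalIdeal A) (A ⧸ I ^ l)).subtype = 0 from
        LinearMap.ext fun t => hzero t.1 t.2, LinearMap.baseChange_zero, LinearMap.zero_apply]
  rw [LinearMap.baseChange_tmul, qMap_mk] at hz
  rw [← Ideal.map_pow, ← Ideal.Quotient.eq_zero_iff_mem]
  exact (Algebra.TensorProduct.quotIdealMapEquivTensorQuot R' (I ^ n)).injective (hz.trans (map_zero _).symm)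

/-- The cohomological dimension drops. -/
theorem subsingleton_H_of_HDI (hω : Dual.IsDualizing A ω) (hN : Dual.IsNormalized A ω) (I : Ideal A)
    (h0 : Subsingleton (Dual2.HDI A I ω 0)) (M : Type u) [AddCommGroup M] [Module A M] (i : ℕ)
    (hi : ringKrullDim A ≤ (i : WithBot ℕ∞)) : Subsingleton (LocCoh.H I i M) := by
  obtain ⟨d, hd⟩ : ∃ d : ℕ, ringKrullDim A = d := by
    obtain ⟨e, he⟩ := WithBot.ne_bot_iff_exists.1 (ringKrullDim_ne_bot (R := A))
    have : e ≠ ⊤ := fun h => by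
      rw [← he, h] at hi
      exact not_le.2 (WithBot.coe_lt_coe.2 (ENat.natCast_lt_top i)) hi
    obtain ⟨d, rfl⟩ := ENat.ne_top_iff_exists.1 this
    exact ⟨d, he.symm⟩
  have htop := subsingleton_H_top_of_HDI hω hN I h0 hd
  have hdi : d ≤ i := by
    rw [hd] at hi
    exact_mod_cast hi
  rcases d with _ | d
  · rcases eq_or_ne I ⊤ with rfl | hI
    · refine subsingleton_of_forall_eq 0 fun z => ?_
      obtain ⟨n, hn⟩ := isPowerTorsion_obj (⊤ : Ideal A) i (ModuleCat.of A M) z
      simpa using hn 1 (by simp [Ideal.top_pow])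
    · exfalso
      have : Ring.KrullDimLE 0 A := (Order.krullDimLE_iff _ _).2 hd.le
      obtain ⟨n, hn⟩ : ∃ n, I ^ n ≤ ⊥ := Ideal.exists_pow_le_of_le_radical_of_fg
        ((le_maximalIdeal hI).trans (le_of_eq (Ring.KrullDimLE.nilradical_eq_maximalIdeal A).symm)) (IsNoetherian.noetherian _)
      have h1 : (1 : A) ∈ DRing.torsionSub I A := ⟨n, fun a ha => by rw [(hn ha : a = 0), zero_smul]⟩
      have := (H0Equiv I (ModuleCat.of A A)).symm.toEquiv.subsingleton
      exact one_ne_zero (congrArg Subtype.val (Subsingleton.elim (⟨1, h1⟩ : DRing.torsionSub I A) 0))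
  · refine (cdLE_of_ring (I := I) (d := d) fun j hj => ?_) M i (by omega)
    rcases (Nat.succ_le_of_lt hj).eq_or_lt with h | h
    · exact h ▸ htop
    · exact cdLE_of_ringKrullDim_le I hd.le A j h

end Groth.Agent.LocDual54
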