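import Groth.Agent.LocDual54.KosLocal
import Groth.Agent.H9Misc.DRingCompl

/-!
# Greenlees–May duality
-/

universe u

open CategoryTheory CategoryTheory.Limits CategoryTheory.Pretriangulated

namespace Groth.Agent.LocDual54

attribute [local instance] HasDerivedCategory.standard

variable {A : Type u} [CommRing A] (I : Ideal A)

theorem isDerivedComplete_shift {M : Dual.D A} (h : DRing.IsDerivedComplete I M) (a : ℤ) :
    DRing.IsDerivedComplete I (M⟦a⟧) := fun f hf n => by
  have := h f hf (a + n)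
  exact ⟨fun p q => (cancel_mono ((shiftFunctorAdd (Dual.D A) a n).app M).inv).1 (this.elim _ _)⟩

/-- A surjective multiplication on maps into a complete object forces them to vanish. -/
theorem eq_zero_of_smul_surjective {f : A} (hf : f ∈ I) {T M : Dual.D A} (hM : DRing.IsDerivedComplete I M)
    (h : ∀ x : T ⟶ M, ∃ y : T ⟶ M, f • y = x) (x : T ⟶ M) : x = 0 := by
  have htb := H9Misc.TelLocal.tb_sc_of_separating f M _ (H9Misc.DRingCompl.isSeparating_self (A := A))
    (fun P hP => by
      rw [ObjectProperty.singleton_iff] at hP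
      subst hP
      exact (H9Misc.DRingCompl.cg_iff_tbOn f M).1 (hM f hf)) T
  choose d hd using h
  exact htb.eq_zero (fun k => Nat.rec (motive := fun _ => T ⟶ M) x (fun _ z => d z) k)
    (fun k => (hd _).symm) 0

/-- Vanishing iterated cones are left orthogonal to complete objects. -/
theorem hom_complete_eq_zero_of_kosZero : ∀ (fs : List A) (C : Dual.D A), KosZero fs C → (∀ f ∈ fs, f ∈ I) →
    ∀ M : Dual.D A, DRing.IsDerivedComplete I M → ∀ x : C ⟶ M, x = 0 := by
  intro fs
  induction fs with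
  | nil => exact fun C hC _ M _ x => IsZero.eq_of_src hC x 0
  | cons f fs ih =>
    rintro C ⟨C', g, h, hT, hC'⟩ hfs M hM x
    refine eq_zero_of_smul_surjective I (hfs f List.mem_cons_self) hM (fun y => ?_) x
    let T := (Triangle.mk (f • 𝟙 C) g h).invRotate
    have hz : ∀ w : C'⟦(-1 : ℤ)⟧ ⟶ M, w = 0 := fun w => by
      let e := (shiftEquiv' (Dual.D A) (-1 : ℤ) 1 (neg_add_cancel 1)).toAdjunction.homEquiv C' M
      have h0 := ih C' hC' (fun a ha => hfs a (List.mem_cons_of_mem _ ha)) _ (isDerivedComplete_shift I hM 1)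
      exact e.injective ((h0 (e w)).trans (h0 (e 0)).symm)
    obtain ⟨y', hy'⟩ := T.yoneda_exact₂ (inv_rot_of_distTriang _ hT) y (hz _)
    refine ⟨y', ?_⟩
    rw [hy']
    show f • y' = (f • 𝟙 C) ≫ y'
    exact (congrArg (f • ·) (Category.id_comp y').symm).trans (Linear.smul_comp _ _ _ _ _ _).symm

/-- The elements of `fs` are nilpotent on the object. -/
def NilpOn (fs : List A) (M : Dual.D A) : Prop := ∀ f ∈ fs, ∃ n : ℕ, f ^ n • 𝟙 M = 0

theorem isDerivedComplete_of_nilp (fs : List A) (hspan : I ≤ Ideal.span {a | a ∈ fs}) {M : Dual.D A}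
    (hM : NilpOn fs M) : DRing.IsDerivedComplete I M := fun f hf n => by
  have hle : I ≤ Ideal.radical (LinearMap.ker (LinearMap.toSpanSingleton A (M ⟶ M) (𝟙 M))) :=
    hspan.trans (Ideal.span_le.2 fun a ha => (hM a ha).imp fun _ hk => hk)
  obtain ⟨k, hk⟩ := hle hf
  rw [LinearMap.mem_ker, LinearMap.toSpanSingleton_apply] at hk
  refine subsingleton_of_forall_eq 0 fun x => ?_
  have hzero : ∀ y : Dual.inD A (Localization.Away f) ⟶ M⟦n⟧, f ^ k • y = 0 := by
    intro y
    have := congrArg (fun m : M ⟶ M => y ≫ m⟦n⟧') hk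
    simpa [Functor.map_smul] using this
  have : IsIso (f • 𝟙 (Dual.inD A (Localization.Away f))) := H9Misc.DRingCompl.isIso_smul_inD_away f
  have hinj : ∀ y : Dual.inD A (Localization.Away f) ⟶ M⟦n⟧, f • y = 0 → y = 0 := fun y hy => by
    rw [← cancel_epi (f • 𝟙 (Dual.inD A (Localization.Away f))), comp_zero, Linear.smul_comp,
      Category.id_comp, hy]
  have hk0 := hzero x
  clear hk hzero
  induction k with
  | zero => simpa using hk0
  | succ k ih => exact ih (hinj _ (by rw [← mul_smul, ← pow_succ']; exact hk0))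

theorem nilp_cone {f : A} {fs : List A} {C C' : Dual.D A} {g : C ⟶ C'} {h : C' ⟶ C⟦(1 : ℤ)⟧}
    (hT : Triangle.mk (f • 𝟙 C) g h ∈ distTriang _) (hfs : NilpOn fs C) : NilpOn (f :: fs) C' := by
  have hstep : ∀ (a : A) (n : ℕ), a ^ n • g = 0 → ∃ s : C⟦(1 : ℤ)⟧ ⟶ C', a ^ n • 𝟙 C' = h ≫ s := by
    intro a n ha
    exact Triangle.yoneda_exact₃ _ hT _ (by
      show g ≫ (a ^ n • 𝟙 C') = 0
      rw [Linear.comp_smul, Category.comp_id, ha])
  intro a ha
  rcases List.mem_cons.1 ha with rfl | ha
  · have hg : a • g = 0 := by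
      have h12 := comp_distTriang_mor_zero₁₂ _ hT
      have h12' : (a • 𝟙 C) ≫ g = 0 := h12
      rwa [Linear.smul_comp, Category.id_comp] at h12'
    obtain ⟨s, hs⟩ := hstep a 1 (by rwa [pow_one])
    have h31 : h ≫ (a • 𝟙 C)⟦(1 : ℤ)⟧' = 0 := comp_distTriang_mor_zero₃₁ _ hT
    rw [Functor.map_smul, CategoryTheory.Functor.map_id, Linear.comp_smul, Category.comp_id] at h31
    refine ⟨2, ?_⟩
    rw [pow_one] at hs
    calc a ^ 2 • 𝟙 C' = a • (a • 𝟙 C') := by rw [pow_two, mul_smul]
      _ = a • (h ≫ s) := by rw [hs]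
      _ = (a • h) ≫ s := by rw [Linear.smul_comp]
      _ = 0 := by rw [h31, zero_comp]
  · obtain ⟨n, hn⟩ := hfs a ha
    have hg : a ^ n • g = 0 := by
      rw [← Category.id_comp g, ← Linear.smul_comp, hn, zero_comp]
    obtain ⟨s, hs⟩ := hstep a n hg
    refine ⟨n + n, ?_⟩
    have h1 : a ^ n • 𝟙 (C⟦(1 : ℤ)⟧) = 0 := by
      rw [← CategoryTheory.Functor.map_id, ← Functor.map_smul, hn, Functor.map_zero]
    rw [pow_add, mul_smul, hs, ← Linear.comp_smul, ← Category.id_comp s, ← Linear.smul_comp, h1, zero_comp,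
      comp_zero]

/-- Left orthogonal to all complete objects. -/
def IsOrth (Q : Dual.D A) : Prop := ∀ M : Dual.D A, DRing.IsDerivedComplete I M → ∀ x : Q ⟶ M, x = 0

theorem kosZero_of_isOrth : ∀ (fs ds : List A) (Q : Dual.D A), IsOrth I Q → NilpOn ds Q →
    I ≤ Ideal.span {a | a ∈ ds ∨ a ∈ fs} → KosZero fs Q := by
  intro fs
  induction fs with
  | nil =>
    intro ds Q hQ hds hspan
    refine (IsZero.iff_id_eq_zero Q).2 (hQ Q (isDerivedComplete_of_nilp I ds (hspan.trans
      (Ideal.span_mono fun a ha => ha.resolve_right List.not_mem_nil)) hds) (𝟙 Q))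
  | cons f fs ih =>
    intro ds Q hQ hds hspan
    obtain ⟨Q', g, h, hT⟩ := distinguished_cocone_triangle (f • 𝟙 Q)
    refine ⟨Q', g, h, hT, ih (f :: ds) Q' (fun M hM x => ?_) (nilp_cone hT hds) (hspan.trans (Ideal.span_mono ?_))⟩
    · obtain ⟨w, hw⟩ := Triangle.yoneda_exact₃ _ hT x (hQ M hM _)
      let e := (shiftEquiv' (Dual.D A) (1 : ℤ) (-1) (add_neg_cancel 1)).toAdjunction.homEquiv Q M
      have h0 := hQ _ (isDerivedComplete_shift I hM (-1))
      rw [hw, show w = 0 from e.injective ((h0 (e w)).trans (h0 (e 0)).symm)]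
      exact comp_zero
    · intro a ha
      simp only [List.mem_cons, Set.mem_setOf_eq] at ha ⊢
      tauto

theorem isOrth_of_yoneda {X Y : Dual.D A} {f : X ⟶ Y}
    (hf : ∀ M : Dual.D A, DRing.IsDerivedComplete I M → Function.Bijective fun x : Y ⟶ M => f ≫ x)
    {C : Dual.D A} {g : Y ⟶ C} {h : C ⟶ X⟦(1 : ℤ)⟧} (hT : Triangle.mk f g h ∈ distTriang _) : IsOrth I C := by
  intro M hM x
  have hgx : g ≫ x = 0 := (hf M hM).1 (by
    show f ≫ g ≫ x = f ≫ 0
    rw [comp_zero, ← Category.assoc]
    exact (congrArg (· ≫ x) (comp_distTriang_mor_zero₁₂ _ hT)).trans zero_comp)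
  obtain ⟨w, hw⟩ := Triangle.yoneda_exact₃ _ hT x hgx
  let e := (shiftEquiv' (Dual.D A) (1 : ℤ) (-1) (add_neg_cancel 1)).toAdjunction.homEquiv X M
  obtain ⟨y, hy⟩ := (hf _ (isDerivedComplete_shift I hM (-1))).2 (e w)
  let e' := (shiftEquiv' (Dual.D A) (1 : ℤ) (-1) (add_neg_cancel 1)).toAdjunction.homEquiv Y M
  have hwy : w = f⟦(1 : ℤ)⟧' ≫ e'.symm y := by
    have := ((shiftEquiv' (Dual.D A) (1 : ℤ) (-1) (add_neg_cancel 1)).toAdjunction.homEquiv_naturality_left_symm f y).symm
    refine Eq.trans ?_ this.symm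
    exact (e.symm_apply_apply w).symm.trans (congrArg e.symm hy.symm)
  rw [hw, hwy]
  refine (Category.assoc _ _ _).symm.trans ?_
  exact (congrArg (· ≫ e'.symm y) (comp_distTriang_mor_zero₃₁ _ hT)).trans zero_comp

variable [IsNoetherianRing A]

theorem exists_list' : ∃ fs : List A, I = Ideal.span {a | a ∈ fs} := by
  obtain ⟨s, hs⟩ : I.FG := IsNoetherian.noetherian I
  refine ⟨s.toList, ?_⟩
  rw [← hs]
  congr 1
  ext a
  simp

variable [DRing.HasRgammaI I]

theorem isOrth_of_isLocal {C : Dual.D A} (h : IsLocal I C) : IsOrth I C := by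
  obtain ⟨fs, hfs⟩ := exists_list' I
  exact hom_complete_eq_zero_of_kosZero I fs C (kosZero_of_isLocal I fs hfs h)
    fun f hf => hfs ▸ Ideal.subset_span hf

theorem isLocal_of_isOrth {C : Dual.D A} (h : IsOrth I C) : IsLocal I C := by
  obtain ⟨fs, hfs⟩ := exists_list' I
  refine isLocal_of_kosZero I fs (fun f hf => hfs ▸ Ideal.subset_span hf)
    (kosZero_of_isOrth I fs [] C h (fun f hf => absurd hf List.not_mem_nil) ?_)
  exact hfs.le.trans (Ideal.span_mono fun _ ha => Or.inr ha)

/-- The universal property identifies the coreflection. -/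
theorem nonempty_iso_of_comp_bijective (P : Dual.D A) {K : Dual.D A} (π : P ⟶ K)
    (hπ : ∀ L, IsTors I L → Function.Bijective fun f : L ⟶ P => f ≫ π) (hP : IsTors I P) :
    Nonempty ((DRing.RgammaI I).obj K ≅ P) := by
  have hQ : IsTors I ((DRing.RgammaI I).obj K) := isPowerTorsion_HD_rgamma I K
  obtain ⟨α, hα⟩ := (comp_ε_bijective I P K hP).2 π
  obtain ⟨β, hβ⟩ := (hπ _ hQ).2 ((DRing.RgammaIε I).app K)
  simp only at hα hβ
  exact ⟨{ hom := β, inv := α
           hom_inv_id := (comp_ε_bijective I _ K hQ).1 (by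
             show (β ≫ α) ≫ _ = 𝟙 _ ≫ _
             rw [Category.assoc, hα, hβ, Category.id_comp])
           inv_hom_id := (hπ P hP).1 (by
             show (α ≫ β) ≫ π = 𝟙 P ≫ π
             rw [Category.assoc, hβ, hα, Category.id_comp]) }⟩

variable [DRing.HasDerivedCompletion I]

theorem toCompl_bijective (K M : Dual.D A) (hM : DRing.IsDerivedComplete I M) :
    Function.Bijective fun x : ((DRing.derivedCompletion I).obj K).obj ⟶ M => DRing.toDerivedCompletion I K ≫ x := by
  let Mc : DRing.DComp I := ⟨M, hM⟩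
  have e : (fun x : ((DRing.derivedCompletion I).obj K).obj ⟶ M => DRing.toDerivedCompletion I K ≫ x) =
      (DRing.derivedCompletionAdj I).homEquiv K Mc ∘ (fun x => ObjectProperty.homMk x) := by
    funext x
    exact ((DRing.derivedCompletionAdj I).homEquiv_unit (Y := Mc) (f := ObjectProperty.homMk x)).symm
  rw [e]
  exact ((DRing.derivedCompletionAdj I).homEquiv K Mc).bijective.comp
    ⟨fun x y h => congrArg (fun z : (DRing.derivedCompletion I).obj K ⟶ Mc => z.hom) h,
      fun z => ⟨z.hom, rfl⟩⟩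

theorem greenlees_may (K : Dual.D A) :
    Nonempty ((DRing.RgammaI I).obj ((DRing.derivedCompletion I).obj K).obj ≅ (DRing.RgammaI I).obj K) ∧
      Nonempty ((DRing.derivedCompletion I).obj ((DRing.RgammaI I).obj K) ≅ (DRing.derivedCompletion I).obj K) := by
  constructor
  · let η := DRing.toDerivedCompletion I K
    obtain ⟨C, g, h, hT⟩ := distinguished_cocone_triangle η
    have hC : IsLocal I C := isLocal_of_isOrth I (isOrth_of_yoneda I (fun M hM => toCompl_bijective I K M hM) hT)
    obtain ⟨e⟩ := nonempty_iso_of_comp_bijective I (DRing.RgammaI I |>.obj K) ((DRing.RgammaIε I).app K ≫ η)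
      (fun L hL => by
        have := (comp_bijective_of_isLocal I _ hT hC L hL).comp (comp_ε_bijective I L K hL)
        refine (congrArg Function.Bijective (funext fun x => ?_)).mpr this
        exact (Category.assoc x _ _).symm)
      (isPowerTorsion_HD_rgamma I K)
    exact ⟨e⟩
  · obtain ⟨C, g, h, hT, hC⟩ := exists_local_triangle I K
    have hC' := isOrth_of_isLocal I hC
    have hC'' : ∀ (M : Dual.D A), DRing.IsDerivedComplete I M → ∀ x : C⟦(-1 : ℤ)⟧ ⟶ M, x = 0 := fun M hM x => by
      let e := (shiftEquiv' (Dual.D A) (-1 : ℤ) 1 (neg_add_cancel 1)).toAdjunction.homEquiv C M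
      have h0 := hC' _ (isDerivedComplete_shift I hM 1)
      exact e.injective ((h0 (e x)).trans (h0 (e 0)).symm)
    have hbij : ∀ M : Dual.D A, DRing.IsDerivedComplete I M →
        Function.Bijective fun x : K ⟶ M => (DRing.RgammaIε I).app K ≫ x := fun M hM => by
      constructor
      · intro x y hxy
        refine sub_eq_zero.1 ?_
        obtain ⟨w, hw⟩ := Triangle.yoneda_exact₂ _ hT (x - y) (by
          show (DRing.RgammaIε I).app K ≫ (x - y) = 0
          exact (Preadditive.comp_sub _ _ _).trans (sub_eq_zero.2 hxy))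
        rw [hw, hC' M hM w]
        exact comp_zero
      · intro y
        obtain ⟨x, hx⟩ := Triangle.yoneda_exact₂ _ (inv_rot_of_distTriang _ hT) y (hC'' M hM _)
        exact ⟨x, hx.symm⟩
    let a := (DRing.derivedCompletion I).map ((DRing.RgammaIε I).app K)
    have : IsIso a := isIso_of_coyoneda_map_bijective a fun M => by
      let adj := DRing.derivedCompletionAdj I
      have e : (fun x : (DRing.derivedCompletion I).obj K ⟶ M => a ≫ x) =
          (adj.homEquiv ((DRing.RgammaI I).obj K) M).symm ∘ (fun x => (DRing.RgammaIε I).app K ≫ x) ∘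
            adj.homEquiv K M := by
        funext x
        simp only [Function.comp_apply]
        exact ((adj.homEquiv_naturality_left_symm _ _).trans (congrArg (a ≫ ·) (Equiv.symm_apply_apply _ x))).symm
      refine (congrArg Function.Bijective e).mpr ?_
      exact (adj.homEquiv _ M).symm.bijective.comp ((hbij M.obj M.property).comp (adj.homEquiv K M).bijective)
    exact ⟨asIso a⟩

end Groth.Agent.LocDual54
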