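import Mathlib

/-!
# `lim¹` of a tower which is pro-isomorphic to a constant one
-/

universe u v

namespace Groth.Agent.LocDual54

variable {G : Type u} [AddCommGroup G] {H : ℕ → Type v} [∀ n, AddCommGroup (H n)]
  (T : ∀ n, H (n + 1) →+ H n)

/-- Images of `y (n + d)` in degree `n`. -/
def towE (y : ∀ n, H n) : ℕ → ∀ n, H n
  | 0, n => y n
  | d + 1, n => T n (towE y d (n + 1))

/-- Partial sums. -/
def towS (y : ∀ n, H n) : ℕ → ∀ n, H n
  | 0, _ => 0
  | d + 1, n => y n + T n (towS y d (n + 1))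

theorem towS_succ_sub (y : ∀ n, H n) : ∀ d n, towS T y (d + 1) n = towS T y d n + towE T y d n := by
  intro d
  induction d with
  | zero => intro n; simp [towS, towE]
  | succ d ih =>
    intro n
    show y n + T n (towS T y (d + 1) (n + 1)) = y n + T n (towS T y d (n + 1)) + T n (towE T y d (n + 1))
    rw [ih, map_add, add_assoc]

variable (a : ∀ n, G →+ H n) (ha : ∀ n g, T n (a (n + 1) g) = a n g) (y : ∀ n, H n)

theorem towS_sub_mem (n d₀ : ℕ) (hd : ∀ d ≥ d₀, ∃ g, a n g = towE T y d n) :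
    ∀ D₁ D₂, d₀ ≤ D₁ → D₁ ≤ D₂ → ∃ g, a n g = towS T y D₂ n - towS T y D₁ n := by
  intro D₁ D₂ h1 h2
  induction D₂, h2 using Nat.le_induction with
  | base => exact ⟨0, by simp⟩
  | succ D hD ih =>
    obtain ⟨g, hg⟩ := ih
    obtain ⟨g', hg'⟩ := hd D (h1.trans hD)
    exact ⟨g + g', by rw [map_add, hg, hg', towS_succ_sub]; abel⟩

include ha in
/-- The map `1 - shift` is surjective on a tower whose cokernel by a constant tower is pro-zero. -/
theorem exists_sub_shift (hd : ∀ n, ∃ d₀, ∀ d ≥ d₀, ∃ g, a n g = towE T y d n) :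
    ∃ x : ∀ n, H n, ∀ n, x n - T n (x (n + 1)) = y n := by
  choose d₀ hd₀ using hd
  let D : ℕ → ℕ := fun n => Nat.rec (d₀ 0) (fun n Dn => max (d₀ (n + 1)) Dn) n
  have hD0 : ∀ n, d₀ n ≤ D n := by
    intro n
    cases n with
    | zero => exact le_rfl
    | succ n => exact le_max_left _ _
  have hDm : ∀ n, D n ≤ D (n + 1) := fun n => le_max_right (d₀ (n + 1)) (D n)
  choose r hr using fun n => towS_sub_mem T a y n (d₀ n) (hd₀ n) (D n) (D (n + 1) + 1) (hD0 n)
    ((hDm n).trans (Nat.le_succ _))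
  let h : ℕ → G := fun n => Nat.rec 0 (fun n hn => hn - r n) n
  refine ⟨fun n => towS T y (D n) n + a n (h n), fun n => ?_⟩
  have e1 : T n (towS T y (D (n + 1)) (n + 1)) = towS T y (D (n + 1) + 1) n - y n :=
    eq_sub_of_add_eq' rfl
  have e2 : h (n + 1) = h n - r n := rfl
  simp only [map_add, ha, e1, e2, map_sub, hr]
  abel

end Groth.Agent.LocDual54
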