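import Mathlib

/-!
# Homology of complexes of modules through elements
-/

universe v u

open CategoryTheory Limits

namespace Groth.Agent.LocDual54

variable {R : Type u} [CommRing R] {K L : CochainComplex (ModuleCat.{v} R) ℤ} {q : ℤ}

variable (K) in
/-- The class map from cocycles. -/
theorem exists_cycle (q : ℤ) (z : K.homology q) : ∃ c : K.cycles q, (K.homologyπ q).hom c = z :=
  (ModuleCat.epi_iff_surjective (K.homologyπ q)).1 inferInstance z

/-- A cocycle as an element of `cycles`. -/
theorem exists_cycles_eq (x : K.X q) (hx : (K.d q (q + 1)).hom x = 0) :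
    ∃ c : K.cycles q, (K.iCycles q).hom c = x :=
  ((ShortComplex.ShortExact.moduleCat_exact_iff_function_exact (ShortComplex.mk _ _ (K.iCycles_d q (q + 1)))).1
    (ShortComplex.exact_of_f_is_kernel _ (K.cyclesIsKernel q (q + 1) (by simp))) x).1 hx

theorem d_iCycles (c : K.cycles q) : (K.d q (q + 1)).hom ((K.iCycles q).hom c) = 0 :=
  ConcreteCategory.congr_hom (K.iCycles_d q (q + 1)) c

theorem iCycles_injective : Function.Injective (K.iCycles q).hom :=
  (ModuleCat.mono_iff_injective _).1 inferInstance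

theorem homologyπ_eq_zero_iff (c : K.cycles q) :
    (K.homologyπ q).hom c = 0 ↔ ∃ w : K.X (q - 1), (K.d (q - 1) q).hom w = (K.iCycles q).hom c := by
  rw [(ShortComplex.ShortExact.moduleCat_exact_iff_function_exact
    (ShortComplex.mk _ _ (K.toCycles_comp_homologyπ (q - 1) q))).1
    (ShortComplex.exact_of_g_is_cokernel _ (K.homologyIsCokernel (q - 1) q (by simp))) c]
  refine exists_congr fun w => ?_
  rw [← iCycles_injective.eq_iff, show (K.iCycles q).hom ((K.toCycles (q - 1) q).hom w) = _ from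
    ConcreteCategory.congr_hom (K.toCycles_i (q - 1) q) w]

theorem homologyπ_eq_iff (c c' : K.cycles q) :
    (K.homologyπ q).hom c = (K.homologyπ q).hom c' ↔
      ∃ w : K.X (q - 1), (K.d (q - 1) q).hom w = (K.iCycles q).hom c - (K.iCycles q).hom c' := by
  rw [← sub_eq_zero, ← map_sub, homologyπ_eq_zero_iff, map_sub]

variable (φ : K ⟶ L)

theorem f_iCycles (c : K.cycles q) :
    (L.iCycles q).hom ((HomologicalComplex.cyclesMap φ q).hom c) = (φ.f q).hom ((K.iCycles q).hom c) :=
  ConcreteCategory.congr_hom (HomologicalComplex.cyclesMap_i φ q) c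

theorem homologyMap_homologyπ (c : K.cycles q) :
    (HomologicalComplex.homologyMap φ q).hom ((K.homologyπ q).hom c) =
      (L.homologyπ q).hom ((HomologicalComplex.cyclesMap φ q).hom c) :=
  ConcreteCategory.congr_hom (HomologicalComplex.homologyπ_naturality φ q) c

theorem d_f (p p' : ℤ) (x : K.X p) : (L.d p p').hom ((φ.f p).hom x) = (φ.f p').hom ((K.d p p').hom x) :=
  ConcreteCategory.congr_hom (φ.comm p p') x

/-- Bijectivity in homology, in terms of elements. -/
theorem homologyMap_bijective_of_elem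
    (surj : ∀ x : L.X q, (L.d q (q + 1)).hom x = 0 → ∃ y : K.X q, (K.d q (q + 1)).hom y = 0 ∧
      ∃ w : L.X (q - 1), (L.d (q - 1) q).hom w = x - (φ.f q).hom y)
    (inj : ∀ y : K.X q, (K.d q (q + 1)).hom y = 0 →
      (∃ w : L.X (q - 1), (L.d (q - 1) q).hom w = (φ.f q).hom y) →
        ∃ v : K.X (q - 1), (K.d (q - 1) q).hom v = y) :
    Function.Bijective (HomologicalComplex.homologyMap φ q).hom := by
  constructor
  · rw [injective_iff_map_eq_zero]
    intro z hz
    obtain ⟨c, rfl⟩ := exists_cycle K q z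
    rw [homologyMap_homologyπ, homologyπ_eq_zero_iff, f_iCycles] at hz
    exact (homologyπ_eq_zero_iff c).2 (inj _ (d_iCycles c) hz)
  · intro z
    obtain ⟨c, rfl⟩ := exists_cycle L q z
    obtain ⟨y, hy, w, hw⟩ := surj _ (d_iCycles c)
    obtain ⟨c', rfl⟩ := exists_cycles_eq y hy
    refine ⟨(K.homologyπ q).hom c', ?_⟩
    rw [homologyMap_homologyπ, eq_comm, homologyπ_eq_iff, f_iCycles]
    exact ⟨w, hw⟩

theorem quasiIso_of_elem
    (surj : ∀ (q : ℤ) (x : L.X q), (L.d q (q + 1)).hom x = 0 → ∃ y : K.X q, (K.d q (q + 1)).hom y = 0 ∧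
      ∃ w : L.X (q - 1), (L.d (q - 1) q).hom w = x - (φ.f q).hom y)
    (inj : ∀ (q : ℤ) (y : K.X q), (K.d q (q + 1)).hom y = 0 →
      (∃ w : L.X (q - 1), (L.d (q - 1) q).hom w = (φ.f q).hom y) →
        ∃ v : K.X (q - 1), (K.d (q - 1) q).hom v = y) : QuasiIso φ where
  quasiIsoAt q := by
    rw [quasiIsoAt_iff_isIso_homologyMap]
    exact (ConcreteCategory.isIso_iff_bijective _).2 (homologyMap_bijective_of_elem φ (surj q) (inj q))

end Groth.Agent.LocDual54
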