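import Groth.Prelude.Def_DRing3
import Groth.Agent.TriCat.DerivedOfAdjunction
import Groth.Agent.TriCat.KInjRes
import Groth.Agent.LocDual54.CxElem

/-!
# `RΓ_I` on `D(A)` through K-injective complexes
-/

universe w v v' u u'

open CategoryTheory CategoryTheory.Limits

namespace Groth.Agent.LocDual54

section Gen

variable {C : Type u} [Category.{v} C] [Abelian C] [HasDerivedCategory.{w} C]
  {H : Type u'} [Category.{v'} H] (F : HomotopyCategory C (ComplexShape.up ℤ) ⥤ H)

/-- A right derived functor on `D(C)` is computed by K-injective complexes. -/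
theorem isIso_unit_kinj
    (hK : ∀ K : CochainComplex C ℤ, ∃ (I : CochainComplex C ℤ) (f : K ⟶ I), I.IsKInjective ∧ QuasiIso f)
    [F.HasRightDerivedFunctor (HomotopyCategory.quasiIso C (ComplexShape.up ℤ))]
    (I : CochainComplex C ℤ) [I.IsKInjective] :
    IsIso ((F.totalRightDerivedUnit DerivedCategory.Qh (HomotopyCategory.quasiIso C (ComplexShape.up ℤ))).app
      ((HomotopyCategory.quotient C (ComplexShape.up ℤ)).obj I)) := by
  open Groth.Agent.TriCat in
  have := qh_isLeftAdjoint_of_exists_resolution hK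
  let adj := Adjunction.ofIsLeftAdjoint (DerivedCategory.Qh (C := C))
  let W := HomotopyCategory.quasiIso C (ComplexShape.up ℤ)
  have hd := isRightDerivedFunctor_of_adjunction adj W F
  have := isIso_unit_of_isKInjective adj I
  let α := F.totalRightDerivedUnit DerivedCategory.Qh W
  let α' : F ⟶ DerivedCategory.Qh ⋙ DerivedCategory.Qh.rightAdjoint ⋙ F :=
    Functor.whiskerRight adj.unit F
  let e := Functor.rightDerivedUnique _ _ α α' W
  have h : IsIso (α'.app ((HomotopyCategory.quotient C (ComplexShape.up ℤ)).obj I)) :=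
    inferInstanceAs (IsIso (F.map _))
  have hf := Functor.rightDerived_fac_app _ α W _ α' ((HomotopyCategory.quotient C (ComplexShape.up ℤ)).obj I)
  have h2 : IsIso (α.app ((HomotopyCategory.quotient C (ComplexShape.up ℤ)).obj I) ≫
      e.hom.app (DerivedCategory.Qh.obj ((HomotopyCategory.quotient C (ComplexShape.up ℤ)).obj I))) := by
    have : e.hom = Functor.rightDerivedDesc _ α W _ α' := by
      simp [e, Functor.rightDerivedNatTrans]
    rw [this, hf]
    exact h
  exact IsIso.of_isIso_comp_right _ (e.hom.app _)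

end Gen

attribute [local instance] HasDerivedCategory.standard

variable {A : Type u} [CommRing A] (I : Ideal A)

/-- The subcomplex of `I`-power torsion elements. -/
noncomputable abbrev gammaCx (J : CochainComplex (ModuleCat.{u} A) ℤ) : CochainComplex (ModuleCat.{u} A) ℤ :=
  ((DRing.gammaI I).mapHomologicalComplex (ComplexShape.up ℤ)).obj J

/-- The inclusion of the subcomplex of `I`-power torsion elements. -/
noncomputable abbrev gammaCxι (J : CochainComplex (ModuleCat.{u} A) ℤ) : gammaCx I J ⟶ J where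
  f n := (DRing.gammaIι I).app (J.X n)
  comm' _ _ _ := ((DRing.gammaIι I).naturality _).symm

theorem gammaCxι_f (J : CochainComplex (ModuleCat.{u} A) ℤ) (n : ℤ) (x : DRing.torsionSub I (J.X n)) :
    ((gammaCxι I J).f n).hom x = x.1 := rfl

theorem exists_res (M : CochainComplex (ModuleCat.{u} A) ℤ) :
    ∃ (J : CochainComplex (ModuleCat.{u} A) ℤ) (f : M ⟶ J), J.IsKInjective ∧ QuasiIso f := by
  obtain ⟨J, f, hJ, hf, -, -⟩ := TriCat.exists_kInjective_resolution'.{u} M
  exact ⟨J, f, hJ, hf⟩

/-- Every object of `D(A)` is a K-injective complex of injective modules. -/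
theorem exists_kinj_rep (K : Dual.D A) : ∃ J : CochainComplex (ModuleCat.{u} A) ℤ,
    J.IsKInjective ∧ (∀ n, Injective (J.X n)) ∧ Nonempty (DerivedCategory.Q.obj J ≅ K) := by
  obtain ⟨M, ⟨e⟩⟩ : ∃ M, Nonempty (DerivedCategory.Q.obj M ≅ K) :=
    ⟨_, ⟨DerivedCategory.Q.objObjPreimageIso K⟩⟩
  obtain ⟨J, f, hJ, hf, -, hinj⟩ := TriCat.exists_kInjective_resolution'.{u} M
  exact ⟨J, hJ, hinj, ⟨(asIso (DerivedCategory.Q.map f)).symm ≪≫ e⟩⟩

variable [DRing.HasRgammaI I]

/-- `Γ_I J → RΓ_I J`. -/
noncomputable def rgammaUnit (J : CochainComplex (ModuleCat.{u} A) ℤ) :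
    DerivedCategory.Q.obj (gammaCx I J) ⟶ (DRing.RgammaI I).obj (DerivedCategory.Q.obj J) :=
  (DerivedCategory.quotientCompQhIso (ModuleCat.{u} A)).inv.app (gammaCx I J) ≫
    DerivedCategory.Qh.map (((DRing.gammaI I).mapHomotopyCategoryFactors (ComplexShape.up ℤ)).inv.app J) ≫
    ((DRing.gammaIKh I).totalRightDerivedUnit DerivedCategory.Qh
      (HomotopyCategory.quasiIso (ModuleCat.{u} A) (ComplexShape.up ℤ))).app
      ((HomotopyCategory.quotient (ModuleCat.{u} A) (ComplexShape.up ℤ)).obj J) ≫
    (DRing.RgammaI I).map ((DerivedCategory.quotientCompQhIso (ModuleCat.{u} A)).hom.app J)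

instance isIso_rgammaUnit (J : CochainComplex (ModuleCat.{u} A) ℤ) [J.IsKInjective] :
    IsIso (rgammaUnit I J) := by
  have := isIso_unit_kinj (DRing.gammaIKh I) exists_res J
  unfold rgammaUnit
  infer_instance

/-- `Γ_I J → RΓ_I J → J` is the inclusion. -/
theorem rgammaUnit_ε (J : CochainComplex (ModuleCat.{u} A) ℤ) :
    rgammaUnit I J ≫ (DRing.RgammaIε I).app (DerivedCategory.Q.obj J) =
      DerivedCategory.Q.map (gammaCxι I J) := by
  have h := (DRing.RgammaI I).rightDerived_fac_app
    ((DRing.gammaIKh I).totalRightDerivedUnit DerivedCategory.Qh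
      (HomotopyCategory.quasiIso (ModuleCat.{u} A) (ComplexShape.up ℤ)))
    (HomotopyCategory.quasiIso (ModuleCat.{u} A) (ComplexShape.up ℤ)) (𝟭 (Dual.D A))
    (DRing.gammaIτ I ≫ (Functor.rightUnitor _).inv)
    ((HomotopyCategory.quotient (ModuleCat.{u} A) (ComplexShape.up ℤ)).obj J)
  have hn := (DRing.RgammaIε I).naturality ((DerivedCategory.quotientCompQhIso (ModuleCat.{u} A)).hom.app J)
  unfold rgammaUnit
  rw [Category.assoc, Category.assoc, Category.assoc, hn]
  erw [reassoc_of% h]
  have hτ : (DRing.gammaIτ I).app ((HomotopyCategory.quotient (ModuleCat.{u} A) (ComplexShape.up ℤ)).obj J) =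
      (DRing.gammaIτ0 I).app J := rfl
  simp only [NatTrans.comp_app, Functor.rightUnitor_inv_app, Category.comp_id, hτ]
  have e : (DRing.gammaIτ0 I).app J =
      DerivedCategory.Qh.map (((DRing.gammaI I).mapHomotopyCategoryFactors (ComplexShape.up ℤ)).hom.app J) ≫
        DerivedCategory.Qh.map ((HomotopyCategory.quotient _ _).map (gammaCxι I J)) := by
    simp only [DRing.gammaIτ0, NatTrans.comp_app, Functor.associator_inv_app, Functor.associator_hom_app,
      Functor.whiskerRight_app, Functor.leftUnitor_hom_app, Functor.comp_map]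
    erw [Category.id_comp, Category.id_comp, Category.comp_id]
    congr 1
    rw [← Functor.map_comp, ← Functor.map_comp]
    congr 2
  rw [e, Category.assoc, Functor.id_map]
  have hi : DerivedCategory.Qh.map (((DRing.gammaI I).mapHomotopyCategoryFactors (ComplexShape.up ℤ)).inv.app J) ≫
      DerivedCategory.Qh.map (((DRing.gammaI I).mapHomotopyCategoryFactors (ComplexShape.up ℤ)).hom.app J) = 𝟙 _ := by
    rw [← Functor.map_comp, Iso.inv_hom_id_app, CategoryTheory.Functor.map_id]
  have hq := DerivedCategory.quotientCompQhIso_hom_naturality (C := ModuleCat.{u} A) (gammaCxι I J)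
  trans (DerivedCategory.quotientCompQhIso (ModuleCat.{u} A)).inv.app (gammaCx I J) ≫
      DerivedCategory.Qh.map ((HomotopyCategory.quotient _ _).map (gammaCxι I J)) ≫
        (DerivedCategory.quotientCompQhIso (ModuleCat.{u} A)).hom.app J
  · exact congrArg _ ((Category.assoc _ _ _).symm.trans ((congrArg (· ≫ _) hi).trans (Category.id_comp _)))
  · rw [hq, Iso.inv_hom_id_app_assoc]

/-- `ε` is an isomorphism at a K-injective `J` when `Γ_I J → J` is a quasi-isomorphism. -/
theorem isIso_ε_of_quasiIso (J : CochainComplex (ModuleCat.{u} A) ℤ) [J.IsKInjective]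
    [QuasiIso (gammaCxι I J)] : IsIso ((DRing.RgammaIε I).app (DerivedCategory.Q.obj J)) := by
  have : IsIso (rgammaUnit I J ≫ (DRing.RgammaIε I).app (DerivedCategory.Q.obj J)) := by
    rw [rgammaUnit_ε]; infer_instance
  exact IsIso.of_isIso_comp_left (rgammaUnit I J) _

/-- The cohomology of `Q J` is the homology of `J`. -/
noncomputable def hdIso (J : CochainComplex (ModuleCat.{u} A) ℤ) (q : ℤ) :
    (DerivedCategory.homologyFunctor (ModuleCat.{u} A) q).obj (DerivedCategory.Q.obj J) ≅ J.homology q :=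
  (DerivedCategory.homologyFunctorFactors (ModuleCat.{u} A) q).app J

omit [DRing.HasRgammaI I] in
theorem isPowerTorsion_of_linearEquiv {M N : Type u} [AddCommGroup M] [Module A M] [AddCommGroup N]
    [Module A N] (e : M ≃ₗ[A] N) (h : LocCoh.IsPowerTorsion I M) : LocCoh.IsPowerTorsion I N := fun y => by
  obtain ⟨n, hn⟩ := h (e.symm y)
  exact ⟨n, fun a ha => e.symm.injective (by rw [map_smul, hn a ha, map_zero])⟩

omit [DRing.HasRgammaI I] in
theorem isPowerTorsion_homology_gammaCx (J : CochainComplex (ModuleCat.{u} A) ℤ) (q : ℤ) :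
    LocCoh.IsPowerTorsion I ((gammaCx I J).homology q) := fun z => by
  obtain ⟨c, rfl⟩ := exists_cycle (gammaCx I J) q z
  obtain ⟨n, hn⟩ := (((gammaCx I J).iCycles q).hom c : DRing.torsionSub I (J.X q)).2
  refine ⟨n, fun a ha => ?_⟩
  rw [← map_smul, homologyπ_eq_zero_iff]
  refine ⟨0, ?_⟩
  rw [map_zero, map_smul]
  exact (Subtype.ext (hn a ha)).symm

/-- The cohomology of `RΓ_I K` is `I`-power torsion. -/
theorem isPowerTorsion_HD_rgamma (K : Dual.D A) (q : ℤ) :
    LocCoh.IsPowerTorsion I (Dual.HD A ((DRing.RgammaI I).obj K) q) := by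
  obtain ⟨J, hJ, -, ⟨e⟩⟩ := exists_kinj_rep K
  refine isPowerTorsion_of_linearEquiv I ?_ (isPowerTorsion_homology_gammaCx I J q)
  exact ((hdIso (gammaCx I J) q).symm ≪≫ (DerivedCategory.homologyFunctor _ q).mapIso
    (asIso (rgammaUnit I J) ≪≫ (DRing.RgammaI I).mapIso e)).toLinearEquiv

end Groth.Agent.LocDual54

namespace Groth.Agent.LocDual54

attribute [local instance] HasDerivedCategory.standard

variable {A : Type u} [CommRing A] (I : Ideal A)

/-- Multiplication by `f` on a complex. -/
noncomputable def smulCx (K : CochainComplex (ModuleCat.{u} A) ℤ) (f : A) : K ⟶ K where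
  f n := ModuleCat.ofHom (f • LinearMap.id)
  comm' i j _ := ModuleCat.hom_ext (LinearMap.ext fun x => (map_smul (K.d i j).hom f x))

theorem smulCx_f (K : CochainComplex (ModuleCat.{u} A) ℤ) (f : A) (n : ℤ) (x : K.X n) :
    ((smulCx K f).f n).hom x = f • x := rfl

theorem isIso_Q_smulCx_of_bijective (K : CochainComplex (ModuleCat.{u} A) ℤ) (f : A)
    (hK : ∀ n : ℤ, Function.Bijective (fun x : K.X n => f • x)) :
    IsIso (DerivedCategory.Q.map (smulCx K f)) := by
  have : ∀ n, IsIso ((smulCx K f).f n) := fun n => (ConcreteCategory.isIso_iff_bijective _).2 (hK n)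
  have : IsIso (smulCx K f) := HomologicalComplex.Hom.isIso_of_components _
  infer_instance

theorem homologyMap_smulCx (K : CochainComplex (ModuleCat.{u} A) ℤ) (f : A) (q : ℤ) (z : K.homology q) :
    (HomologicalComplex.homologyMap (smulCx K f) q).hom z = f • z := by
  obtain ⟨c, rfl⟩ := exists_cycle K q z
  rw [homologyMap_homologyπ, ← map_smul]
  congr 1
  exact iCycles_injective ((f_iCycles (smulCx K f) c).trans (map_smul (K.iCycles q).hom f c).symm)

theorem isZero_rgamma_of_smul_bijective [DRing.HasRgammaI I] (K : CochainComplex (ModuleCat.{u} A) ℤ) (f : A)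
    (hf : f ∈ I) (hK : ∀ n : ℤ, Function.Bijective (fun x : K.X n => f • x)) :
    IsZero ((DRing.RgammaI I).obj (DerivedCategory.Q.obj K)) := by
  obtain ⟨J, φ, hJ, hφ, -, -⟩ := TriCat.exists_kInjective_resolution'.{u} K
  have := isIso_Q_smulCx_of_bijective K f hK
  have hcomm : φ ≫ smulCx J f = smulCx K f ≫ φ :=
    HomologicalComplex.hom_ext _ _ fun n => ModuleCat.hom_ext (LinearMap.ext fun x =>
      (map_smul (φ.f n).hom f x).symm)
  have hQ : IsIso (DerivedCategory.Q.map (smulCx J f)) := by
    have : IsIso (DerivedCategory.Q.map φ ≫ DerivedCategory.Q.map (smulCx J f)) := by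
      rw [← Functor.map_comp, hcomm, Functor.map_comp]; infer_instance
    exact IsIso.of_isIso_comp_left (DerivedCategory.Q.map φ) _
  let qC := HomotopyCategory.quotient (ModuleCat.{u} A) (ComplexShape.up ℤ)
  have hQh : IsIso (DerivedCategory.Qh.map (qC.map (smulCx J f))) :=
    (NatIso.isIso_map_iff (DerivedCategory.quotientCompQhIso (ModuleCat.{u} A)) _).2 hQ
  obtain ⟨g, hg⟩ := (CochainComplex.IsKInjective.Qh_map_bijective _ J).2
    (inv (DerivedCategory.Qh.map (qC.map (smulCx J f))))
  have : IsIso (qC.map (smulCx J f)) :=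
    ⟨g, (CochainComplex.IsKInjective.Qh_map_bijective _ J).1 (by rw [Functor.map_comp, hg]; simp [qC]),
      (CochainComplex.IsKInjective.Qh_map_bijective _ J).1 (by rw [Functor.map_comp, hg]; simp [qC])⟩
  have e : ((DRing.gammaI I).mapHomologicalComplex (ComplexShape.up ℤ)).map (smulCx J f) =
      smulCx (gammaCx I J) f :=
    HomologicalComplex.hom_ext _ _ fun n => ModuleCat.hom_ext (LinearMap.ext fun x => rfl)
  have hΓ : IsIso (qC.map (smulCx (gammaCx I J) f)) := by
    rw [← e]
    exact (NatIso.isIso_map_iff ((DRing.gammaI I).mapHomotopyCategoryFactors (ComplexShape.up ℤ))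
      (smulCx J f)).1 (inferInstanceAs (IsIso (((DRing.gammaI I).mapHomotopyCategory
        (ComplexShape.up ℤ)).map (qC.map (smulCx J f)))))
  have hzero : ∀ q, IsZero ((gammaCx I J).homology q) := fun q => by
    have : IsIso (HomologicalComplex.homologyMap (smulCx (gammaCx I J) f) q) :=
      (NatIso.isIso_map_iff (HomotopyCategory.homologyFunctorFactors (ModuleCat.{u} A) (ComplexShape.up ℤ) q)
        (smulCx (gammaCx I J) f)).1 (inferInstanceAs (IsIso ((HomotopyCategory.homologyFunctor _ _ q).map
          (qC.map (smulCx (gammaCx I J) f)))))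
    have hbij := ((ConcreteCategory.isIso_iff_bijective _).1 this)
    have : Subsingleton ((gammaCx I J).homology q) := by
      refine subsingleton_of_forall_eq 0 fun z => ?_
      obtain ⟨n, hn⟩ := isPowerTorsion_homology_gammaCx I J q z
      induction n generalizing z with
      | zero => simpa using hn 1 (by rw [pow_zero, Ideal.one_eq_top]; exact Submodule.mem_top)
      | succ n ih =>
        refine hbij.1 ?_
        show (HomologicalComplex.homologyMap (smulCx (gammaCx I J) f) q).hom z =
          (HomologicalComplex.homologyMap (smulCx (gammaCx I J) f) q).hom 0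
        rw [map_zero, homologyMap_smulCx]
        refine ih (f • z) fun a ha => ?_
        rw [← mul_smul]
        exact hn _ (by rw [pow_succ]; exact Ideal.mul_mem_mul ha hf)
    exact ModuleCat.isZero_of_subsingleton _
  have : IsIso (DerivedCategory.Q.map φ) := inferInstance
  refine IsZero.of_iso ?_ ((DRing.RgammaI I).mapIso (asIso (DerivedCategory.Q.map φ)) ≪≫
    (asIso (rgammaUnit I J)).symm)
  have hi : IsIso (0 : DerivedCategory.Q.obj (gammaCx I J) ⟶ DerivedCategory.Q.obj (gammaCx I J)) :=
    (DerivedCategory.isIso_iff _ _).2 fun q =>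
      ⟨0, ((hzero q).of_iso (hdIso (gammaCx I J) q)).eq_of_src _ _,
        ((hzero q).of_iso (hdIso (gammaCx I J) q)).eq_of_src _ _⟩
  exact (IsZero.iff_id_eq_zero _).2 ((IsIso.hom_inv_id
    (0 : DerivedCategory.Q.obj (gammaCx I J) ⟶ DerivedCategory.Q.obj (gammaCx I J))).symm.trans
    zero_comp)

end Groth.Agent.LocDual54
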