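import Groth.Prelude.Def_DualLC
import Groth.Agent.LocDual54.RGammaBasic
import Groth.Agent.LC.CohDerived
import Mathlib.Algebra.Homology.DerivedCategory.Linear

/-!
# `H^q(RΓ_I K)` as a direct limit of `Hom(A/I^n, K[q])`
-/

universe u

open CategoryTheory CategoryTheory.Limits

namespace Groth.Agent.LocDual54

open Groth.Agent.LC (qObj qMap homOfElt homOfElt_one qObj_hom_ext killed)

attribute [local instance] HasDerivedCategory.standard

variable {A : Type u} [CommRing A] (I : Ideal A) (G : CochainComplex (ModuleCat.{u} A) ℤ)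

/-- `A/I^n` as a complex. -/
noncomputable abbrev sCx (n : ℕ) : CochainComplex (ModuleCat.{u} A) ℤ :=
  (HomologicalComplex.single (ModuleCat.{u} A) (ComplexShape.up ℤ) 0).obj (qObj I n)

variable {I G}

/-- The map out of `A/I^n` underlying a map of complexes. -/
noncomputable def deg0 {n : ℕ} (g : sCx I n ⟶ G) : qObj I n ⟶ G.X 0 :=
  (HomologicalComplex.singleObjXSelf (ComplexShape.up ℤ) 0 (qObj I n)).inv ≫ g.f 0

theorem deg0_add {n : ℕ} (g g' : sCx I n ⟶ G) : deg0 (g + g') = deg0 g + deg0 g' :=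
  Preadditive.comp_add _ _ _ _ _ _

theorem deg0_smul {n : ℕ} (r : A) (g : sCx I n ⟶ G) : deg0 (r • g) = r • deg0 g :=
  Linear.comp_smul _ _ _ _ _ _

theorem deg0_single_map {n m : ℕ} (h : n ≤ m) (g : sCx I n ⟶ G) :
    deg0 ((HomologicalComplex.single (ModuleCat.{u} A) (ComplexShape.up ℤ) 0).map (qMap I h) ≫ g) =
      qMap I h ≫ deg0 g := by
  simp only [deg0, HomologicalComplex.comp_f, HomologicalComplex.single_map_f_self, Category.assoc,
    Iso.inv_hom_id_assoc]

theorem deg0_d {n : ℕ} (g : sCx I n ⟶ G) : deg0 g ≫ G.d 0 (0 + 1) = 0 := by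
  simp [deg0, g.comm]

/-- The cocycle of `Γ_I G` defined by a map `A/I^n → G`. -/
noncomputable def elemOf {n : ℕ} (g : sCx I n ⟶ G) : (gammaCx I G).X 0 :=
  (⟨(deg0 g).hom (Ideal.Quotient.mk (I ^ n) 1), n, killed I (deg0 g)⟩ : DRing.torsionSub I (G.X 0))

theorem elemOf_d {n : ℕ} (g : sCx I n ⟶ G) : ((gammaCx I G).d 0 (0 + 1)).hom (elemOf g) = 0 :=
  Subtype.ext (by
    have h := ConcreteCategory.congr_hom (deg0_d g) (Ideal.Quotient.mk (I ^ n) 1 : qObj I n)
    exact h)

/-- The cycle of `Γ_I G`. -/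
noncomputable def cycleOf {n : ℕ} (g : sCx I n ⟶ G) : (gammaCx I G).cycles 0 :=
  (exists_cycles_eq (elemOf g) (elemOf_d g)).choose

theorem iCycles_cycleOf {n : ℕ} (g : sCx I n ⟶ G) :
    ((gammaCx I G).iCycles 0).hom (cycleOf g) = elemOf g :=
  (exists_cycles_eq (elemOf g) (elemOf_d g)).choose_spec

/-- The class in `H⁰(Γ_I G)`. -/
noncomputable def clsOf {n : ℕ} (g : sCx I n ⟶ G) : (gammaCx I G).homology 0 :=
  ((gammaCx I G).homologyπ 0).hom (cycleOf g)

theorem clsOf_add {n : ℕ} (g g' : sCx I n ⟶ G) : clsOf (g + g') = clsOf g + clsOf g' := by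
  rw [clsOf, clsOf, clsOf, ← map_add]
  congr 1
  refine iCycles_injective ?_
  rw [map_add, iCycles_cycleOf, iCycles_cycleOf, iCycles_cycleOf]
  refine Subtype.ext ?_
  show (deg0 (g + g')).hom _ = (deg0 g).hom _ + (deg0 g').hom _
  rw [deg0_add]
  rfl

theorem clsOf_smul {n : ℕ} (r : A) (g : sCx I n ⟶ G) : clsOf (r • g) = r • clsOf g := by
  rw [clsOf, clsOf, ← map_smul]
  congr 1
  refine iCycles_injective ?_
  rw [map_smul, iCycles_cycleOf, iCycles_cycleOf]
  refine Subtype.ext ?_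
  show (deg0 (r • g)).hom _ = r • (deg0 g).hom _
  rw [deg0_smul]
  rfl

theorem clsOf_restrict {n m : ℕ} (h : n ≤ m) (g : sCx I n ⟶ G) :
    clsOf ((HomologicalComplex.single (ModuleCat.{u} A) (ComplexShape.up ℤ) 0).map (qMap I h) ≫ g) = clsOf g := by
  rw [clsOf, clsOf]
  refine congrArg _ (iCycles_injective ?_)
  rw [iCycles_cycleOf, iCycles_cycleOf]
  refine Subtype.ext ?_
  show (deg0 _).hom _ = (deg0 g).hom _
  rw [deg0_single_map]
  rfl

theorem exists_clsOf_eq (z : (gammaCx I G).homology 0) : ∃ (n : ℕ) (g : sCx I n ⟶ G), clsOf g = z := by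
  obtain ⟨c, rfl⟩ := exists_cycle (gammaCx I G) 0 z
  obtain ⟨⟨y, n, hn⟩, hy⟩ : ∃ y : DRing.torsionSub I (G.X 0), ((gammaCx I G).iCycles 0).hom c = y := ⟨_, rfl⟩
  have hyd : (G.d 0 (0 + 1)).hom y = 0 := by
    have := d_iCycles c
    rw [hy] at this
    exact congrArg Subtype.val this
  refine ⟨n, HomologicalComplex.mkHomFromSingle (homOfElt I n y hn) (fun k hk => qObj_hom_ext I ?_), ?_⟩
  · obtain rfl : (0 : ℤ) + 1 = k := hk
    show (G.d 0 (0 + 1)).hom ((homOfElt I n y hn).hom _) = _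
    rw [homOfElt_one]
    exact hyd
  · rw [clsOf]
    congr 1
    refine iCycles_injective ?_
    rw [iCycles_cycleOf, hy]
    refine Subtype.ext ?_
    show (deg0 _).hom _ = y
    rw [deg0, HomologicalComplex.mkHomFromSingle_f, Iso.inv_hom_id_assoc, homOfElt_one]

/-- The null-homotopy map out of a single complex. -/
noncomputable def singleH {n : ℕ} (h : qObj I n ⟶ G.X (-1)) :
    ∀ i j, (ComplexShape.up ℤ).Rel j i → ((sCx I n).X i ⟶ G.X j) := fun i j hji =>
  if hi : i = 0 then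
    eqToHom (by rw [hi]) ≫ (HomologicalComplex.singleObjXSelf (ComplexShape.up ℤ) 0 (qObj I n)).hom ≫ h ≫
      eqToHom (congrArg G.X (by have : j + 1 = i := hji; omega))
  else 0

theorem deg0_nullHomotopic {n : ℕ} (h : qObj I n ⟶ G.X (-1)) :
    deg0 (Homotopy.nullHomotopicMap' (singleH h)) = h ≫ G.d (-1) 0 := by
  rw [deg0, Homotopy.nullHomotopicMap'_f (show (ComplexShape.up ℤ).Rel (-1) 0 from rfl)
    (show (ComplexShape.up ℤ).Rel 0 1 from rfl)]
  simp [singleH]

theorem clsOf_eq_of_homotopy {n : ℕ} {g g' : sCx I n ⟶ G} (h : Homotopy g g') : clsOf g = clsOf g' := by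
  rw [clsOf, clsOf, homologyπ_eq_iff, iCycles_cycleOf, iCycles_cycleOf]
  have hk := h.comm 0
  rw [dNext_eq h.hom (show (ComplexShape.up ℤ).Rel 0 1 from rfl),
    prevD_eq h.hom (show (ComplexShape.up ℤ).Rel (0 - 1) 0 from rfl)] at hk
  let y : qObj I n ⟶ G.X (0 - 1) :=
    (HomologicalComplex.singleObjXSelf (ComplexShape.up ℤ) 0 (qObj I n)).inv ≫ h.hom 0 (0 - 1)
  refine ⟨(⟨y.hom (Ideal.Quotient.mk (I ^ n) 1), n, killed I y⟩ : DRing.torsionSub I (G.X (0 - 1))), Subtype.ext ?_⟩
  have e : deg0 g = y ≫ G.d (0 - 1) 0 + deg0 g' := by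
    simp only [deg0, hk, y, Preadditive.comp_add, Category.assoc]
    simp
  show (y ≫ G.d (0 - 1) 0).hom _ = (deg0 g).hom _ - (deg0 g').hom _
  rw [e]
  simp

theorem exists_homotopy_restrict {n : ℕ} (g : sCx I n ⟶ G) (hg : clsOf g = 0) :
    ∃ (m : ℕ) (h : n ≤ m), Nonempty (Homotopy
      ((HomologicalComplex.single (ModuleCat.{u} A) (ComplexShape.up ℤ) 0).map (qMap I h) ≫ g) 0) := by
  rw [clsOf, homologyπ_eq_zero_iff, iCycles_cycleOf] at hg
  obtain ⟨⟨w, k, hk⟩, hw⟩ := hg
  have hw' : (G.d (-1) 0).hom w = (deg0 g).hom (Ideal.Quotient.mk (I ^ n) 1) := congrArg Subtype.val hw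
  let y : qObj I (max n k) ⟶ G.X (-1) :=
    homOfElt I (max n k) w fun a ha => hk a (Ideal.pow_le_pow_right (le_max_right n k) ha)
  refine ⟨max n k, le_max_left n k, ⟨(Homotopy.ofEq ?_).trans (Homotopy.nullHomotopy' (singleH y))⟩⟩
  refine HomologicalComplex.from_single_hom_ext ?_
  rw [← cancel_epi (HomologicalComplex.singleObjXSelf (ComplexShape.up ℤ) 0 (qObj I (max n k))).inv]
  change deg0 _ = deg0 (Homotopy.nullHomotopicMap' (singleH y))
  rw [deg0_single_map, deg0_nullHomotopic]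
  refine qObj_hom_ext I ?_
  show (deg0 g).hom (Ideal.Quotient.mk (I ^ n) 1) = (G.d (-1) 0).hom (y.hom (Ideal.Quotient.mk (I ^ max n k) 1))
  rw [homOfElt_one]
  exact hw'.symm

section Hom

variable {X : Dual.D A} (e : DerivedCategory.Q.obj G ≅ X) [G.IsKInjective]

/-- The map in `D(A)` of a map of complexes. -/
noncomputable def toD {n : ℕ} (g : sCx I n ⟶ G) :
    (DerivedCategory.singleFunctor (ModuleCat.{u} A) 0).obj (qObj I n) ⟶ X :=
  DerivedCategory.Q.map g ≫ e.hom

theorem toD_surjective {n : ℕ} : Function.Surjective (toD e : (sCx I n ⟶ G) → _) := fun x => by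
  obtain ⟨u, hu⟩ := (CochainComplex.IsKInjective.Qh_map_bijective
    ((HomotopyCategory.quotient (ModuleCat.{u} A) (ComplexShape.up ℤ)).obj (sCx I n)) G).2
    ((DerivedCategory.quotientCompQhIso (ModuleCat.{u} A)).hom.app (sCx I n) ≫ (x ≫ e.inv :) ≫
      (DerivedCategory.quotientCompQhIso (ModuleCat.{u} A)).inv.app G)
  obtain ⟨g, rfl⟩ := (HomotopyCategory.quotient (ModuleCat.{u} A) (ComplexShape.up ℤ)).map_surjective u
  refine ⟨g, ?_⟩
  have h := DerivedCategory.quotientCompQhIso_hom_naturality (C := ModuleCat.{u} A) g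
  rw [hu] at h
  simp only [Category.assoc, Iso.inv_hom_id_app] at h
  have h' := (cancel_epi _).1 h
  show DerivedCategory.Q.map g ≫ e.hom = x
  rw [← h']
  exact (Category.assoc _ _ _).trans ((congrArg (_ ≫ ·) (Category.id_comp e.hom)).trans
    ((Category.assoc _ _ _).trans ((congrArg (x ≫ ·) e.inv_hom_id).trans (Category.comp_id x))))

theorem clsOf_eq_of_toD_eq {n : ℕ} {g g' : sCx I n ⟶ G} (h : toD e g = toD e g') : clsOf g = clsOf g' := by
  have h' : DerivedCategory.Q.map g = DerivedCategory.Q.map g' := (cancel_mono e.hom).1 h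
  refine clsOf_eq_of_homotopy (HomotopyCategory.homotopyOfEq _ _
    ((CochainComplex.IsKInjective.Qh_map_bijective _ G).1 ?_))
  rw [← cancel_mono ((DerivedCategory.quotientCompQhIso (ModuleCat.{u} A)).hom.app G),
    DerivedCategory.quotientCompQhIso_hom_naturality, DerivedCategory.quotientCompQhIso_hom_naturality, h']

/-- The diagram `n ↦ Hom(A/I^n, X)`. -/
noncomputable abbrev homDiag (X : Dual.D A) : (ℕᵒᵖ)ᵒᵖ ⥤ ModuleCat.{u + 1} A :=
  (localCohomology.ringModIdeals (localCohomology.idealPowersDiagram I) ⋙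
    DerivedCategory.singleFunctor (ModuleCat.{u} A) 0).op ⋙ (linearYoneda A (Dual.D A)).obj X

theorem restrict_eq {n m : ℕ} (h : n ≤ m) (g : sCx I n ⟶ G) :
    toD e ((HomologicalComplex.single (ModuleCat.{u} A) (ComplexShape.up ℤ) 0).map (qMap I h) ≫ g) =
      (DerivedCategory.singleFunctor (ModuleCat.{u} A) 0).map (qMap I h) ≫ toD e g := by
  show DerivedCategory.Q.map _ ≫ e.hom = _
  erw [Functor.map_comp, Category.assoc]
  rfl

theorem toD_add {n : ℕ} (g g' : sCx I n ⟶ G) : toD e (g + g') = toD e g + toD e g' := by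
  show DerivedCategory.Q.map (g + g') ≫ e.hom = _
  rw [(DerivedCategory.Q (C := ModuleCat.{u} A)).map_add, Preadditive.add_comp]
  rfl

theorem toD_smul {n : ℕ} (r : A) (g : sCx I n ⟶ G) : toD e (r • g) = r • toD e g := by
  show DerivedCategory.Q.map (r • g) ≫ e.hom = _
  rw [(DerivedCategory.Q (C := ModuleCat.{u} A)).map_smul, Linear.smul_comp]
  rfl

theorem toD_eq_zero_of_homotopy {n : ℕ} {g : sCx I n ⟶ G} (H : Homotopy g 0) : toD e g = 0 := by
  show DerivedCategory.Q.map g ≫ e.hom = 0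
  rw [DerivedCategory.Q_map_eq_of_homotopy (C := ModuleCat.{u} A) H, Functor.map_zero, zero_comp]

variable (I G) in
/-- `Hom(A/I^n, X) → H⁰(Γ_I G)`. -/
noncomputable def stageMap (n : ℕ) :
    ((DerivedCategory.singleFunctor (ModuleCat.{u} A) 0).obj (qObj I n) ⟶ X) →ₗ[A]
      (gammaCx I G).homology 0 where
  toFun x := clsOf (toD_surjective e x).choose
  map_add' x y := by
    rw [← clsOf_add]
    refine clsOf_eq_of_toD_eq e ?_
    rw [(toD_surjective e (x + y)).choose_spec]
    refine Eq.trans ?_ (toD_add e _ _).symm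
    exact congrArg₂ (· + ·) (toD_surjective e x).choose_spec.symm (toD_surjective e y).choose_spec.symm
  map_smul' r x := by
    rw [RingHom.id_apply, ← clsOf_smul]
    refine clsOf_eq_of_toD_eq e ?_
    rw [(toD_surjective e (r • x)).choose_spec]
    refine Eq.trans ?_ (toD_smul e r _).symm
    exact congrArg (r • ·) (toD_surjective e x).choose_spec.symm

theorem stageMap_toD {n : ℕ} (g : sCx I n ⟶ G) : stageMap I G e n (toD e g) = clsOf g :=
  clsOf_eq_of_toD_eq e (toD_surjective e (toD e g)).choose_spec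

include e in
/-- The colimit of `Hom(A/I^n, X)` is `H⁰(Γ_I G)`. -/
theorem nonempty_colimit_equiv :
    Nonempty ((colimit (homDiag (I := I) X) : ModuleCat.{u + 1} A) ≃ₗ[A] (gammaCx I G).homology 0) := by
  let F := homDiag (I := I) X
  let c : Cocone F :=
    { pt := ModuleCat.of A (ULift.{u + 1} ((gammaCx I G).homology 0))
      ι :=
        { app := fun t => ModuleCat.ofHom
            (ULift.moduleEquiv.symm.toLinearMap ∘ₗ stageMap I G e t.unop.unop)
          naturality := fun s t w => by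
            refine ModuleCat.hom_ext (LinearMap.ext fun x => ?_)
            obtain ⟨g, rfl⟩ := toD_surjective e x
            have hle : s.unop.unop ≤ t.unop.unop := w.unop.unop.down.down
            refine ULift.ext _ _ ?_
            show stageMap I G e t.unop.unop ((DerivedCategory.singleFunctor (ModuleCat.{u} A) 0).map
              (qMap I hle) ≫ toD e g) = stageMap I G e s.unop.unop (toD e g)
            rw [← restrict_eq, stageMap_toD, stageMap_toD, clsOf_restrict] } }
  let φ : (colimit F : ModuleCat.{u + 1} A) →ₗ[A] (gammaCx I G).homology 0 :=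
    ULift.moduleEquiv.toLinearMap ∘ₗ (colimit.desc F c).hom
  have hφ : ∀ (t : (ℕᵒᵖ)ᵒᵖ) (x : F.obj t), φ ((colimit.ι F t).hom x) = stageMap I G e t.unop.unop x :=
    fun t x => congrArg ULift.down (ConcreteCategory.congr_hom (colimit.ι_desc c t) x)
  refine ⟨LinearEquiv.ofBijective φ ⟨(injective_iff_map_eq_zero φ).2 fun z hz => ?_, fun z => ?_⟩⟩
  · have : PreservesFilteredColimitsOfSize.{0, 0} (forget AddCommGrpCat.{u + 1}) :=
      preservesFilteredColimitsOfSize_shrink.{0, u + 1, 0, u + 1} _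
    have : PreservesColimit F (forget (ModuleCat.{u + 1} A)) :=
      inferInstanceAs (PreservesColimit F (forget₂ (ModuleCat.{u + 1} A) AddCommGrpCat.{u + 1} ⋙ forget _))
    obtain ⟨t, x, rfl⟩ := Concrete.colimit_exists_rep F z
    obtain ⟨g, rfl⟩ := toD_surjective e x
    rw [hφ, stageMap_toD] at hz
    obtain ⟨m, hm, ⟨H⟩⟩ := exists_homotopy_restrict g hz
    have w : t ⟶ Opposite.op (Opposite.op m) := (homOfLE hm).op.op
    have h0 : (DerivedCategory.singleFunctor (ModuleCat.{u} A) 0).map (qMap I hm) ≫ toD e g = 0 := by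
      exact (restrict_eq e hm g).symm.trans (toD_eq_zero_of_homotopy e H)
    have h1 : (F.map w).hom (toD e g) = 0 := h0
    refine (ConcreteCategory.congr_hom (colimit.w F w) (toD e g)).symm.trans ?_
    show (colimit.ι F _).hom ((F.map w).hom (toD e g)) = 0
    rw [h1, map_zero]
  · obtain ⟨n, g, rfl⟩ := exists_clsOf_eq z
    exact ⟨(colimit.ι F (Opposite.op (Opposite.op n))).hom (toD e g),
      (hφ _ _).trans (stageMap_toD e g)⟩

end Hom

variable (I) [DRing.HasRgammaI I]

/-- `H^q(RΓ_I K) = colim Hom(A/I^n, K[q])`. -/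
theorem nonempty_HD_rgamma_equiv_HDI (K : Dual.D A) (q : ℤ) :
    Nonempty (Dual.HD A ((DRing.RgammaI I).obj K) q ≃ₗ[A] Dual2.HDI A I K q) := by
  obtain ⟨J, hJ, -, ⟨e⟩⟩ := exists_kinj_rep K
  obtain ⟨E⟩ := nonempty_colimit_equiv (I := I) (G := J⟦q⟧)
    (((DerivedCategory.Q (C := ModuleCat.{u} A)).commShiftIso q).app J ≪≫
      (shiftFunctor (Dual.D A) q).mapIso e)
  exact ⟨((DerivedCategory.homologyFunctor _ q).mapIso
      ((asIso (rgammaUnit I J) ≪≫ (DRing.RgammaI I).mapIso e).symm) ≪≫ hdIso (gammaCx I J) q ≪≫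
      (((HomologicalComplex.homologyFunctor (ModuleCat.{u} A) (ComplexShape.up ℤ) 0).shiftIso q 0 q
        (add_zero q)).app (gammaCx I J)).symm ≪≫
      (HomologicalComplex.homologyFunctor (ModuleCat.{u} A) (ComplexShape.up ℤ) 0).mapIso
        (((DRing.gammaI I).mapHomologicalComplex (ComplexShape.up ℤ)).commShiftIso q |>.app J).symm).toLinearEquiv.trans
    E.symm⟩

end Groth.Agent.LocDual54
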