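import Groth.Agent.LocDual54.KosLocal

/-!
# `RΓ_I`: linearity and distinguished triangles
-/

universe u

open CategoryTheory CategoryTheory.Limits CategoryTheory.Pretriangulated

namespace Groth.Agent.LocDual54

attribute [local instance] HasDerivedCategory.standard

variable {A : Type u} [CommRing A] (I : Ideal A) [DRing.HasRgammaI I]

/-- `RΓ_I X`. -/
noncomputable abbrev RG (X : Dual.D A) : Dual.D A := (DRing.RgammaI I).obj X

/-- `RΓ_I f`. -/
noncomputable abbrev rmap {X Y : Dual.D A} (f : X ⟶ Y) : RG I X ⟶ RG I Y := (DRing.RgammaI I).map f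

/-- `RΓ_I X ⟶ X`. -/
noncomputable def eI (X : Dual.D A) : RG I X ⟶ X := (DRing.RgammaIε I).app X

theorem rmap_eI {X Y : Dual.D A} (f : X ⟶ Y) : rmap I f ≫ eI I Y = eI I X ≫ f :=
  (DRing.RgammaIε I).naturality f

theorem isTors_RG (X : Dual.D A) : IsTors I (RG I X) := isPowerTorsion_HD_rgamma I X

variable [IsNoetherianRing A]

theorem eI_bijective {L : Dual.D A} (hL : IsTors I L) (X : Dual.D A) :
    Function.Bijective fun f : L ⟶ RG I X => f ≫ eI I X := comp_ε_bijective I L X hL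

theorem eI_shift_bijective {L : Dual.D A} (hL : IsTors I L) (X : Dual.D A) (n : ℤ) :
    Function.Bijective fun f : L ⟶ (RG I X)⟦n⟧ => f ≫ (eI I X)⟦n⟧' :=
  comp_shift_bijective I (eI I X) (fun _ hM => eI_bijective I hM X) n L hL

theorem hom_ext_RG {L : Dual.D A} (hL : IsTors I L) {X : Dual.D A} {f g : L ⟶ RG I X}
    (h : f ≫ eI I X = g ≫ eI I X) : f = g := (eI_bijective I hL X).1 h

theorem hom_ext_RG_shift {L : Dual.D A} (hL : IsTors I L) {X : Dual.D A} {n : ℤ} {f g : L ⟶ (RG I X)⟦n⟧}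
    (h : f ≫ (eI I X)⟦n⟧' = g ≫ (eI I X)⟦n⟧') : f = g := (eI_shift_bijective I hL X n).1 h

/-- `RΓ_I` is linear. -/
theorem rmap_smul {X Y : Dual.D A} (a : A) (f : X ⟶ Y) : rmap I (a • f) = a • rmap I f := by
  refine hom_ext_RG I (isTors_RG I X) ?_
  rw [rmap_eI, Linear.comp_smul, Linear.smul_comp, rmap_eI]

theorem rmap_add {X Y : Dual.D A} (f g : X ⟶ Y) : rmap I (f + g) = rmap I f + rmap I g := by
  refine hom_ext_RG I (isTors_RG I X) ?_
  rw [rmap_eI, Preadditive.comp_add, Preadditive.add_comp, rmap_eI, rmap_eI]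

theorem rmap_zero (X Y : Dual.D A) : rmap I (0 : X ⟶ Y) = 0 := by
  refine hom_ext_RG I (isTors_RG I X) ?_
  rw [rmap_eI, comp_zero, zero_comp]

/-- The connecting morphism on `RΓ_I` attached to a morphism `Z ⟶ X⟦1⟧`. -/
noncomputable def rconn {X Z : Dual.D A} (c : Z ⟶ X⟦(1 : ℤ)⟧) : RG I Z ⟶ (RG I X)⟦(1 : ℤ)⟧ :=
  ((eI_shift_bijective I (isTors_RG I Z) X 1).2 (eI I Z ≫ c)).choose

theorem rconn_eI {X Z : Dual.D A} (c : Z ⟶ X⟦(1 : ℤ)⟧) :
    rconn I c ≫ (eI I X)⟦(1 : ℤ)⟧' = eI I Z ≫ c :=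
  ((eI_shift_bijective I (isTors_RG I Z) X 1).2 (eI I Z ≫ c)).choose_spec

theorem rconn_natural {X Z X' Z' : Dual.D A} {c : Z ⟶ X⟦(1 : ℤ)⟧} {c' : Z' ⟶ X'⟦(1 : ℤ)⟧} (a : X ⟶ X')
    (z : Z ⟶ Z') (h : c ≫ a⟦(1 : ℤ)⟧' = z ≫ c') :
    rconn I c ≫ (rmap I a)⟦(1 : ℤ)⟧' = rmap I z ≫ rconn I c' := by
  refine hom_ext_RG_shift I (isTors_RG I Z) ?_
  rw [Category.assoc, ← Functor.map_comp, rmap_eI, Functor.map_comp, ← Category.assoc, rconn_eI,
    Category.assoc, h, Category.assoc, rconn_eI, ← Category.assoc, ← Category.assoc, rmap_eI]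

theorem isTors_obj₃ (T : Triangle (Dual.D A)) (hT : T ∈ distTriang _) (h₁ : IsTors I T.obj₁)
    (h₂ : IsTors I T.obj₂) : IsTors I T.obj₃ := fun i => by
  let H := DerivedCategory.homologyFunctor (ModuleCat.{u} A)
  let δ := DerivedCategory.HomologySequence.δ T i (i + 1) rfl
  intro z
  obtain ⟨n, hn⟩ := h₁ (i + 1) (δ.hom z)
  have hex := (ShortComplex.moduleCat_exact_iff _).1 (DerivedCategory.HomologySequence.exact₃ T hT i (i + 1) rfl)
  have hle : I ≤ Ideal.radical (LinearMap.ker (LinearMap.toSpanSingleton A _ z)) := fun a ha => by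
    obtain ⟨w, hw⟩ := hex (a ^ n • z) ((δ.hom.map_smul (a ^ n) z).trans (hn _ (Ideal.pow_mem_pow ha n)))
    obtain ⟨m, hm⟩ := h₂ i w
    refine ⟨m + n, ?_⟩
    rw [LinearMap.mem_ker, LinearMap.toSpanSingleton_apply, pow_add, mul_smul, ← hw, ← map_smul,
      hm _ (Ideal.pow_mem_pow ha m), map_zero]
  obtain ⟨k, hk⟩ := Ideal.exists_pow_le_of_le_radical_of_fg hle (IsNoetherian.noetherian I)
  exact ⟨k, fun a ha => hk ha⟩

/-- `RΓ_I` of a distinguished triangle is distinguished. -/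
theorem rgamma_distinguished {X Y Z : Dual.D A} {f : X ⟶ Y} {g : Y ⟶ Z} {c : Z ⟶ X⟦(1 : ℤ)⟧}
    (hT : Triangle.mk f g c ∈ distTriang _) :
    Triangle.mk (rmap I f) (rmap I g) (rconn I c) ∈ distTriang _ := by
  obtain ⟨W, g', h', hT'⟩ := distinguished_cocone_triangle (rmap I f)
  have hW : IsTors I W := isTors_obj₃ I _ hT' (isTors_RG I X) (isTors_RG I Y)
  obtain ⟨z, hz₁, hz₂⟩ : ∃ z : W ⟶ Z, g' ≫ z = eI I Y ≫ g ∧ h' ≫ (eI I X)⟦(1 : ℤ)⟧' = z ≫ c :=
    complete_distinguished_triangle_morphism _ _ hT' hT (eI I X) (eI I Y) (rmap_eI I f)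
  have h12 : rmap I f ≫ g' = 0 := comp_distTriang_mor_zero₁₂ _ hT'
  have t31 : c ≫ f⟦(1 : ℤ)⟧' = 0 := comp_distTriang_mor_zero₃₁ _ hT
  have t23 : g ≫ c = 0 := comp_distTriang_mor_zero₂₃ _ hT
  have hbij : ∀ L, IsTors I L → Function.Bijective fun x : L ⟶ W => x ≫ z := by
    intro L hL
    constructor
    · intro x₁ x₂ he
      simp only at he
      rw [← sub_eq_zero] at he ⊢
      rw [← Preadditive.sub_comp] at he
      generalize x₁ - x₂ = x at he ⊢
      have hx : x ≫ h' = 0 := by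
        refine hom_ext_RG_shift I hL ?_
        rw [Category.assoc, hz₂, ← Category.assoc, he, zero_comp, zero_comp]
      obtain ⟨y, hy⟩ : ∃ y : L ⟶ RG I Y, x = y ≫ g' := Triangle.coyoneda_exact₃ _ hT' x hx
      obtain ⟨w, hw⟩ : ∃ w : L ⟶ X, y ≫ eI I Y = w ≫ f :=
        Triangle.coyoneda_exact₂ _ hT (y ≫ eI I Y) (show (y ≫ eI I Y) ≫ g = 0 by
          rw [Category.assoc, ← hz₁, ← Category.assoc, ← hy, he])
      obtain ⟨w', hw'⟩ := (eI_bijective I hL X).2 w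
      simp only at hw'
      have : y = w' ≫ rmap I f := hom_ext_RG I hL (by rw [hw, ← hw', Category.assoc, Category.assoc, rmap_eI])
      rw [hy, this, Category.assoc, h12, comp_zero]
    · intro k
      obtain ⟨s, hs⟩ := (eI_shift_bijective I hL X 1).2 (k ≫ c)
      simp only at hs
      have hs0 : s ≫ (rmap I f)⟦(1 : ℤ)⟧' = 0 := by
        refine hom_ext_RG_shift I hL ?_
        rw [zero_comp, Category.assoc, ← Functor.map_comp, rmap_eI, Functor.map_comp, ← Category.assoc, hs,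
          Category.assoc, t31, comp_zero]
      obtain ⟨x, hx⟩ : ∃ x : L ⟶ W, s = x ≫ h' := Triangle.coyoneda_exact₃ _ (rot_of_distTriang _ hT') s (by
        show s ≫ (-((rmap I f)⟦(1 : ℤ)⟧')) = 0
        rw [Preadditive.comp_neg, hs0, neg_zero])
      obtain ⟨m, hm⟩ : ∃ m : L ⟶ Y, k - x ≫ z = m ≫ g :=
        Triangle.coyoneda_exact₃ _ hT (k - x ≫ z) (show (k - x ≫ z) ≫ c = 0 by
          rw [Preadditive.sub_comp, Category.assoc, ← hz₂, ← Category.assoc, ← hx, hs, sub_self])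
      obtain ⟨y, hy⟩ := (eI_bijective I hL Y).2 m
      simp only at hy
      refine ⟨x + y ≫ g', ?_⟩
      show (x + y ≫ g') ≫ z = k
      rw [Preadditive.add_comp, Category.assoc, hz₁, ← Category.assoc, hy, ← hm, add_sub_cancel]
  obtain ⟨α, hα⟩ := (eI_bijective I hW Z).2 z
  obtain ⟨β, hβ⟩ := (hbij _ (isTors_RG I Z)).2 (eI I Z)
  simp only at hα hβ
  let e : W ≅ RG I Z :=
    { hom := α, inv := β
      hom_inv_id := (hbij W hW).1 (show (α ≫ β) ≫ z = 𝟙 W ≫ z by rw [Category.assoc, hβ, hα, Category.id_comp])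
      inv_hom_id := hom_ext_RG I (isTors_RG I Z) (by rw [Category.assoc, hα, hβ, Category.id_comp]) }
  refine isomorphic_distinguished _ hT' _ (Triangle.isoMk _ _ (Iso.refl _) (Iso.refl _) e.symm ?_ ?_ ?_)
  · exact (Category.comp_id _).trans (Category.id_comp _).symm
  · show rmap I g ≫ β = 𝟙 _ ≫ g'
    rw [Category.id_comp]
    refine (hbij _ (isTors_RG I Y)).1 ?_
    show (rmap I g ≫ β) ≫ z = g' ≫ z
    rw [Category.assoc, hβ, rmap_eI, hz₁]
  · show rconn I c ≫ (𝟙 (RG I X))⟦(1 : ℤ)⟧' = β ≫ h'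
    rw [CategoryTheory.Functor.map_id, Category.comp_id]
    refine hom_ext_RG_shift I (isTors_RG I Z) ?_
    rw [rconn_eI, Category.assoc, hz₂, ← Category.assoc, hβ]

end Groth.Agent.LocDual54
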