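import Groth.Agent.LocDual54.GhostChain
import Groth.Agent.LocDual54.AdicSystem
import Groth.Agent.LocDual54.RGammaTriangle
import Groth.Agent.LocDual54.HDIBridge

/-!
# The system `RΓ_J (I^n M)` is pro-zero against a perfect `I`-torsion object
-/

universe u

open CategoryTheory CategoryTheory.Limits CochainComplex.HomComplex

namespace Groth.Agent.LocDual54

attribute [local instance] HasDerivedCategory.standard

variable {A : Type u} [CommRing A]

/-- A module as an object of `D(A)`. -/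
noncomputable abbrev S0 : ModuleCat.{u} A ⥤ Dual.D A := DerivedCategory.singleFunctor (ModuleCat.{u} A) 0

theorem exists_Q_map_eq {X E : CochainComplex (ModuleCat.{u} A) ℤ} [E.IsKInjective]
    (x : DerivedCategory.Q.obj X ⟶ DerivedCategory.Q.obj E) : ∃ g : X ⟶ E, DerivedCategory.Q.map g = x := by
  let α := DerivedCategory.quotientCompQhIso (ModuleCat.{u} A)
  obtain ⟨v, hv⟩ := (CochainComplex.IsKInjective.Qh_map_bijective
    ((HomotopyCategory.quotient (ModuleCat.{u} A) (ComplexShape.up ℤ)).obj X) E).2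
    (α.hom.app X ≫ x ≫ α.inv.app E)
  obtain ⟨g, rfl⟩ := (HomotopyCategory.quotient (ModuleCat.{u} A) (ComplexShape.up ℤ)).map_surjective v
  refine ⟨g, ?_⟩
  rw [← cancel_epi (α.hom.app X)]
  refine (DerivedCategory.quotientCompQhIso_hom_naturality (C := ModuleCat.{u} A) g).symm.trans ?_
  rw [hv]
  simp only [Category.assoc, Iso.inv_hom_id_app]
  exact congrArg (α.hom.app X ≫ ·) (Category.comp_id x)

/-- A cochain with values in torsion elements is a cochain into the torsion subcomplex. -/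
theorem exists_cochain_lift {J : Ideal A} {P E : CochainComplex (ModuleCat.{u} A) ℤ} {q : ℤ}
    {w : Cochain P E q} (hw : ValIn J w) :
    ∃ w' : Cochain P (gammaCx J E) q, w'.comp (Cochain.ofHom (gammaCxι J E)) (add_zero q) = w := by
  refine ⟨Cochain.mk fun p p' h => ModuleCat.ofHom ((w.v p p' h).hom.codRestrict _ (hw p p' h)),
    Cochain.ext _ _ fun p p' h => ?_⟩
  rw [Cochain.comp_zero_cochain_v, Cochain.ofHom_v]
  rfl

theorem cochain_ι_injective {J : Ideal A} {P E : CochainComplex (ModuleCat.{u} A) ℤ} {q : ℤ}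
    {w w' : Cochain P (gammaCx J E) q}
    (h : w.comp (Cochain.ofHom (gammaCxι J E)) (add_zero q) = w'.comp (Cochain.ofHom (gammaCxι J E)) (add_zero q)) :
    w = w' := by
  refine Cochain.ext _ _ fun p p' hpp => ModuleCat.hom_ext (LinearMap.ext fun x => Subtype.ext ?_)
  have := congrArg (fun z : Cochain P E q => (z.v p p' hpp).hom x) h
  simp only [Cochain.comp_zero_cochain_v, Cochain.ofHom_v] at this
  exact this

variable [IsNoetherianRing A] (I J : Ideal A) [DRing.HasRgammaI J] (M : Type u) [AddCommGroup M] [Module A M]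
  [Module.Finite A M] {P : CochainComplex (ModuleCat.{u} A) ℤ}

/-- The pro-zero statement. -/
theorem exists_rg_kill (hP : BddFree P) (k : ℕ) (hk : ∀ a ∈ I ^ k, a • 𝟙 (DerivedCategory.Q.obj P) = 0)
    (n : ℕ) : ∃ (m : ℕ) (h : n ≤ m), ∀ (q : ℤ)
      (x : DerivedCategory.Q.obj P ⟶ (RG J (S0.obj (powM I M m)))⟦q⟧),
        x ≫ (rmap J (S0.map (powMap I M h)))⟦q⟧' = 0 := by
  have := isKProjective_of_bddFree hP
  choose E hE hEinj hEe using fun i : ℕ => exists_kinj_rep (S0.obj (powM I M i))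
  let e := fun i => (hEe i).some
  let R : ∀ i j, (E i ⟶ E j) → Prop := fun i j U => ∃ h : j ≤ i,
    DerivedCategory.Q.map U ≫ (e j).hom = (e i).hom ≫ S0.map (powMap I M h)
  have hR : ∀ {i j l} (U : E i ⟶ E j) (V : E j ⟶ E l), R i j U → R j l V → R i l (U ≫ V) := by
    rintro i j l U V ⟨h, hU⟩ ⟨h', hV⟩
    refine ⟨h'.trans h, ?_⟩
    rw [Functor.map_comp, Category.assoc, hV, ← Category.assoc, hU, Category.assoc, ← Functor.map_comp]
    rfl
  have h0 : ∀ j, ∃ (i : ℕ) (U : E i ⟶ E j), R i j U ∧ ∀ (p q : ℤ) (_ : p + 1 = q) (x : Cochain P (E i) q),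
      δ q (q + 1) x = 0 → ∃ w : Cochain P (E j) p, δ p q w = x.comp (Cochain.ofHom U) (add_zero q) := by
    intro j
    obtain ⟨i, hji, hkill⟩ := exists_hom_kill (M := M) hP k hk j
    have := hE j
    obtain ⟨U, hU⟩ := exists_Q_map_eq ((e i).hom ≫ S0.map (powMap I M hji) ≫ (e j).inv)
    have hU' : DerivedCategory.Q.map U ≫ (e j).hom = (e i).hom ≫ S0.map (powMap I M hji) := by
      rw [hU, Category.assoc, Category.assoc, Iso.inv_hom_id, Category.comp_id]
    refine ⟨i, U, ⟨hji, hU'⟩, fun p q hpq x hx => ?_⟩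
    let x' : Cocycle P (E i) q := Cocycle.mk x (q + 1) rfl hx
    have hz : toDq (x'.postcomp U) = 0 := by
      rw [toDq_postcomp, ← cancel_mono ((shiftFunctor (Dual.D A) q).map (e j).hom), zero_comp, Category.assoc,
        ← Functor.map_comp, hU', Functor.map_comp, ← Category.assoc]
      exact hkill q _
    obtain ⟨w, hw⟩ := (mem_coboundaries_iff _ p hpq).1 ((toDq_eq_zero_iff _).1 hz)
    exact ⟨w, hw⟩
  have hinj : ∀ i l, Module.Injective A ((E i).X l) := fun i l =>
    haveI := hEinj i l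
    Module.injective_module_of_injective_object A ((E i).X l)
  obtain ⟨m, U, ⟨hnm, hU⟩, hkill⟩ := kills E R hP hinj hR h0 J n
  refine ⟨m, hnm, fun q x => ?_⟩
  have := hE m
  have := hE n
  let γm : DerivedCategory.Q.obj (gammaCx J (E m)) ≅ RG J (S0.obj (powM I M m)) :=
    asIso (rgammaUnit J (E m)) ≪≫ (DRing.RgammaI J).mapIso (e m)
  obtain ⟨x', hx'⟩ := toDq_surjective (P := P) (E := gammaCx J (E m)) (x ≫ (shiftFunctor (Dual.D A) q).map γm.inv)
  let ΓU : gammaCx J (E m) ⟶ gammaCx J (E n) :=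
    ((DRing.gammaI J).mapHomologicalComplex (ComplexShape.up ℤ)).map U
  have hxι : ValIn J (x'.1.comp (Cochain.ofHom (gammaCxι J (E m))) (add_zero q)) := fun p p' h y => by
    rw [Cochain.comp_zero_cochain_v, Cochain.ofHom_v]
    exact ((x'.1.v p p' h).hom y).2
  obtain ⟨w, hwv, hw⟩ := hkill (q - 1) q (sub_add_cancel q 1) _
    (by rw [δ_comp_ofHom, Cocycle.δ_eq_zero, Cochain.zero_comp]) hxι
  obtain ⟨w', rfl⟩ := exists_cochain_lift hwv
  have hzero : toDq (x'.postcomp ΓU) = 0 := by
    refine (toDq_eq_zero_iff _).2 ((mem_coboundaries_iff _ (q - 1) (sub_add_cancel q 1)).2 ⟨w', ?_⟩)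
    refine cochain_ι_injective ?_
    rw [← δ_comp_ofHom, hw]
    refine Cochain.ext _ _ fun p p' h => ModuleCat.hom_ext (LinearMap.ext fun y => ?_)
    simp [Cochain.comp_zero_cochain_v, Cochain.ofHom_v, ΓU]
    rfl
  have hnat : γm.hom ≫ rmap J (S0.map (powMap I M hnm)) =
      DerivedCategory.Q.map ΓU ≫ rgammaUnit J (E n) ≫ (DRing.RgammaI J).map (e n).hom := by
    show (rgammaUnit J (E m) ≫ (DRing.RgammaI J).map (e m).hom) ≫ (DRing.RgammaI J).map _ = _
    rw [Category.assoc, ← Functor.map_comp, ← hU, Functor.map_comp, ← Category.assoc, rgammaUnit_natural,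
      Category.assoc]
  have hx : x = toDq x' ≫ (shiftFunctor (Dual.D A) q).map γm.hom := by
    rw [hx', Category.assoc, ← Functor.map_comp, Iso.inv_hom_id, CategoryTheory.Functor.map_id, Category.comp_id]
  rw [hx, Category.assoc, ← Functor.map_comp, hnat, Functor.map_comp, ← Category.assoc, ← toDq_postcomp, hzero,
    zero_comp]

end Groth.Agent.LocDual54
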