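import Groth.Agent.LocDual54.RGammaTriangle
import Mathlib.CategoryTheory.Abelian.Injective.Ext
import Mathlib.CategoryTheory.Abelian.Injective.Resolution
import Mathlib.Algebra.Category.ModuleCat.EnoughInjectives

/-!
# `RΓ_J` of a module: amplitude and `H⁰`
-/

universe u

open CategoryTheory CategoryTheory.Limits

namespace Groth.Agent.LocDual54

attribute [local instance] HasDerivedCategory.standard

variable {A : Type u} [CommRing A] (J : Ideal A) [DRing.HasRgammaI J]

theorem exists_res_module (N : ModuleCat.{u} A) : ∃ E : CochainComplex (ModuleCat.{u} A) ℤ,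
    E.IsKInjective ∧ (∀ n < 0, IsZero (E.X n)) ∧
      Nonempty (DerivedCategory.Q.obj E ≅ (DerivedCategory.singleFunctor (ModuleCat.{u} A) 0).obj N) := by
  let R := injectiveResolution N
  exact ⟨R.cochainComplex, inferInstance, fun n hn => R.cochainComplex.isZero_of_isStrictlyGE 0 n hn,
    ⟨(asIso (DerivedCategory.Q.map R.ι')).symm ≪≫
      ((DerivedCategory.singleFunctorIsoCompQ (ModuleCat.{u} A) 0).app N).symm⟩⟩

/-- `RΓ_J` of a module has no cohomology in negative degrees. -/
theorem subsingleton_HD_RG_single (N : ModuleCat.{u} A) (i : ℤ) (hi : i < 0) :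
    Subsingleton (Dual.HD A (RG J ((DerivedCategory.singleFunctor (ModuleCat.{u} A) 0).obj N)) i) := by
  obtain ⟨E, hE, hz, ⟨e⟩⟩ := exists_res_module N
  let Φ := ((DerivedCategory.homologyFunctor _ i).mapIso
    ((DRing.RgammaI J).mapIso e.symm ≪≫ (asIso (rgammaUnit J E)).symm) ≪≫ hdIso (gammaCx J E) i).toLinearEquiv
  have : Subsingleton ((gammaCx J E).homology i) := by
    refine subsingleton_of_forall_eq 0 fun z => ?_
    obtain ⟨c, rfl⟩ := exists_cycle (gammaCx J E) i z
    have hs : Subsingleton ((gammaCx J E).X i) := ModuleCat.subsingleton_of_isZero ((DRing.gammaI J).map_isZero (hz i hi))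
    rw [show c = 0 from iCycles_injective (hs.elim _ _), map_zero]
  exact Φ.injective.subsingleton

/-- `H⁰(RΓ_J N) → H⁰(N)` is injective. -/
theorem injective_H0_eI (N : ModuleCat.{u} A) : Function.Injective
    ((DerivedCategory.homologyFunctor (ModuleCat.{u} A) 0).map
      (eI J ((DerivedCategory.singleFunctor (ModuleCat.{u} A) 0).obj N))).hom := by
  obtain ⟨E, hE, hz, ⟨e⟩⟩ := exists_res_module N
  let H := DerivedCategory.homologyFunctor (ModuleCat.{u} A) 0
  have h1 : Function.Injective (HomologicalComplex.homologyMap (gammaCxι J E) 0).hom := by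
    rw [injective_iff_map_eq_zero]
    intro z hz'
    obtain ⟨c, rfl⟩ := exists_cycle (gammaCx J E) 0 z
    rw [homologyMap_homologyπ, homologyπ_eq_zero_iff] at hz'
    obtain ⟨w, hw⟩ := hz'
    have := ModuleCat.subsingleton_of_isZero (hz (0 - 1) (by omega))
    rw [Subsingleton.elim w 0, map_zero, f_iCycles] at hw
    rw [show c = 0 from iCycles_injective (Subtype.ext (hw.symm.trans (congrArg Subtype.val (map_zero ((gammaCx J E).iCycles 0).hom)).symm)),
      map_zero]
  have h2 : Function.Injective (H.map (DerivedCategory.Q.map (gammaCxι J E))).hom := by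
    intro x y hxy
    have hn : H.map (DerivedCategory.Q.map (gammaCxι J E)) ≫ (hdIso E 0).hom =
        (hdIso (gammaCx J E) 0).hom ≫ HomologicalComplex.homologyMap (gammaCxι J E) 0 :=
      (DerivedCategory.homologyFunctorFactors (ModuleCat.{u} A) 0).hom.naturality (gammaCxι J E)
    refine (hdIso (gammaCx J E) 0).toLinearEquiv.injective (h1 ?_)
    exact (ConcreteCategory.congr_hom hn x).symm.trans
      ((congrArg (hdIso E 0).hom.hom hxy).trans (ConcreteCategory.congr_hom hn y))
  let γ : DerivedCategory.Q.obj (gammaCx J E) ≅ RG J ((DerivedCategory.singleFunctor (ModuleCat.{u} A) 0).obj N) :=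
    asIso (rgammaUnit J E) ≪≫ (DRing.RgammaI J).mapIso e
  have hγ : γ.hom ≫ eI J ((DerivedCategory.singleFunctor (ModuleCat.{u} A) 0).obj N) =
      DerivedCategory.Q.map (gammaCxι J E) ≫ e.hom := by
    show (rgammaUnit J E ≫ rmap J e.hom) ≫ eI J _ = _
    rw [Category.assoc, rmap_eI, ← Category.assoc]
    exact congrArg (· ≫ e.hom) (rgammaUnit_ε J E)
  intro x y hxy
  have hγ' := congrArg H.map hγ
  rw [Functor.map_comp, Functor.map_comp] at hγ'
  obtain ⟨x', rfl⟩ := (H.mapIso γ).toLinearEquiv.surjective x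
  obtain ⟨y', rfl⟩ := (H.mapIso γ).toLinearEquiv.surjective y
  refine congrArg _ (h2 ((H.mapIso e).toLinearEquiv.injective ?_))
  exact (ConcreteCategory.congr_hom hγ' x').symm.trans (hxy.trans (ConcreteCategory.congr_hom hγ' y'))

end Groth.Agent.LocDual54
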