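import Groth.Prelude.Def_DCoh2
import Groth.Agent.LocDual54.RGKill
import Groth.Agent.LocDual54.RGModule
import Groth.Agent.LocDual54.Milnor
import Groth.Agent.LocDual54.GreenleesMay
import Mathlib.Algebra.Homology.DerivedCategory.SingleTriangle

/-!
# The derived completion of `RΓ_J M` as a derived limit
-/

universe u

open CategoryTheory CategoryTheory.Limits CategoryTheory.Pretriangulated

namespace Groth.Agent.LocDual54

attribute [local instance] HasDerivedCategory.standard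

section General

variable {A : Type u} [CommRing A]

theorem isDerivedComplete_pi (I : Ideal A) (K : ℕ → Dual.D A) [HasProduct K]
    (h : ∀ n, DRing.IsDerivedComplete I (K n)) : DRing.IsDerivedComplete I (∏ᶜ K) := by
  intro f hf
  rw [H9Misc.DRingCompl.subsingleton_shift_iff]
  exact fun m => ⟨fun a b => Pi.hom_ext _ _ fun k =>
    ((H9Misc.DRingCompl.subsingleton_shift_iff _ _).1 (h k f hf) m).elim _ _⟩

theorem isDerivedComplete_fibre (I : Ideal A) {F X Y : Dual.D A} {α : F ⟶ X} {β : X ⟶ Y} {c : Y ⟶ F⟦(1 : ℤ)⟧}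
    (hT : Triangle.mk α β c ∈ distTriang _) (hX : DRing.IsDerivedComplete I X) (hY : DRing.IsDerivedComplete I Y) :
    DRing.IsDerivedComplete I F := by
  intro f hf
  rw [H9Misc.DRingCompl.subsingleton_shift_iff]
  intro m
  refine subsingleton_of_forall_eq 0 fun x => ?_
  have hxα : x ≫ α = 0 := ((H9Misc.DRingCompl.subsingleton_shift_iff _ _).1 (hX f hf) m).elim _ _
  obtain ⟨w, hw⟩ : ∃ w, x = w ≫ (Triangle.mk α β c).invRotate.mor₁ :=
    Triangle.coyoneda_exact₂ _ (inv_rot_of_distTriang _ hT) x hxα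
  have hY' := isDerivedComplete_shift I hY (-1)
  rw [hw, ((H9Misc.DRingCompl.subsingleton_shift_iff _ _).1 (hY' f hf) m).elim w 0]
  exact zero_comp

theorem pi_hom_shift_eq_zero {W : Dual.D A} {X : ℕ → Dual.D A} [HasProduct X] (h : ∀ k, ∀ x : W ⟶ X k, x = 0)
    (x : W ⟶ ∏ᶜ X) : x = 0 :=
  Pi.hom_ext _ _ fun k => (h k _).trans zero_comp.symm

theorem isOrth_shift (I : Ideal A) {C : Dual.D A} (h : IsOrth I C) (a : ℤ) : IsOrth I (C⟦a⟧) := fun M hM x => by
  let e := (shiftEquiv' (Dual.D A) a (-a) (add_neg_cancel a)).toAdjunction.homEquiv C M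
  have h0 := h _ (isDerivedComplete_shift I hM (-a))
  exact e.injective ((h0 (e x)).trans (h0 (e 0)).symm)

theorem precomp_bijective_of_isOrth (I : Ideal A) {X Y C : Dual.D A} {f : X ⟶ Y} {g : Y ⟶ C}
    {h : C ⟶ X⟦(1 : ℤ)⟧} (hT : Triangle.mk f g h ∈ distTriang _) (hC : IsOrth I C) (Z : Dual.D A)
    (hZ : DRing.IsDerivedComplete I Z) : Function.Bijective fun x : Y ⟶ Z => f ≫ x := by
  constructor
  · intro x y hxy
    refine sub_eq_zero.1 ?_
    obtain ⟨w, hw⟩ : ∃ w : C ⟶ Z, x - y = g ≫ w := Triangle.yoneda_exact₂ _ hT (x - y) (by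
      show f ≫ (x - y) = 0
      exact (Preadditive.comp_sub _ _ _).trans (sub_eq_zero.2 hxy))
    rw [hw, hC Z hZ w, comp_zero]
  · intro y
    obtain ⟨x, hx⟩ := Triangle.yoneda_exact₂ _ (inv_rot_of_distTriang _ hT) y (isOrth_shift I hC (-1) Z hZ _)
    exact ⟨x, hx.symm⟩

end General

variable {A : Type u} [CommRing A] (I J : Ideal A) [DRing.HasRgammaI J] (M : Type u) [AddCommGroup M] [Module A M]

/-- `M/I^n M`. -/
noncomputable abbrev quoM (n : ℕ) : ModuleCat.{u} A := ModuleCat.of A (M ⧸ (I ^ n • ⊤ : Submodule A M))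

/-- `M/I^m M → M/I^n M`. -/
noncomputable def quoMap {n m : ℕ} (h : n ≤ m) : quoM I M m ⟶ quoM I M n :=
  ModuleCat.ofHom (Submodule.mapQ (I ^ m • ⊤ : Submodule A M) (I ^ n • ⊤ : Submodule A M) LinearMap.id
    (Submodule.smul_mono (Ideal.pow_le_pow_right h) le_rfl))

/-- `M → M/I^n M`. -/
noncomputable def quoPr (n : ℕ) : ModuleCat.of A M ⟶ quoM I M n := ModuleCat.ofHom (Submodule.mkQ _)

theorem quoPr_map {n m : ℕ} (h : n ≤ m) : quoPr I M m ≫ quoMap I M h = quoPr I M n := rfl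

theorem quoMap_comp {n m l : ℕ} (h : n ≤ m) (h' : m ≤ l) :
    quoMap I M h' ≫ quoMap I M h = quoMap I M (h.trans h') := by
  refine ModuleCat.hom_ext (Submodule.linearMap_qext _ (LinearMap.ext fun x => ?_))
  simp only [quoMap, ModuleCat.hom_comp, ModuleCat.hom_ofHom, LinearMap.comp_apply, Submodule.mkQ_apply,
    Submodule.mapQ_apply, LinearMap.id_apply]

theorem quoMap_refl (n : ℕ) : quoMap I M (le_refl n) = 𝟙 _ := by
  refine ModuleCat.hom_ext (Submodule.linearMap_qext _ ?_)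
  rfl

/-- `0 → I^n M → M → M/I^n M → 0`. -/
noncomputable def powSeq (n : ℕ) : ShortComplex (ModuleCat.{u} A) :=
  ShortComplex.mk (ModuleCat.ofHom (Submodule.subtype _) : powM I M n ⟶ ModuleCat.of A M) (quoPr I M n)
    (ModuleCat.hom_ext (LinearMap.ext fun x => (Submodule.Quotient.mk_eq_zero _).2 x.2))

theorem powSeq_shortExact (n : ℕ) : (powSeq I M n).ShortExact where
  exact := by
    rw [ShortComplex.moduleCat_exact_iff]
    show ∀ x : M, (quoPr I M n).hom x = 0 → ∃ y : ↥(I ^ n • (⊤ : Submodule A M)), (y : M) = x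
    exact fun x h => ⟨⟨x, (Submodule.Quotient.mk_eq_zero _).1 h⟩, rfl⟩
  mono_f := (ModuleCat.mono_iff_injective _).2 Subtype.val_injective
  epi_g := (ModuleCat.epi_iff_surjective _).2
    (show Function.Surjective (quoPr I M n).hom from Submodule.Quotient.mk_surjective _)

/-- The map of short exact sequences between two levels. -/
noncomputable def powSeqMap {n m : ℕ} (h : n ≤ m) : powSeq I M m ⟶ powSeq I M n where
  τ₁ := powMap I M h
  τ₂ := 𝟙 _
  τ₃ := quoMap I M h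
  comm₁₂ := rfl
  comm₂₃ := (Category.id_comp _).trans (quoPr_map I M h).symm

/-- `RΓ_J(M/I^n M)`. -/
noncomputable abbrev Kobj (n : ℕ) : Dual.D A := RG J (S0.obj (quoM I M n))

/-- The transition maps. -/
noncomputable abbrev Kmap {n m : ℕ} (h : n ≤ m) : Kobj I J M m ⟶ Kobj I J M n := rmap J (S0.map (quoMap I M h))

/-- The projections. -/
noncomputable abbrev Kpr (n : ℕ) : RG J (S0.obj (ModuleCat.of A M)) ⟶ Kobj I J M n :=
  rmap J (S0.map (quoPr I M n))

theorem Kpr_map {n m : ℕ} (h : n ≤ m) : Kpr I J M m ≫ Kmap I J M h = Kpr I J M n := by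
  rw [← Functor.map_comp, ← Functor.map_comp, quoPr_map]

theorem Kmap_comp {n m l : ℕ} (h : n ≤ m) (h' : m ≤ l) :
    Kmap I J M h' ≫ Kmap I J M h = Kmap I J M (h.trans h') := by
  rw [← Functor.map_comp, ← Functor.map_comp, quoMap_comp]

theorem Kmap_refl (n : ℕ) : Kmap I J M (le_refl n) = 𝟙 _ := by
  rw [Kmap, rmap, quoMap_refl, CategoryTheory.Functor.map_id, CategoryTheory.Functor.map_id]

theorem isDerivedComplete_Kobj [IsNoetherianRing A] (n : ℕ) : DRing.IsDerivedComplete I (Kobj I J M n) := by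
  obtain ⟨fs, hfs⟩ := exists_list' I
  refine isDerivedComplete_of_nilp I fs hfs.le fun f hf => ⟨n, ?_⟩
  have h0 : f ^ n • 𝟙 (quoM I M n) = 0 := by
    refine ModuleCat.hom_ext (Submodule.linearMap_qext _ (LinearMap.ext fun x => ?_))
    exact (Submodule.Quotient.mk_smul _ (f ^ n) x).symm.trans ((Submodule.Quotient.mk_eq_zero _).2
      (Submodule.smul_mem_smul (Ideal.pow_mem_pow (hfs ▸ Ideal.subset_span hf) n) Submodule.mem_top))
  have h1 := rmap_smul J (f ^ n) (𝟙 (S0.obj (quoM I M n)))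
  have h2 : f ^ n • 𝟙 (S0.obj (quoM I M n)) = 0 := by
    rw [← CategoryTheory.Functor.map_id, ← Functor.map_smul, h0, Functor.map_zero]
  rw [h2, rmap_zero, rmap, CategoryTheory.Functor.map_id] at h1
  exact h1.symm

variable {M}

/-- Maps from all shifts of `L` into `RΓ_J(I^n M)` are pro-zero. -/
def Dead (L : Dual.D A) : Prop := ∀ n : ℕ, ∃ (m : ℕ) (h : n ≤ m), ∀ (a b : ℤ)
  (x : L⟦a⟧ ⟶ (RG J (S0.obj (powM I M m)))⟦b⟧), x ≫ (rmap J (S0.map (powMap I M h)))⟦b⟧' = 0

theorem dead_shift {L : Dual.D A} (hL : Dead I J (M := M) L) (a : ℤ) : Dead I J (M := M) (L⟦a⟧) := fun n => by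
  obtain ⟨m, h, hm⟩ := hL n
  refine ⟨m, h, fun a' b x => ?_⟩
  rw [← cancel_epi ((shiftFunctorAdd (Dual.D A) a a').app L).hom, comp_zero, ← Category.assoc]
  exact hm _ _ _

theorem dead_zero {L : Dual.D A} (hL : Dead I J (M := M) L) (n : ℕ) : ∃ (m : ℕ) (h : n ≤ m),
    (∀ x : L ⟶ RG J (S0.obj (powM I M m)), x ≫ rmap J (S0.map (powMap I M h)) = 0) ∧
    ∀ x : L ⟶ (RG J (S0.obj (powM I M m)))⟦(1 : ℤ)⟧, x ≫ (rmap J (S0.map (powMap I M h)))⟦(1 : ℤ)⟧' = 0 := by
  obtain ⟨m, h, hm⟩ := hL n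
  refine ⟨m, h, fun x => ?_, fun x => ?_⟩
  · rw [← cancel_mono ((shiftFunctorZero (Dual.D A) ℤ).app _).inv, zero_comp,
      ← cancel_epi ((shiftFunctorZero (Dual.D A) ℤ).app L).hom, comp_zero]
    have := hm 0 0 (((shiftFunctorZero (Dual.D A) ℤ).app L).hom ≫ x ≫ ((shiftFunctorZero (Dual.D A) ℤ).app _).inv)
    refine Eq.trans ?_ this
    rw [Category.assoc, Category.assoc, Category.assoc]
    congr 2
    exact ((shiftFunctorZero (Dual.D A) ℤ).inv.naturality _)
  · rw [← cancel_epi ((shiftFunctorZero (Dual.D A) ℤ).app L).hom, comp_zero, ← Category.assoc]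
    exact hm 0 1 _

variable [IsNoetherianRing A] [Module.Finite A M]

theorem dead_test {P : CochainComplex (ModuleCat.{u} A) ℤ} (hP : BddFree P) (k : ℕ)
    (hk : ∀ a ∈ I ^ k, a • 𝟙 (DerivedCategory.Q.obj P) = 0) : Dead I J (M := M) (DerivedCategory.Q.obj P) := by
  intro n
  obtain ⟨m, h, hm⟩ := exists_rg_kill I J M hP k hk n
  refine ⟨m, h, fun a b x => ?_⟩
  let ad := (shiftEquiv' (Dual.D A) a (-a) (add_neg_cancel a)).toAdjunction
  refine (ad.homEquiv _ _).injective ?_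
  refine (ad.homEquiv_naturality_right x _).trans ?_
  have h0 : ad.homEquiv (DerivedCategory.Q.obj P) ((RG J (S0.obj (powM I M n)))⟦b⟧) 0 = 0 := by
    simp [ad, Adjunction.homEquiv_unit, Functor.map_zero]
  refine Eq.trans ?_ h0.symm
  refine (cancel_mono ((shiftFunctorAdd' (Dual.D A) b (-a) (b + -a) rfl).app _).inv).1 ?_
  refine Eq.trans ?_ zero_comp.symm
  refine (Category.assoc _ _ _).trans ?_
  refine Eq.trans ?_ (hm (b + -a) (ad.homEquiv _ _ x ≫ ((shiftFunctorAdd' (Dual.D A) b (-a) (b + -a) rfl).app _).inv))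
  refine Eq.trans ?_ (Category.assoc _ _ _).symm
  exact congrArg ((ad.homEquiv _ _ x) ≫ ·) ((shiftFunctorAdd' (Dual.D A) b (-a) (b + -a) rfl).inv.naturality _)

omit [Module.Finite A M] in
/-- The triangle `RΓ_J(I^n M) → RΓ_J M → RΓ_J(M/I^n M)`. -/
theorem powTriangle (n : ℕ) :
    Triangle.mk (rmap J (S0.map (powSeq I M n).f)) (Kpr I J M n)
      (rconn J (powSeq_shortExact I M n).singleδ) ∈ distTriang _ :=
  rgamma_distinguished J (powSeq_shortExact I M n).singleTriangle_distinguished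

omit [Module.Finite A M] in
theorem powTriangle_natural {n m : ℕ} (h : n ≤ m) :
    Kmap I J M h ≫ rconn J (powSeq_shortExact I M n).singleδ =
      rconn J (powSeq_shortExact I M m).singleδ ≫ (rmap J (S0.map (powMap I M h)))⟦(1 : ℤ)⟧' := by
  refine (rconn_natural J (S0.map (powMap I M h)) (S0.map (quoMap I M h)) ?_).symm
  exact (ShortComplex.ShortExact.singleTriangle.map (powSeq_shortExact I M m) (powSeq_shortExact I M n)
    (powSeqMap I M h)).comm₃

omit [Module.Finite A M] in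
/-- The projections are eventually injective. -/
theorem Kpr_injective {L : Dual.D A} (hL : Dead I J (M := M) L) :
    ∃ m₀, ∀ m ≥ m₀, ∀ x : L ⟶ RG J (S0.obj (ModuleCat.of A M)), x ≫ Kpr I J M m = 0 → x = 0 := by
  obtain ⟨m₀, h₀, hm₀, -⟩ := dead_zero I J hL 0
  refine ⟨m₀, fun m hm x hx => ?_⟩
  have hx' : x ≫ Kpr I J M m₀ = 0 := by
    rw [← Kpr_map I J M hm, ← Category.assoc, hx, zero_comp]
  obtain ⟨y, hy⟩ : ∃ y : L ⟶ RG J (S0.obj (powM I M m₀)), x = y ≫ rmap J (S0.map (powSeq I M m₀).f) :=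
    Triangle.coyoneda_exact₂ _ (powTriangle I J (M := M) m₀) x hx'
  have hf : rmap J (S0.map (powSeq I M m₀).f) =
      rmap J (S0.map (powMap I M h₀)) ≫ rmap J (S0.map (powSeq I M 0).f) := by
    exact ((congrArg (rmap J) ((S0 (A := A)).map_comp (powMap I M h₀) (powSeq I M 0).f)).trans
      ((DRing.RgammaI J).map_comp _ _)).symm.trans rfl |>.symm
  rw [hy]
  exact ((congrArg (y ≫ ·) hf).trans (Category.assoc _ _ _).symm).trans ((congrArg (· ≫ _) (hm₀ y)).trans zero_comp)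

omit [Module.Finite A M] in
/-- The cokernels of the projections are pro-zero. -/
theorem exists_Kpr_lift {L : Dual.D A} (hL : Dead I J (M := M) L) (n : ℕ) :
    ∃ (m : ℕ) (h : n ≤ m), ∀ y : L ⟶ Kobj I J M m,
      ∃ g : L ⟶ RG J (S0.obj (ModuleCat.of A M)), g ≫ Kpr I J M n = y ≫ Kmap I J M h := by
  obtain ⟨m, h, -, hm⟩ := dead_zero I J hL n
  refine ⟨m, h, fun y => ?_⟩
  obtain ⟨g, hg⟩ : ∃ g : L ⟶ RG J (S0.obj (ModuleCat.of A M)), y ≫ Kmap I J M h = g ≫ Kpr I J M n := by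
    refine Triangle.coyoneda_exact₃ _ (powTriangle I J (M := M) n) _ ?_
    show (y ≫ Kmap I J M h) ≫ rconn J (powSeq_shortExact I M n).singleδ = 0
    rw [Category.assoc, powTriangle_natural]
    exact (Category.assoc _ _ _).symm.trans (hm _)
  exact ⟨g, hg.symm⟩

/-- Every family lifts along `1 - shift`. -/
theorem exists_shift_preimage {L : Dual.D A} (hL : Dead I J (M := M) L) (y : ∀ n, L ⟶ Kobj I J M n) :
    ∃ x : ∀ n, L ⟶ Kobj I J M n, ∀ n, x n - x (n + 1) ≫ Kmap I J M (Nat.le_succ n) = y n := by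
  let T : ∀ n, (L ⟶ Kobj I J M (n + 1)) →+ (L ⟶ Kobj I J M n) := fun n =>
    Preadditive.rightComp L (Kmap I J M (Nat.le_succ n))
  let a : ∀ n, (L ⟶ RG J (S0.obj (ModuleCat.of A M))) →+ (L ⟶ Kobj I J M n) := fun n =>
    Preadditive.rightComp L (Kpr I J M n)
  have hE : ∀ (d n l : ℕ) (_ : n + d = l) (hle : n ≤ l), towE T y d n = y l ≫ Kmap I J M hle := by
    intro d
    induction d with
    | zero =>
      intro n l hl hle
      subst hl
      exact (Category.comp_id _).symm.trans (congrArg (y n ≫ ·) (Kmap_refl I J M n).symm)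
    | succ d ih =>
      intro n l hl hle
      show towE T y d (n + 1) ≫ Kmap I J M (Nat.le_succ n) = _
      rw [ih (n + 1) l (by omega) (by omega), Category.assoc, Kmap_comp]
  refine exists_sub_shift T a (fun n g => (Category.assoc _ _ _).trans (congrArg (g ≫ ·) (Kpr_map I J M _))) y
    fun n => ?_
  obtain ⟨m, h, hm⟩ := exists_Kpr_lift I J hL n
  refine ⟨m, fun d hd => ?_⟩
  obtain ⟨g, hg⟩ := hm (y (n + d) ≫ Kmap I J M (show m ≤ n + d by omega))
  refine ⟨g, ?_⟩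
  show g ≫ Kpr I J M n = _
  rw [hg, hE d n (n + d) rfl (by omega), Category.assoc, Kmap_comp]

section Rlim

variable [∀ K : ℕ → Dual.D A, HasProduct K] {F : Dual.D A} {η : RG J (S0.obj (ModuleCat.of A M)) ⟶ F}
  {α : F ⟶ ∏ᶜ Kobj I J M} {c : ∏ᶜ Kobj I J M ⟶ F⟦(1 : ℤ)⟧}
  (hF : Triangle.mk α (Pi.lift fun n => Pi.π (Kobj I J M) n - Pi.π (Kobj I J M) (n + 1) ≫
    Kmap I J M (Nat.le_succ n)) c ∈ distTriang _)
  (hη : η ≫ α = Pi.lift (Kpr I J M))

include hη in
omit [IsNoetherianRing A] [Module.Finite A M] in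
theorem η_π (n : ℕ) : η ≫ α ≫ Pi.π (Kobj I J M) n = Kpr I J M n := by
  rw [← Category.assoc, hη, Pi.lift_π]

include hF hη in
/-- `η` is bijective on maps out of the test objects. -/
theorem comp_η_bijective {L : Dual.D A} (hL : Dead I J (M := M) L) :
    Function.Bijective fun x : L ⟶ RG J (S0.obj (ModuleCat.of A M)) => x ≫ η := by
  obtain ⟨m₀, hm₀⟩ := Kpr_injective I J hL
  constructor
  · intro x x' hxx
    simp only at hxx
    refine sub_eq_zero.1 (hm₀ m₀ le_rfl _ ?_)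
    rw [← η_π I J hη m₀, ← Category.assoc, Preadditive.sub_comp, hxx, sub_self, zero_comp]
  · intro z
    let y : ∀ n, L ⟶ Kobj I J M n := fun n => (z ≫ α) ≫ Pi.π (Kobj I J M) n
    have hy : ∀ (n m : ℕ) (h : n ≤ m), y m ≫ Kmap I J M h = y n := by
      intro n m h
      induction m, h using Nat.le_induction with
      | base => rw [Kmap_refl, Category.comp_id]
      | succ m hm ih =>
        have h0 : (z ≫ α) ≫ (Pi.lift fun n => Pi.π (Kobj I J M) n - Pi.π (Kobj I J M) (n + 1) ≫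
            Kmap I J M (Nat.le_succ n)) = 0 := by
          rw [Category.assoc]
          exact (congrArg (z ≫ ·) (comp_distTriang_mor_zero₁₂ _ hF)).trans comp_zero
        have h1 := congrArg (· ≫ Pi.π (Kobj I J M) m) h0
        simp only [zero_comp, Category.assoc, Pi.lift_π, Preadditive.comp_sub, sub_eq_zero] at h1
        rw [← ih]
        show ((z ≫ α) ≫ Pi.π _ (m + 1)) ≫ Kmap I J M _ = _
        rw [← Kmap_comp I J M hm (Nat.le_succ m), ← Category.assoc]
        congr 1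
        simp only [Category.assoc, y]
        exact h1.symm
    choose φ hle hφ using fun n => exists_Kpr_lift I J hL n
    choose g hg using fun n => hφ n (y (φ n))
    have hg' : ∀ n, g n ≫ Kpr I J M n = y n := fun n => (hg n).trans (hy n _ (hle n))
    have hcons : ∀ n, g m₀ ≫ Kpr I J M n = y n := by
      intro n
      have hN : g (max n m₀) = g m₀ := by
        refine sub_eq_zero.1 (hm₀ m₀ le_rfl _ ?_)
        rw [Preadditive.sub_comp, ← Kpr_map I J M (le_max_right n m₀), ← Category.assoc, hg',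
          hy _ _ (le_max_right n m₀), Kpr_map, hg', sub_self]
      rw [← hN, ← Kpr_map I J M (le_max_left n m₀), ← Category.assoc, hg', hy _ _ (le_max_left n m₀)]
    refine ⟨g m₀, ?_⟩
    show g m₀ ≫ η = z
    refine (sub_eq_zero.1 ?_).symm
    generalize hz' : z - g m₀ ≫ η = z'
    have hz'α : z' ≫ α = 0 := Pi.hom_ext _ _ fun n => by
      rw [← hz', zero_comp, Preadditive.sub_comp, Preadditive.sub_comp, Category.assoc (g m₀), Category.assoc (g m₀),
        Category.assoc η, η_π I J hη n, hcons n, sub_self]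
    obtain ⟨v, hv⟩ : ∃ v : L⟦(1 : ℤ)⟧ ⟶ ∏ᶜ Kobj I J M, z'⟦(1 : ℤ)⟧' = v ≫ c := by
      refine Triangle.coyoneda_exact₃ _ (rot_of_distTriang _ hF) _ ?_
      show z'⟦(1 : ℤ)⟧' ≫ (-α⟦(1 : ℤ)⟧') = 0
      rw [Preadditive.comp_neg, ← Functor.map_comp, hz'α, Functor.map_zero, neg_zero]
    obtain ⟨x, hx⟩ := exists_shift_preimage I J (dead_shift I J hL 1) fun n => v ≫ Pi.π (Kobj I J M) n
    have hvx : v = Pi.lift x ≫ (Pi.lift fun n => Pi.π (Kobj I J M) n - Pi.π (Kobj I J M) (n + 1) ≫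
        Kmap I J M (Nat.le_succ n)) := Pi.hom_ext _ _ fun n => by
      rw [Category.assoc, Pi.lift_π, Preadditive.comp_sub, Pi.lift_π, ← Category.assoc, Pi.lift_π, hx]
    apply (shiftFunctor (Dual.D A) (1 : ℤ)).map_injective
    rw [Functor.map_zero, hv, hvx, Category.assoc]
    exact (congrArg (Pi.lift x ≫ ·) (comp_distTriang_mor_zero₂₃ _ hF)).trans comp_zero

end Rlim

variable [∀ K : ℕ → Dual.D A, HasProduct K]


/-- The derived limit, with its universal property. -/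
theorem exists_rlim :
    ∃ (F : Dual.D A) (η : RG J (S0.obj (ModuleCat.of A M)) ⟶ F) (α : F ⟶ ∏ᶜ Kobj I J M)
      (c : ∏ᶜ Kobj I J M ⟶ F⟦(1 : ℤ)⟧),
      Triangle.mk α (Pi.lift fun n => Pi.π (Kobj I J M) n - Pi.π (Kobj I J M) (n + 1) ≫ Kmap I J M (Nat.le_succ n))
        c ∈ distTriang _ ∧
      η ≫ α = Pi.lift (Kpr I J M) ∧ DRing.IsDerivedComplete I F ∧
      (∀ i : ℤ, i < 0 → Subsingleton (Dual.HD A F i)) ∧
      ∀ Z, DRing.IsDerivedComplete I Z → Function.Bijective fun x : F ⟶ Z => η ≫ x := by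
  have := hasRgammaI I
  let δ : ∏ᶜ Kobj I J M ⟶ ∏ᶜ Kobj I J M :=
    Pi.lift fun n => Pi.π (Kobj I J M) n - Pi.π (Kobj I J M) (n + 1) ≫ Kmap I J M (Nat.le_succ n)
  have hδ : ∀ {W : Dual.D A} (x : W ⟶ ∏ᶜ Kobj I J M) (n : ℕ), (x ≫ δ) ≫ Pi.π (Kobj I J M) n =
      x ≫ Pi.π (Kobj I J M) n - (x ≫ Pi.π (Kobj I J M) (n + 1)) ≫ Kmap I J M (Nat.le_succ n) := fun x n => by
    rw [Category.assoc, Pi.lift_π, Preadditive.comp_sub, Category.assoc]
  obtain ⟨F, α, c, hF⟩ := distinguished_cocone_triangle₁ δ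
  have hFc : DRing.IsDerivedComplete I F := isDerivedComplete_fibre I hF
    (isDerivedComplete_pi I _ (isDerivedComplete_Kobj I J M)) (isDerivedComplete_pi I _ (isDerivedComplete_Kobj I J M))
  have hpa : Pi.lift (Kpr I J M) ≫ δ = 0 := Pi.hom_ext _ _ fun n => by
    rw [hδ, Pi.lift_π, Pi.lift_π, Kpr_map, sub_self, zero_comp]
  obtain ⟨η, hη⟩ : ∃ η : RG J (S0.obj (ModuleCat.of A M)) ⟶ F, Pi.lift (Kpr I J M) = η ≫ α :=
    Triangle.coyoneda_exact₂ _ hF _ hpa
  refine ⟨F, η, α, c, hF, hη.symm, hFc, fun i hi => ?_, ?_⟩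
  · let H := DerivedCategory.homologyFunctor (ModuleCat.{u} A)
    have hz : ∀ j < 0, IsZero ((H j).obj (∏ᶜ Kobj I J M)) := fun j hj => by
      refine H9Misc.DRingCompl.isZ ((H9Misc.DRingCompl.subsingleton_HD_iff _ j).2 ⟨fun a b => ?_⟩)
      exact Pi.hom_ext _ _ fun k => ((H9Misc.DRingCompl.subsingleton_HD_iff _ j).1
        (subsingleton_HD_RG_single J (quoM I M k) j hj)).elim _ _
    refine ModuleCat.subsingleton_of_isZero ?_
    have h1 := DerivedCategory.HomologySequence.exact₁ _ hF (i - 1) i (sub_add_cancel i 1)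
    exact h1.isZero_of_both_zeros ((hz (i - 1) (by omega)).eq_of_src _ _) ((hz i hi).eq_of_tgt _ _)
  obtain ⟨fs, hfs⟩ := exists_list' I
  obtain ⟨P, hP, hnil, hcrit⟩ := exists_test (A := A) fs
  obtain ⟨k, hk⟩ : ∃ k : ℕ, ∀ a ∈ I ^ k, a • 𝟙 (DerivedCategory.Q.obj P) = 0 := by
    have hle : I ≤ Ideal.radical (LinearMap.ker
        (LinearMap.toSpanSingleton A (DerivedCategory.Q.obj P ⟶ DerivedCategory.Q.obj P) (𝟙 _))) := by
      rw [hfs]
      exact Ideal.span_le.2 fun a ha => (hnil a ha).imp fun _ h => h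
    obtain ⟨k, hk⟩ := Ideal.exists_pow_le_of_le_radical_of_fg hle (IsNoetherian.noetherian I)
    exact ⟨k, fun a ha => hk ha⟩
  have hP0 := dead_test I J (M := M) hP k hk
  obtain ⟨C, g, h, hC⟩ := distinguished_cocone_triangle η
  have hperp : Perp (DerivedCategory.Q.obj P) C := fun q x' => by
    refine eq_zero_of_shift_hom_eq_zero (neg_add_cancel q) (fun x => ?_) x'
    have hL := dead_shift I J hP0 (-q)
    have hxh : x ≫ h = 0 := by
      let ad := (shiftEquiv' (Dual.D A) (-1 : ℤ) 1 (neg_add_cancel 1)).toAdjunction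
      refine (ad.homEquiv _ _).symm.injective ?_
      refine (comp_η_bijective I J hF hη.symm (dead_shift I J hL (-1))).1 ?_
      show (ad.homEquiv _ _).symm (x ≫ h) ≫ η = (ad.homEquiv _ _).symm 0 ≫ η
      have h31 : h ≫ η⟦(1 : ℤ)⟧' = 0 := comp_distTriang_mor_zero₃₁ _ hC
      rw [← ad.homEquiv_naturality_right_symm, ← ad.homEquiv_naturality_right_symm]
      congr 1
      show (x ≫ h) ≫ η⟦(1 : ℤ)⟧' = 0 ≫ η⟦(1 : ℤ)⟧'
      rw [Category.assoc, h31, comp_zero, zero_comp]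
    obtain ⟨y, hy⟩ : ∃ y, x = y ≫ g := Triangle.coyoneda_exact₃ _ hC x hxh
    obtain ⟨y', hy'⟩ := (comp_η_bijective I J hF hη.symm hL).2 y
    rw [hy, ← hy', Category.assoc]
    exact (congrArg (y' ≫ ·) (comp_distTriang_mor_zero₁₂ _ hC)).trans comp_zero
  have hloc : IsLocal I C :=
    isLocal_of_kosZero I fs (fun f hf => hfs ▸ Ideal.subset_span hf) (hcrit C hperp)
  exact fun Z hZ => precomp_bijective_of_isOrth I hC (isOrth_of_isLocal I hloc) Z hZ

/-- The derived completion is the derived limit, compatibly with the unit. -/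
theorem exists_completion_iso [DRing.HasDerivedCompletion I] :
    ∃ (F : Dual.D A) (η : RG J (S0.obj (ModuleCat.of A M)) ⟶ F) (α : F ⟶ ∏ᶜ Kobj I J M)
      (c : ∏ᶜ Kobj I J M ⟶ F⟦(1 : ℤ)⟧)
      (e : ((DRing.derivedCompletion I).obj (RG J (S0.obj (ModuleCat.of A M)))).obj ≅ F),
      Triangle.mk α (Pi.lift fun n => Pi.π (Kobj I J M) n - Pi.π (Kobj I J M) (n + 1) ≫ Kmap I J M (Nat.le_succ n))
        c ∈ distTriang _ ∧
      η ≫ α = Pi.lift (Kpr I J M) ∧
      (∀ i : ℤ, i < 0 → Subsingleton (Dual.HD A F i)) ∧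
      DRing.toDerivedCompletion I _ ≫ e.hom = η := by
  have := hasRgammaI I
  obtain ⟨F, η, α, c, hF, hη, hFc, hneg, huniv⟩ := exists_rlim I J (M := M)
  let X := RG J (S0.obj (ModuleCat.of A M))
  let L := (DRing.derivedCompletion I).obj X
  obtain ⟨φ, hφ⟩ := (toCompl_bijective I X F hFc).2 η
  obtain ⟨ψ, hψ⟩ := (huniv L.obj L.property).2 (DRing.toDerivedCompletion I X)
  simp only at hφ hψ
  refine ⟨F, η, α, c, ⟨φ, ψ, ?_, ?_⟩, hF, hη, hneg, hφ⟩
  · refine (toCompl_bijective I X L.obj L.property).1 ?_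
    show DRing.toDerivedCompletion I X ≫ φ ≫ ψ = DRing.toDerivedCompletion I X ≫ 𝟙 _
    rw [← Category.assoc, hφ, hψ, Category.comp_id]
  · refine (huniv F hFc).1 ?_
    show η ≫ ψ ≫ φ = η ≫ 𝟙 _
    rw [← Category.assoc, hψ, hφ, Category.comp_id]

/-- The statement. -/
theorem isRlim_completion [DRing.HasDerivedCompletion I] :
    DCoh.IsRlim (fun n => Kobj I J M n) (fun n => Kmap I J M (Nat.le_succ n))
      ((DRing.derivedCompletion I).obj (RG J (S0.obj (ModuleCat.of A M)))).obj ∧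
    ∀ i : ℤ, i < 0 →
      Subsingleton (Dual.HD A ((DRing.derivedCompletion I).obj (RG J (S0.obj (ModuleCat.of A M)))).obj i) := by
  obtain ⟨F, η, α, c, e, hF, -, hneg, -⟩ := exists_completion_iso I J (M := M)
  refine ⟨⟨e.hom ≫ α, c ≫ e.inv⟦(1 : ℤ)⟧', isomorphic_distinguished _ hF _
    (Triangle.isoMk _ _ e (Iso.refl _) (Iso.refl _) ?_ ?_ ?_)⟩, fun i hi => ?_⟩
  · exact Category.comp_id _
  · exact (Category.comp_id _).trans (Category.id_comp _).symm
  · show (c ≫ e.inv⟦(1 : ℤ)⟧') ≫ e.hom⟦(1 : ℤ)⟧' = 𝟙 _ ≫ c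
    rw [Category.assoc, ← Functor.map_comp, e.inv_hom_id, CategoryTheory.Functor.map_id, Category.comp_id, Category.id_comp]
  · exact @Function.Injective.subsingleton _ _ _
      ((DerivedCategory.homologyFunctor (ModuleCat.{u} A) i).mapIso e).toLinearEquiv.injective (hneg i hi)

end Groth.Agent.LocDual54
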