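import Groth.Agent.LocDual54.FlatDual
import Groth.Agent.Hensel.DepthFlat

/-!
# Dualizing complexes and adic completion
-/

set_option linter.style.haveILetI false
set_option backward.isDefEq.respectTransparency false

universe u

open CategoryTheory IsLocalRing

open scoped TensorProduct

namespace Groth.Agent.LocDual54

attribute [local instance] HasDerivedCategory.standard

open Groth.Agent.KFlatLib

variable {A : Type u} [CommRing A] [IsNoetherianRing A] (I : Ideal A)

/-- The base ring surjects onto the completion modulo the ideal. -/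
theorem mk_comp_algebraMap_surjective :
    Function.Surjective ((Ideal.Quotient.mk (I.map (algebraMap A (AdicCompletion I A)))).comp
      (algebraMap A (AdicCompletion I A))) := by
  intro y
  obtain ⟨x, rfl⟩ := Ideal.Quotient.mk_surjective y
  obtain ⟨a, ha⟩ := Submodule.mkQ_surjective _ (AdicCompletion.eval I A 1 x)
  refine ⟨a, (Ideal.Quotient.eq.2 ?_).symm⟩
  have h : x - algebraMap A (AdicCompletion I A) a ∈ (I ^ 1).map (algebraMap A (AdicCompletion I A)) := by
    rw [← LocalCrit.smul_top_eq_map, AdicCompletion.pow_smul_top_eq_ker_eval (IsNoetherian.noetherian I),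
      LinearMap.mem_ker, map_sub, ← ha, sub_eq_zero]
    exact (AdicCompletion.eval_of _ _ 1 a).symm
  rwa [pow_one] at h

theorem map_le_jacobson :
    I.map (algebraMap A (AdicCompletion I A)) ≤ (⊥ : Ideal (AdicCompletion I A)).jacobson :=
  haveI : IsAdicComplete (I.map (algebraMap A (AdicCompletion I A))) (AdicCompletion I A) :=
    AdicCompletion.isAdicComplete_self I (IsNoetherian.noetherian I)
  IsAdicComplete.le_jacobson_bot _

/-- An ideal containing the ideal of completion is extended. -/
theorem map_comap_eq_of_le (J : Ideal (AdicCompletion I A)) (hJ : I.map (algebraMap A (AdicCompletion I A)) ≤ J) :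
    (J.comap (algebraMap A (AdicCompletion I A))).map (algebraMap A (AdicCompletion I A)) = J := by
  refine le_antisymm Ideal.map_comap_le fun x hx => ?_
  obtain ⟨a, ha⟩ := mk_comp_algebraMap_surjective I (Ideal.Quotient.mk _ x)
  have ha' := Ideal.Quotient.eq.1 ha
  have han : a ∈ J.comap (algebraMap A (AdicCompletion I A)) := by
    have : algebraMap A (AdicCompletion I A) a - x + x ∈ J := J.add_mem (hJ ha') hx
    simpa using this
  have := Ideal.sub_mem _ (Ideal.mem_map_of_mem (algebraMap A (AdicCompletion I A)) han)
    (Ideal.map_mono (Ideal.map_le_iff_le_comap.1 hJ) ha')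
  simpa using this

/-- The completion of a ring with a dualizing complex has one. -/
theorem isDualizing_adicCompletion {ω : Dual.D A} (hω : Dual.IsDualizing A ω)
    [DTen.HasLBase (algebraMap A (AdicCompletion I A))] :
    Dual.IsDualizing (AdicCompletion I A) ((DTen.LBase (algebraMap A (AdicCompletion I A))).obj ω) := by
  haveI := FormalFib6.isNoetherianRing_adicCompletion A I
  haveI := AdicCompletion.flat_of_isNoetherian I
  exact isDualizing_LBase hω (exists_map_eq_of_surjective I (mk_comp_algebraMap_surjective I) (map_le_jacobson I))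

/-- Depth along the completion. -/
theorem depth_completion {ω : Dual.D A} (hω : Dual.IsDualizing A ω) (M : Type u) [AddCommGroup M] [Module A M]
    [Module.Finite A M] (p' q' : PrimeSpectrum (AdicCompletion I A)) (hpq : p' ≤ q')
    (hq : I.map (algebraMap A (AdicCompletion I A)) ≤ q'.asIdeal) :
    LocCoh.depth (Localization.AtPrime (p'.asIdeal.comap (algebraMap A (AdicCompletion I A))))
        (LocalizedModule (p'.asIdeal.comap (algebraMap A (AdicCompletion I A))).primeCompl M) ≤
      LocCoh.depth (Localization.AtPrime p'.asIdeal)
        (LocalizedModule p'.asIdeal.primeCompl (AdicCompletion I M)) ∧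
    ((LocCoh.depth (Localization.AtPrime p'.asIdeal)
        (LocalizedModule p'.asIdeal.primeCompl (AdicCompletion I M)) : ℕ∞) : WithBot ℕ∞) +
        Order.krullDim (Set.Icc p' q') =
      ((LocCoh.depth (Localization.AtPrime (p'.asIdeal.comap (algebraMap A (AdicCompletion I A))))
        (LocalizedModule (p'.asIdeal.comap (algebraMap A (AdicCompletion I A))).primeCompl M) : ℕ∞) : WithBot ℕ∞) +
        Order.krullDim (Set.Icc (p'.comap (algebraMap A (AdicCompletion I A)))
          (q'.comap (algebraMap A (AdicCompletion I A)))) := by
  haveI := FormalFib6.isNoetherianRing_adicCompletion A I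
  haveI := AdicCompletion.flat_of_isNoetherian I
  haveI := hasLBase (algebraMap A (AdicCompletion I A))
  have hω' := isDualizing_adicCompletion I hω
  obtain ⟨n, hn, hcov, hmono, -⟩ := exists_extDegree hω
  obtain ⟨n', hn', hcov', hmono', -⟩ := exists_extDegree hω'
  let e : LocalizedModule p'.asIdeal.primeCompl (AdicCompletion I A ⊗[A] M) ≃ₗ[Localization.AtPrime p'.asIdeal]
      LocalizedModule p'.asIdeal.primeCompl (AdicCompletion I M) :=
    IsLocalizedModule.mapEquiv p'.asIdeal.primeCompl (LocalizedModule.mkLinearMap _ _)
      (LocalizedModule.mkLinearMap _ _) (Localization.AtPrime p'.asIdeal)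
      (AdicCompletion.ofTensorProductEquivOfFiniteNoetherian I M)
  rw [← Hensel.depth_congr e]
  set p := p'.comap (algebraMap A (AdicCompletion I A))
  set q := q'.comap (algebraMap A (AdicCompletion I A))
  have hpq₀ : p ≤ q := Ideal.comap_mono hpq
  by_cases hp : p ∈ Module.support A M
  · obtain ⟨k, k', hk, hk', he⟩ := depth_sub_degree hω hω' hn hn' M p' hp
    have hqn : n' q' = n q := by
      have hqs : q ∈ Module.support A (A ⧸ q.asIdeal) := by
        rw [LC.support_quot_self]; exact (PrimeSpectrum.mem_zeroLocus _ _).2 le_rfl
      obtain ⟨l, l', hl, hl', hel⟩ := depth_sub_degree hω hω' hn hn' (A ⧸ q.asIdeal) q' hqs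
      have h0 : LocCoh.depth (Localization.AtPrime q'.asIdeal)
          (LocalizedModule q'.asIdeal.primeCompl (AdicCompletion I A ⊗[A] (A ⧸ q.asIdeal))) = 0 := by
        rw [← depth_localized_quotient_self q']
        refine Hensel.depth_congr (IsLocalizedModule.mapEquiv q'.asIdeal.primeCompl (LocalizedModule.mkLinearMap _ _)
          (LocalizedModule.mkLinearMap _ _) (Localization.AtPrime q'.asIdeal)
          ((Algebra.TensorProduct.quotIdealMapEquivTensorQuot (AdicCompletion I A) q.asIdeal).toLinearEquiv.symm.trans
            (Submodule.quotEquivOfEq _ _ (map_comap_eq_of_le I q'.asIdeal hq))))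
      rw [hl'] at h0
      rw [show LocCoh.depth (Localization.AtPrime (q'.asIdeal.comap (algebraMap A (AdicCompletion I A))))
          (LocalizedModule (q'.asIdeal.comap (algebraMap A (AdicCompletion I A))).primeCompl (A ⧸ q.asIdeal)) = 0 from
        depth_localized_quotient_self q] at hl
      have h1 : l' = 0 := by exact_mod_cast h0
      have h2 : l = 0 := by exact_mod_cast hl.symm
      have hcom : q'.comap (algebraMap A (AdicCompletion I A)) = q := rfl
      rw [hcom] at hel
      omega
    have hle := degree_comap_le hω hω' hn hn' p'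
    have := hmono'.monotone hpq
    have := hmono.monotone hpq₀
    rw [hk, hk', krullDim_Icc hmono' hcov' hpq, krullDim_Icc hmono hcov hpq₀]
    change n p ≤ n' p' at hle
    change (k' : ℤ) - n' p' = k - n p at he
    refine ⟨by exact_mod_cast (show k ≤ k' by omega), ?_⟩
    exact_mod_cast (show k' + (n' q' - n' p').toNat = k + (n q - n p).toNat by omega)
  · have h1 : Subsingleton (LocalizedModule (p'.asIdeal.comap (algebraMap A (AdicCompletion I A))).primeCompl M) :=
      Module.notMem_support_iff.1 hp
    have h2 : Subsingleton (LocalizedModule p'.asIdeal.primeCompl (AdicCompletion I A ⊗[A] M)) :=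
      Module.notMem_support_iff.1 fun h => hp ((FlatLoc6.mem_support_tensor_iff p').1 h).2
    have e1 : LocCoh.depth (Localization.AtPrime (p'.asIdeal.comap (algebraMap A (AdicCompletion I A))))
        (LocalizedModule (p'.asIdeal.comap (algebraMap A (AdicCompletion I A))).primeCompl M) = ⊤ :=
      if_pos (Subsingleton.elim _ _)
    have e2 : LocCoh.depth (Localization.AtPrime p'.asIdeal)
        (LocalizedModule p'.asIdeal.primeCompl (AdicCompletion I A ⊗[A] M)) = ⊤ :=
      if_pos (Subsingleton.elim _ _)
    rw [e1, e2, krullDim_Icc hmono' hcov' hpq, krullDim_Icc hmono hcov hpq₀]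
    exact ⟨le_rfl, rfl⟩

end Groth.Agent.LocDual54
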