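import Groth.Agent.LocDual54.FinTo
import Groth.Agent.PopescuLib.Ratliff
import Groth.Agent.FlatLoc6.Loc
import Groth.Agent.FlatLoc6.FiberComp
import Groth.Agent.FlatLoc6.FiberRing
import Groth.Agent.DimFormula.Catenary
import Groth.Agent.KFlatLib.Ring.DualizingFibreRows

/-!
# The cutoff invariant along the completion of a local ring
-/

set_option linter.style.haveILetI false

universe u

open CategoryTheory IsLocalRing

open scoped TensorProduct

namespace Groth.Agent.LocDual54

open Groth.Agent.FormCat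

section Degree

variable {R : Type u} [CommRing R] [IsNoetherianRing R] [IsLocalRing R]

theorem qd_strictAnti {p q : PrimeSpectrum R} (h : p < q) : qd R q.asIdeal < qd R p.asIdeal := by
  have h1 := VarDim.coheight_eq_ringKrullDim_quotient p
  have h2 := VarDim.coheight_eq_ringKrullDim_quotient q
  rw [coe_qd R _ p.2.ne_top] at h1
  rw [coe_qd R _ q.2.ne_top] at h2
  have h1' : Order.coheight p = (qd R p.asIdeal : ℕ∞) := by exact_mod_cast h1
  have h2' : Order.coheight q = (qd R q.asIdeal : ℕ∞) := by exact_mod_cast h2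
  have := Order.coheight_strictAnti h (by rw [h2']; exact (ENat.natCast_lt_top _))
  rw [h1', h2'] at this
  exact_mod_cast this

/-- Heights in a catenary local ring are drops of dimension. -/
theorem height_Ici_eq_qd (hcat : CAlg.IsCatenary R) {p q : PrimeSpectrum R} (h : p ≤ q) :
    ∃ d : ℕ, Order.height (⟨q, h⟩ : Set.Ici p) = d ∧ qd R q.asIdeal + d = qd R p.asIdeal := by
  let n : PrimeSpectrum R → ℤ := fun x => -(qd R x.asIdeal : ℤ)
  have hmono : StrictMono n := fun a b hab => by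
    have := qd_strictAnti hab
    show -(qd R a.asIdeal : ℤ) < -(qd R b.asIdeal : ℤ)
    omega
  have hcov : ∀ a b : PrimeSpectrum R, a ⋖ b → n b = n a + 1 := fun a b hab => by
    have := qd_covBy hcat hab
    show -(qd R b.asIdeal : ℤ) = -(qd R a.asIdeal : ℤ) + 1
    omega
  refine ⟨(n q - n p).toNat, height_Ici hmono hcov h, ?_⟩
  have : -(qd R p.asIdeal : ℤ) ≤ -(qd R q.asIdeal : ℤ) := hmono.monotone h
  show qd R q.asIdeal + (-(qd R q.asIdeal : ℤ) - -(qd R p.asIdeal : ℤ)).toNat = _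
  omega

end Degree

variable {A : Type u} [CommRing A] [IsLocalRing A] [IsNoetherianRing A]

local notation "Ĉ" => AdicCompletion (maximalIdeal A) A

theorem isAdicComplete_maximal :
    haveI := FlatLoc6.isLocalRing_cpl A
    IsAdicComplete (maximalIdeal Ĉ) Ĉ := FormCat.isAdicComplete_cpl A

/-- Minimal primes over an extended prime keep the dimension. -/
theorem qd_minimal_cpl (hA : CAlg.IsUniversallyCatenary A) (p : Ideal A) [p.IsPrime] (P : Ideal Ĉ)
    (hP : P ∈ (p.map (algebraMap A Ĉ)).minimalPrimes) :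
    haveI := FlatLoc6.isLocalRing_cpl A
    qd Ĉ P = qd A p := by
  haveI := FlatLoc6.isLocalRing_cpl A
  haveI := FlatLoc6.isNoetherianRing_cpl A
  haveI : IsLocalRing (A ⧸ p) := .of_surjective' _ Ideal.Quotient.mk_surjective
  have heq : EGA4.IsEquidim (Ĉ ⧸ p.map (algebraMap A Ĉ)) :=
    (isFormallyEquidim_quotient_iff A p).1 (PopescuLib.Ratliff.isFormallyCatenary A hA p)
  have hPp : P.IsPrime := hP.1.1
  rw [Ideal.minimalPrimes_eq_comap] at hP
  obtain ⟨x, hx, rfl⟩ := hP
  have h := heq x hx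
  rw [ringKrullDim_cpl_quotient, coe_qd A p (Ideal.IsPrime.ne_top inferInstance)] at h
  have hk : RingHom.ker ((Ideal.Quotient.mk x).comp (Ideal.Quotient.mk (p.map (algebraMap A Ĉ)))) =
      x.comap (Ideal.Quotient.mk (p.map (algebraMap A Ĉ))) := by
    rw [← RingHom.comap_ker, Ideal.mk_ker]
  have e := ringKrullDim_eq_of_ringEquiv ((Ideal.quotEquivOfEq hk.symm).trans
    (RingHom.quotientKerEquivOfSurjective (Ideal.Quotient.mk_surjective.comp Ideal.Quotient.mk_surjective)))
  rw [coe_qd Ĉ _ hPp.ne_top] at e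
  exact_mod_cast e.trans h

/-- The drop of dimension is at most the dimension of the formal fibre. -/
theorem qd_sub_le_fibDim (hA : CAlg.IsUniversallyCatenary A) (P : PrimeSpectrum Ĉ) :
    haveI := FlatLoc6.isLocalRing_cpl A
    ∃ d : ℕ, qd Ĉ P.asIdeal + d = qd A (P.asIdeal.comap (algebraMap A Ĉ)) ∧
      (d : WithBot ℕ∞) ≤ FlatLoc6.fibDim A P.asIdeal Ĉ := by
  haveI := FlatLoc6.isLocalRing_cpl A
  haveI := FlatLoc6.isNoetherianRing_cpl A
  haveI := isAdicComplete_maximal (A := A)
  let p := P.asIdeal.comap (algebraMap A Ĉ)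
  obtain ⟨Q, hQ, hQP⟩ := Ideal.exists_minimalPrimes_le (Ideal.map_comap_le : p.map (algebraMap A Ĉ) ≤ P.asIdeal)
  obtain ⟨d, hd, hqd⟩ := height_Ici_eq_qd (isCatenary_of_complete (B := Ĉ))
    (show (⟨Q, hQ.1.1⟩ : PrimeSpectrum Ĉ) ≤ P from hQP)
  rw [qd_minimal_cpl hA p Q hQ] at hqd
  refine ⟨d, hqd, ?_⟩
  rw [(FlatLoc6.fib_eq_loc p P.asIdeal rfl).1]
  refine le_trans ?_ (LC.height_map_mk_le_supportDim_localized (Ĉ ⧸ p.map (algebraMap A Ĉ)) ⟨Q, hQ.1.1⟩ P hQP ?_)
  · rw [← LC.height_Ici_eq ⟨Q, hQ.1.1⟩ P hQP, hd]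
    rfl
  · rw [LC.support_quot_self]
    exact (PrimeSpectrum.mem_zeroLocus _ _).2 hQ.1.2

variable (I : Ideal A) (M : Type u) [AddCommGroup M] [Module A M] [Module.Finite A M]

/-- The cutoff does not increase under completion. -/
theorem cutoff_completion_le (hA : CAlg.IsUniversallyCatenary A) :
    Dual2.cutoff Ĉ (I.map (algebraMap A Ĉ)) (Ĉ ⊗[A] M) ≤ Dual2.cutoff A I M := by
  haveI := FlatLoc6.isLocalRing_cpl A
  haveI := FlatLoc6.isNoetherianRing_cpl A
  haveI : Module.FaithfullyFlat A Ĉ := FlatLoc6.faithfullyFlat_cpl A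
  haveI := isAdicComplete_maximal (A := A)
  refine le_iInf fun p => le_iInf fun q => le_iInf fun hpq => le_iInf fun hp => le_iInf fun hq => ?_
  by_cases hsupp : p ∈ Module.support A M
  swap
  · have : Subsingleton (LocalizedModule p.asIdeal.primeCompl M) := Module.notMem_support_iff.1 hsupp
    rw [show LocCoh.depth (Localization.AtPrime p.asIdeal) (LocalizedModule p.asIdeal.primeCompl M) = ⊤ from
      if_pos (Subsingleton.elim _ _), top_add]
    exact le_top
  obtain ⟨Q, hQ, _⟩ := exists_minimal_over A Ĉ q.asIdeal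
  haveI := hQ.1.1
  obtain ⟨P, hP, hPQ⟩ := Ideal.exists_minimalPrimes_le ((Ideal.map_mono hpq).trans hQ.1.2)
  haveI := hP.1.1
  have hPp : P.comap (algebraMap A Ĉ) = p.asIdeal := under_eq_of_mem_minimalPrimes p.asIdeal hP
  have hQq : Q.comap (algebraMap A Ĉ) = q.asIdeal := under_eq_of_mem_minimalPrimes q.asIdeal hQ
  obtain ⟨h', hh', hC⟩ := height_Ici_eq_qd (isCatenary_of_complete (B := Ĉ))
    (show (⟨P, inferInstance⟩ : PrimeSpectrum Ĉ) ≤ ⟨Q, inferInstance⟩ from hPQ)
  obtain ⟨h, hh, hA'⟩ := height_Ici_eq_qd (hA.2 A inferInstance) hpq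
  rw [show qd Ĉ Q = qd A q.asIdeal from qd_minimal_cpl hA _ Q hQ,
    show qd Ĉ P = qd A p.asIdeal from qd_minimal_cpl hA _ P hP] at hC
  have hfib := (FlatLoc6.fib_zero_of_minimal (A := A) Ĉ P
    (Module.mem_support_iff.2 (LC.selfLoc P.primeCompl).toEquiv.nontrivial) fun R _ hRP hR => by
      refine le_antisymm hRP (hP.2 ⟨R.2, Ideal.map_le_iff_le_comap.2 ?_⟩ hRP)
      rwa [hPp] at hR).2
  obtain ⟨e, -⟩ := FlatLoc6.formulas_atPrime Ĉ M p.asIdeal P hPp
    (Module.mem_support_iff.2 (LC.selfLoc P.primeCompl).toEquiv.nontrivial) hsupp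
  rw [hfib, add_zero] at e
  refine (cutoff_le (I.map (algebraMap A Ĉ)) ⟨P, inferInstance⟩ ⟨Q, inferInstance⟩ hPQ ?_ ?_).trans (le_of_eq ?_)
  · exact fun hle => hp (hPp ▸ Ideal.map_le_iff_le_comap.1 hle)
  · exact (Ideal.map_mono hq).trans hQ.1.2
  · rw [hh', hh, e, show h' = h by omega]

/-- The cutoff of the completion is bounded below through the formal fibres. -/
theorem le_cutoff_completion (hA : CAlg.IsUniversallyCatenary A) (n : ℕ)
    (hfib : ∀ P : PrimeSpectrum Ĉ,
      min (n : WithBot ℕ∞) (FlatLoc6.fibDim A P.asIdeal Ĉ) ≤ ((FlatLoc6.fibDepth A P.asIdeal Ĉ : ℕ∞) : WithBot ℕ∞)) :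
    min ((n : ℕ∞) + 1) (Dual2.cutoff A I M) ≤ Dual2.cutoff Ĉ (I.map (algebraMap A Ĉ)) (Ĉ ⊗[A] M) := by
  haveI := FlatLoc6.isLocalRing_cpl A
  haveI := FlatLoc6.isNoetherianRing_cpl A
  haveI : Module.FaithfullyFlat A Ĉ := FlatLoc6.faithfullyFlat_cpl A
  haveI := isAdicComplete_maximal (A := A)
  refine le_iInf fun P => le_iInf fun Q => le_iInf fun hPQ => le_iInf fun hP => le_iInf fun hQ => ?_
  let p := P.comap (algebraMap A Ĉ)
  let q := Q.comap (algebraMap A Ĉ)
  by_cases hsupp : p ∈ Module.support A M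
  swap
  · have : Subsingleton (LocalizedModule P.asIdeal.primeCompl (Ĉ ⊗[A] M)) :=
      Module.notMem_support_iff.1 fun h => hsupp ((FlatLoc6.mem_support_tensor_iff P).1 h).2
    rw [show LocCoh.depth (Localization.AtPrime P.asIdeal) (LocalizedModule P.asIdeal.primeCompl (Ĉ ⊗[A] M)) = ⊤ from
      if_pos (Subsingleton.elim _ _), top_add]
    exact le_top
  obtain ⟨e, -⟩ := FlatLoc6.formulas_atPrime Ĉ M p.asIdeal P.asIdeal rfl
    (Module.mem_support_iff.2 (LC.selfLoc P.asIdeal.primeCompl).toEquiv.nontrivial) hsupp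
  rw [e]
  have hpq : p ≤ q := Ideal.comap_mono hPQ
  have hp : ¬ I ≤ p.asIdeal := fun hle => hP (Ideal.map_le_iff_le_comap.2 hle)
  have hs := cutoff_le (M := M) I p q hpq hp (Ideal.map_le_iff_le_comap.1 hQ)
  obtain ⟨hC, hhC, heC⟩ := height_Ici_eq_qd (isCatenary_of_complete (B := Ĉ)) hPQ
  obtain ⟨hh, hhA, heA⟩ := height_Ici_eq_qd (hA.2 A inferInstance) hpq
  obtain ⟨d, hd, hdf⟩ := qd_sub_le_fibDim hA P
  obtain ⟨dQ, hdQ, -⟩ := qd_sub_le_fibDim hA Q
  have hf : min (n : WithBot ℕ∞) (d : WithBot ℕ∞) ≤ ((FlatLoc6.fibDepth A P.asIdeal Ĉ : ℕ∞) : WithBot ℕ∞) :=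
    (min_le_min le_rfl hdf).trans (hfib P)
  have hpos : 1 ≤ hC := by
    rcases hPQ.eq_or_lt with h | h
    · exact absurd (h ▸ hQ) hP
    · have := qd_strictAnti h
      omega
  rw [hhA] at hs
  rw [hhC]
  generalize hgs : Dual2.cutoff A I M = s at hs ⊢
  generalize LocCoh.depth (Localization.AtPrime p.asIdeal) (LocalizedModule p.asIdeal.primeCompl M) = dp at hs ⊢
  generalize FlatLoc6.fibDepth A P.asIdeal Ĉ = f at hf ⊢
  induction dp using ENat.recTopCoe with
  | top => simp
  | coe dp =>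
  induction f using ENat.recTopCoe with
  | top => simp
  | coe f =>
  have hfn : min n d ≤ f := by
    rcases le_total n d with h | h
    · rw [min_eq_left (by exact_mod_cast h)] at hf
      rw [min_eq_left h]; exact_mod_cast hf
    · rw [min_eq_right (by exact_mod_cast h)] at hf
      rw [min_eq_right h]; exact_mod_cast hf
  obtain ⟨s', rfl⟩ := ENat.ne_top_iff_exists.1 (ne_top_of_le_ne_top (by exact_mod_cast (ENat.natCast_ne_top (dp + hh))) hs)
  have hs' : s' ≤ dp + hh := by exact_mod_cast hs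
  change qd Ĉ P.asIdeal + d = qd A p.asIdeal at hd
  change qd Ĉ Q.asIdeal + dQ = qd A q.asIdeal at hdQ
  have : min (n + 1) s' ≤ dp + f + hC := by omega
  rcases le_total (n + 1) s' with h | h
  · rw [min_eq_left h] at this
    rw [min_eq_left (by exact_mod_cast h)]
    exact_mod_cast this
  · rw [min_eq_right h] at this
    rw [min_eq_right (by exact_mod_cast h)]
    exact_mod_cast this

end Groth.Agent.LocDual54

namespace Groth.Agent.LocDual54

attribute [local instance] HasDerivedCategory.standard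

/-- Finiteness over a complete local ring. -/
theorem finTo_iff_lt_cutoff_completion {A : Type u} [CommRing A] [IsLocalRing A] [IsNoetherianRing A]
    (I : Ideal (AdicCompletion (maximalIdeal A) A)) (N : Type u) [AddCommGroup N]
    [Module (AdicCompletion (maximalIdeal A) A) N] [Module.Finite (AdicCompletion (maximalIdeal A) A) N] (n : ℕ) :
    haveI := FlatLoc6.isNoetherianRing_cpl A
    FinTo I N n ↔ (n : ℕ∞) < Dual2.cutoff (AdicCompletion (maximalIdeal A) A) I N := by
  haveI := FlatLoc6.isLocalRing_cpl A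
  haveI := FlatLoc6.isNoetherianRing_cpl A
  haveI := isAdicComplete_maximal (A := A)
  obtain ⟨ω, hω⟩ := KFlatLib.exists_isDualizing_of_complete (AdicCompletion (maximalIdeal A) A)
  exact finTo_iff_lt_cutoff_of_dualizing I hω N n

/-- The finiteness theorem in degree `n` from universal catenarity and `(S_n)` formal fibres. -/
theorem finTo_iff_lt_cutoff_local {A : Type u} [CommRing A] [IsLocalRing A] [IsNoetherianRing A] (I : Ideal A)
    (M : Type u) [AddCommGroup M] [Module A M] [Module.Finite A M] (hA : CAlg.IsUniversallyCatenary A) (n : ℕ)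
    (hfib : ∀ P : PrimeSpectrum (AdicCompletion (maximalIdeal A) A),
      min (n : WithBot ℕ∞) (FlatLoc6.fibDim A P.asIdeal (AdicCompletion (maximalIdeal A) A)) ≤
        ((FlatLoc6.fibDepth A P.asIdeal (AdicCompletion (maximalIdeal A) A) : ℕ∞) : WithBot ℕ∞)) :
    FinTo I M n ↔ (n : ℕ∞) < Dual2.cutoff A I M := by
  rw [finTo_iff_completion I M n, finTo_iff_lt_cutoff_completion]
  refine ⟨fun h => h.trans_le (cutoff_completion_le I M hA), fun h => ?_⟩
  refine lt_of_lt_of_le ?_ (le_cutoff_completion I M hA n hfib)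
  exact lt_min ((ENat.lt_add_one_iff (ENat.natCast_ne_top n)).2 le_rfl) h

/-- The fibre condition at every point from `(S_n)` formal fibres. -/
theorem fib_le_of_hasSn {A : Type u} [CommRing A] [IsLocalRing A] [IsNoetherianRing A] {n : ℕ}
    (h : EGA4.HasSnFormalFibres n A) (P : PrimeSpectrum (AdicCompletion (maximalIdeal A) A)) :
    min (n : WithBot ℕ∞) (FlatLoc6.fibDim A P.asIdeal (AdicCompletion (maximalIdeal A) A)) ≤
      ((FlatLoc6.fibDepth A P.asIdeal (AdicCompletion (maximalIdeal A) A) : ℕ∞) : WithBot ℕ∞) :=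
  haveI := FlatLoc6.isNoetherianRing_cpl A
  FlatLoc6.fib_le_of_fiber_hasSk n _ P.asIdeal rfl (h (P.asIdeal.comap (algebraMap A _)))

/-- The fibre condition at every point from Cohen–Macaulay formal fibres. -/
theorem fib_le_of_CM {A : Type u} [CommRing A] [IsLocalRing A] [IsNoetherianRing A]
    (h : EGA4.HasCMFormalFibres A) (n : ℕ) (P : PrimeSpectrum (AdicCompletion (maximalIdeal A) A)) :
    min (n : WithBot ℕ∞) (FlatLoc6.fibDim A P.asIdeal (AdicCompletion (maximalIdeal A) A)) ≤
      ((FlatLoc6.fibDepth A P.asIdeal (AdicCompletion (maximalIdeal A) A) : ℕ∞) : WithBot ℕ∞) :=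
  haveI := FlatLoc6.isNoetherianRing_cpl A
  haveI : LocCoh.IsCohenMacaulayRing
      ((P.asIdeal.comap (algebraMap A _)).Fiber (AdicCompletion (maximalIdeal A) A)) := h _
  (min_le_right _ _).trans (le_of_eq (FlatLoc6.fib_eq_of_fiber_isCM _ P.asIdeal rfl))

/-- The finiteness theorem in degree `n`. -/
theorem finTo_iff_lt_cutoff {A : Type u} [CommRing A] [IsNoetherianRing A] (I : Ideal A)
    (M : Type u) [AddCommGroup M] [Module A M] [Module.Finite A M] (hA : CAlg.IsUniversallyCatenary A) (n : ℕ)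
    (hfib : ∀ q : PrimeSpectrum A, I ≤ q.asIdeal →
      ∀ P : PrimeSpectrum (AdicCompletion (maximalIdeal (Localization.AtPrime q.asIdeal)) (Localization.AtPrime q.asIdeal)),
      min (n : WithBot ℕ∞) (FlatLoc6.fibDim (Localization.AtPrime q.asIdeal) P.asIdeal
          (AdicCompletion (maximalIdeal (Localization.AtPrime q.asIdeal)) (Localization.AtPrime q.asIdeal))) ≤
        ((FlatLoc6.fibDepth (Localization.AtPrime q.asIdeal) P.asIdeal
          (AdicCompletion (maximalIdeal (Localization.AtPrime q.asIdeal)) (Localization.AtPrime q.asIdeal)) : ℕ∞) :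
            WithBot ℕ∞)) :
    FinTo I M n ↔ (n : ℕ∞) < Dual2.cutoff A I M := by
  rw [finTo_iff_localizations, lt_cutoff_iff_localizations]
  refine forall₂_congr fun q hq => ?_
  have : IsNoetherianRing (Localization.AtPrime q.asIdeal) :=
    IsLocalization.isNoetherianRing q.asIdeal.primeCompl _ inferInstance
  have : Module.Finite (Localization.AtPrime q.asIdeal) (LocalizedModule q.asIdeal.primeCompl M) :=
    Module.Finite.of_isLocalizedModule q.asIdeal.primeCompl (LocalizedModule.mkLinearMap _ _)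
  exact finTo_iff_lt_cutoff_local _ _ (DimFormula.isUniversallyCatenary_localization hA q.asIdeal.primeCompl _) n (hfib q hq)

end Groth.Agent.LocDual54
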