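import Groth.Agent.LocDual54.FinTo
import Groth.Agent.DimFormula.Basic
import Groth.Agent.DimFormula.Scheme
import Groth.Agent.DimFormula.Catenary
import Groth.Agent.S4689

/-!
# The cutoff invariant along a finite homomorphism
-/

set_option linter.style.haveILetI false

universe u

open CategoryTheory IsLocalRing Groth.Agent.LC

namespace Groth.Agent.LocDual54

attribute [local instance] HasDerivedCategory.standard

variable {A B : Type u} [CommRing A] [CommRing B] [Algebra A B] [IsNoetherianRing A] [IsNoetherianRing B]
  [Module.Finite A B]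

/-- Heights between primes are preserved by a finite map with universally catenary base. -/
theorem height_Ici_finite (hA : CAlg.IsUniversallyCatenary A) (P Q : PrimeSpectrum B) (h : P ≤ Q) :
    Order.height (⟨Q, h⟩ : Set.Ici P) =
      Order.height (⟨Q.comap (algebraMap A B), Ideal.comap_mono h⟩ : Set.Ici (P.comap (algebraMap A B))) := by
  refine (height_Ici_eq P Q h).trans (Eq.trans ?_ (height_Ici_eq _ _ (Ideal.comap_mono h)).symm)
  let p := P.comap (algebraMap A B)
  let A' := A ⧸ p.asIdeal
  let B' := B ⧸ P.asIdeal
  letI : Algebra A' B' := (Ideal.quotientMap P.asIdeal (algebraMap A B) le_rfl).toAlgebra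
  haveI : IsScalarTower A A' B' := IsScalarTower.of_algebraMap_eq fun _ => rfl
  haveI : FaithfulSMul A' B' := (faithfulSMul_iff_algebraMap_injective _ _).2 Ideal.quotientMap_injective
  haveI : Module.Finite A B' := Module.Finite.trans B _
  haveI : Module.Finite A' B' := Module.Finite.of_restrictScalars_finite A A' B'
  haveI : Algebra.FiniteType A' B' := inferInstance
  let Q' : PrimeSpectrum B' :=
    ⟨Q.asIdeal.map (Ideal.Quotient.mk P.asIdeal),
      Ideal.map_isPrime_of_surjective Ideal.Quotient.mk_surjective (Ideal.mk_ker.le.trans h)⟩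
  have hcom : Q'.asIdeal.comap (algebraMap A' B') =
      (Q.comap (algebraMap A B)).asIdeal.map (Ideal.Quotient.mk p.asIdeal) := by
    refine Ideal.comap_injective_of_surjective _ Ideal.Quotient.mk_surjective ?_
    rw [Ideal.comap_comap, show (algebraMap A' B').comp (Ideal.Quotient.mk p.asIdeal) =
        (Ideal.Quotient.mk P.asIdeal).comp (algebraMap A B) from rfl, ← Ideal.comap_comap]
    show (Ideal.comap (Ideal.Quotient.mk P.asIdeal) (Q.asIdeal.map _)).comap _ = _
    rw [Ideal.comap_map_of_surjective _ Ideal.Quotient.mk_surjective,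
      Ideal.comap_map_of_surjective _ Ideal.Quotient.mk_surjective, ← RingHom.ker_eq_comap_bot,
      ← RingHom.ker_eq_comap_bot, Ideal.mk_ker, Ideal.mk_ker, sup_eq_left.2 (show P.asIdeal ≤ Q.asIdeal from h),
      sup_eq_left.2 (show p.asIdeal ≤ (Q.comap (algebraMap A B)).asIdeal from Ideal.comap_mono h)]
    rfl
  haveI hQ'p : Q'.asIdeal.IsPrime := Q'.2
  haveI : (Q'.asIdeal.under A').IsPrime := Ideal.comap_isPrime (algebraMap A' B') Q'.asIdeal
  have hA' : CAlg.IsUniversallyCatenary A' :=
    DimFormula.isUniversallyCatenary_of_surjective hA (Ideal.Quotient.mk p.asIdeal) Ideal.Quotient.mk_surjective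
  have e := (DimFormula.dimension_formula A' Q').2
    (DimFormula.isUniversallyCatenary_localization hA' (Q'.asIdeal.under A').primeCompl _)
  simp only [S4689.fd_eq_zero_of_finite, Nat.cast_zero, add_zero] at e
  rw [← hcom, show Q.asIdeal.map (Ideal.Quotient.mk P.asIdeal) = Q'.asIdeal from rfl,
    Q'.height_eq_orderHeight, e]
  exact ((Q'.comap (algebraMap A' B')).height_eq_orderHeight).symm

variable (M : Type u) [AddCommGroup M] [Module B M] [Module A M] [IsScalarTower A B M] [Module.Finite B M]

/-- The depth at a prime of the base is the smallest depth at the primes over it. -/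
theorem le_depth_restrict_iff (p : PrimeSpectrum A) (n : ℕ) :
    (n : ℕ∞) ≤ LocCoh.depth (Localization.AtPrime p.asIdeal) (LocalizedModule p.asIdeal.primeCompl M) ↔
      ∀ P : PrimeSpectrum B, P.comap (algebraMap A B) = p →
        (n : ℕ∞) ≤ LocCoh.depth (Localization.AtPrime P.asIdeal) (LocalizedModule P.asIdeal.primeCompl M) := by
  haveI : Module.Finite A M := Module.Finite.trans B M
  haveI : IsNoetherianRing (Localization.AtPrime p.asIdeal) :=
    IsLocalization.isNoetherianRing p.asIdeal.primeCompl _ inferInstance
  haveI : Module.Finite (Localization.AtPrime p.asIdeal) (LocalizedModule p.asIdeal.primeCompl M) :=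
    Module.Finite.of_isLocalizedModule p.asIdeal.primeCompl (LocalizedModule.mkLinearMap _ _)
  let J := p.asIdeal.map (algebraMap A B)
  -- vanishing over the base in terms of the ring above
  have hbase : ∀ i, Subsingleton ((localCohomology (p.asIdeal.map (algebraMap A (Localization.AtPrime p.asIdeal))) i).obj
      (ModuleCat.of (Localization.AtPrime p.asIdeal) (LocalizedModule p.asIdeal.primeCompl M))) ↔
      ∀ z : (localCohomology J i).obj (ModuleCat.of B M), ∃ s ∉ p.asIdeal, algebraMap A B s • z = 0 := by
    intro i
    obtain ⟨e⟩ := exists_localizedH p.asIdeal M p.asIdeal i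
    obtain ⟨φ, hφ⟩ := exists_indep (R := A) (R' := B) p.asIdeal i M
    rw [← e.toEquiv.subsingleton_congr, LocalizedModule.subsingleton_iff]
    constructor
    · intro h z
      obtain ⟨s, hs, hsz⟩ := h (φ z)
      exact ⟨s, hs, φ.injective (by rw [hφ, hsz, map_zero])⟩
    · intro h w
      obtain ⟨z, rfl⟩ := φ.surjective w
      obtain ⟨s, hs, hsz⟩ := h z
      exact ⟨s, hs, by rw [← hφ, hsz, map_zero]⟩
  -- vanishing above at the points over the prime
  have htop : ∀ i, (∀ z : (localCohomology J i).obj (ModuleCat.of B M), ∃ s ∉ p.asIdeal, algebraMap A B s • z = 0) ↔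
      ∀ P : PrimeSpectrum B, P.comap (algebraMap A B) = p →
        Subsingleton ((localCohomology (J.map (algebraMap B (Localization.AtPrime P.asIdeal))) i).obj
          (ModuleCat.of (Localization.AtPrime P.asIdeal) (LocalizedModule P.asIdeal.primeCompl M))) := by
    intro i
    constructor
    · intro h P hP
      obtain ⟨e⟩ := exists_localizedH J M P.asIdeal i
      rw [← e.toEquiv.subsingleton_congr, LocalizedModule.subsingleton_iff]
      intro z
      obtain ⟨s, hs, hsz⟩ := h z
      exact ⟨algebraMap A B s, fun hsP => hs (hP ▸ hsP), hsz⟩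
    · intro h z
      by_contra hne
      push Not at hne
      obtain ⟨Q, hQp, hQ, hQd⟩ := Ideal.exists_le_prime_disjoint (LinearMap.ker (LinearMap.toSpanSingleton B _ z))
        (Algebra.algebraMapSubmonoid B p.asIdeal.primeCompl) (Set.disjoint_left.2 fun b hb hbs => by
          obtain ⟨s, hs, rfl⟩ := hbs
          exact hne s hs hb)
      have hJQ : J ≤ Q := by
        intro b hb
        obtain ⟨m, hm⟩ := isPowerTorsion_obj J i (ModuleCat.of B M) z
        exact hQp.mem_of_pow_mem m (hQ (hm _ (Ideal.pow_mem_pow hb m)))
      have hover : (⟨Q, hQp⟩ : PrimeSpectrum B).comap (algebraMap A B) = p := by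
        refine le_antisymm (fun a ha => ?_) (Ideal.map_le_iff_le_comap.1 hJQ)
        by_contra hap
        exact Set.disjoint_left.1 hQd ha ⟨a, hap, rfl⟩
      obtain ⟨e⟩ := exists_localizedH J M Q i
      have := h ⟨Q, hQp⟩ hover
      rw [← e.toEquiv.subsingleton_congr, LocalizedModule.subsingleton_iff] at this
      obtain ⟨t, ht, htz⟩ := this z
      exact ht (hQ htz)
  have hdepP : ∀ P : PrimeSpectrum B, P.comap (algebraMap A B) = p →
      LocCoh.depth (Localization.AtPrime P.asIdeal) (LocalizedModule P.asIdeal.primeCompl M) =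
        LocCoh.idealDepth (J.map (algebraMap B (Localization.AtPrime P.asIdeal)))
          (LocalizedModule P.asIdeal.primeCompl M) := by
    intro P hP
    haveI : IsNoetherianRing (Localization.AtPrime P.asIdeal) :=
      IsLocalization.isNoetherianRing P.asIdeal.primeCompl _ inferInstance
    haveI : Module.Finite (Localization.AtPrime P.asIdeal) (LocalizedModule P.asIdeal.primeCompl M) :=
      Module.Finite.of_isLocalizedModule P.asIdeal.primeCompl (LocalizedModule.mkLinearMap _ _)
    show LocCoh.idealDepth (maximalIdeal _) _ = _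
    rw [idealDepth_eq_iInf_depth, idealDepth_eq_iInf_depth]
    refine iInf_congr fun X => iInf_congr_Prop ⟨fun hX => ?_, fun hX => ?_⟩ fun _ => rfl
    · refine le_trans ?_ hX
      rw [← Localization.AtPrime.map_eq_maximalIdeal]
      exact Ideal.map_mono (Ideal.map_le_iff_le_comap.2 (hP ▸ le_rfl))
    · -- a prime over `p` inside `P` is `P`
      have hle : X.asIdeal.comap (algebraMap B (Localization.AtPrime P.asIdeal)) ≤ P.asIdeal :=
        (Ideal.comap_mono (le_maximalIdeal X.2.ne_top)).trans_eq (IsLocalization.AtPrime.comap_maximalIdeal _ P.asIdeal)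
      have heq : X.asIdeal.comap (algebraMap B (Localization.AtPrime P.asIdeal)) = P.asIdeal := by
        refine hle.eq_or_lt.resolve_right fun hlt => ?_
        have h2 := Ideal.IntegralClosure.comap_lt_comap (R := A) hlt
        have h3 : p.asIdeal ≤ (X.asIdeal.comap (algebraMap B (Localization.AtPrime P.asIdeal))).comap (algebraMap A B) :=
          Ideal.map_le_iff_le_comap.1 (Ideal.map_le_iff_le_comap.1 hX)
        exact (h2.trans_le ((congrArg PrimeSpectrum.asIdeal hP).le.trans h3)).false
      rw [← Localization.AtPrime.map_eq_maximalIdeal, Ideal.map_le_iff_le_comap, heq]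
  rw [show LocCoh.depth (Localization.AtPrime p.asIdeal) (LocalizedModule p.asIdeal.primeCompl M) =
      LocCoh.idealDepth (p.asIdeal.map (algebraMap A (Localization.AtPrime p.asIdeal)))
        (LocalizedModule p.asIdeal.primeCompl M) from by rw [Localization.AtPrime.map_eq_maximalIdeal]; rfl,
    le_idealDepth_iff_H]
  constructor
  · intro h P hP
    haveI : IsNoetherianRing (Localization.AtPrime P.asIdeal) :=
      IsLocalization.isNoetherianRing P.asIdeal.primeCompl _ inferInstance
    haveI : Module.Finite (Localization.AtPrime P.asIdeal) (LocalizedModule P.asIdeal.primeCompl M) :=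
      Module.Finite.of_isLocalizedModule P.asIdeal.primeCompl (LocalizedModule.mkLinearMap _ _)
    rw [hdepP P hP, le_idealDepth_iff_H]
    exact fun i hi => (htop i).1 ((hbase i).1 (h i hi)) P hP
  · intro h i hi
    refine (hbase i).2 ((htop i).2 fun P hP => ?_)
    haveI : IsNoetherianRing (Localization.AtPrime P.asIdeal) :=
      IsLocalization.isNoetherianRing P.asIdeal.primeCompl _ inferInstance
    haveI : Module.Finite (Localization.AtPrime P.asIdeal) (LocalizedModule P.asIdeal.primeCompl M) :=
      Module.Finite.of_isLocalizedModule P.asIdeal.primeCompl (LocalizedModule.mkLinearMap _ _)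
    have h1 := h P hP
    rw [hdepP P hP, le_idealDepth_iff_H] at h1
    exact h1 i hi

/-- The cutoff along a finite map. -/
theorem cutoff_finite (hA : CAlg.IsUniversallyCatenary A) (I : Ideal A) :
    Dual2.cutoff B (I.map (algebraMap A B)) M = Dual2.cutoff A I M := by
  refine le_antisymm ?_ ?_
  · refine le_iInf fun p => le_iInf fun q => le_iInf fun hpq => le_iInf fun hp => le_iInf fun hq => ?_
    generalize hd : LocCoh.depth (Localization.AtPrime p.asIdeal) (LocalizedModule p.asIdeal.primeCompl M) = d
    induction d using ENat.recTopCoe with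
    | top => rw [top_add]; exact le_top
    | coe d =>
    have h1 : ¬ ((d + 1 : ℕ) : ℕ∞) ≤ LocCoh.depth (Localization.AtPrime p.asIdeal)
        (LocalizedModule p.asIdeal.primeCompl M) := by
      rw [hd, Nat.cast_le]; omega
    rw [le_depth_restrict_iff (B := B)] at h1
    push Not at h1
    obtain ⟨P, hP, hlt⟩ := h1
    subst hP
    obtain ⟨Q, hQP, hQp, hQ⟩ := Ideal.exists_ideal_over_prime_of_isIntegral q.asIdeal P.asIdeal hpq
    have hQeq : (⟨Q, hQp⟩ : PrimeSpectrum B).comap (algebraMap A B) = q := PrimeSpectrum.ext hQ
    refine (cutoff_le (M := M) (I.map (algebraMap A B)) P ⟨Q, hQp⟩ hQP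
      (fun hle => hp (Ideal.map_le_iff_le_comap.1 hle)) (Ideal.map_le_iff_le_comap.2 (hQ.symm ▸ hq))).trans ?_
    refine add_le_add ?_ (le_of_eq ?_)
    · rw [Nat.cast_add, Nat.cast_one] at hlt
      exact (ENat.lt_add_one_iff (ENat.natCast_ne_top d)).1 hlt
    · rw [height_Ici_finite hA P ⟨Q, hQp⟩ hQP]
      exact congrArg Order.height (Subtype.ext hQeq)
  · refine le_iInf fun P => le_iInf fun Q => le_iInf fun hPQ => le_iInf fun hP => le_iInf fun hQ => ?_
    refine (cutoff_le (M := M) I (P.comap (algebraMap A B)) (Q.comap (algebraMap A B)) (Ideal.comap_mono hPQ)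
      (fun hle => hP (Ideal.map_le_iff_le_comap.2 hle)) (Ideal.map_le_iff_le_comap.1 hQ)).trans ?_
    refine add_le_add (ENat.forall_natCast_le_iff_le.1 fun n hn => ?_) (height_Ici_finite hA P Q hPQ).ge
    exact (le_depth_restrict_iff (B := B) M _ n).1 hn P rfl

end Groth.Agent.LocDual54
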