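import Groth.Agent.LC.AdjDepth
import Groth.Agent.LC.DepthLoc
import Groth.Agent.Alg6.AssDepth

/-!
# Semicontinuity of the depth
-/

set_option linter.style.haveILetI false

universe u

open IsLocalRing

namespace Groth.Agent.LocDual54

variable {R : Type u} [CommRing R] [IsNoetherianRing R]

/-- The depth drops by one modulo an element regular at the prime. -/
theorem idealDepth_localized_quot_add_one (M : Type u) [AddCommGroup M] [Module R M] [Module.Finite R M]
    (I q : Ideal R) [q.IsPrime] {x : R} (hx : x ∈ I)
    (hreg : IsSMulRegular (LocalizedModule q.primeCompl M) (algebraMap R (Localization.AtPrime q) x)) :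
    LocCoh.idealDepth (I.map (algebraMap R (Localization.AtPrime q))) (LocalizedModule q.primeCompl (QuotSMulTop x M)) + 1 =
      LocCoh.idealDepth (I.map (algebraMap R (Localization.AtPrime q))) (LocalizedModule q.primeCompl M) := by
  obtain ⟨e⟩ := LC.exists_localized_quotSMulTop M q x
  haveI : IsNoetherianRing (Localization.AtPrime q) := IsLocalization.isNoetherianRing q.primeCompl _ inferInstance
  haveI : Module.Finite (Localization.AtPrime q) (LocalizedModule q.primeCompl M) :=
    Module.Finite.of_isLocalizedModule q.primeCompl (LocalizedModule.mkLinearMap _ M)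
  haveI : Module.Finite (Localization.AtPrime q) (LocalizedModule q.primeCompl (QuotSMulTop x M)) :=
    Module.Finite.of_isLocalizedModule q.primeCompl (LocalizedModule.mkLinearMap _ _)
  rw [← LC.idealDepth_quotSMulTop_add_one _ (Ideal.mem_map_of_mem _ hx) hreg]
  congr 1
  exact (LC.idealDepth_congr _ e).symm

/-- A regular element at a prime stays regular nearby. -/
theorem exists_regular_spread (M : Type u) [AddCommGroup M] [Module R M] [Module.Finite R M] (I p : Ideal R)
    [p.IsPrime] (h : (1 : ℕ∞) ≤ LocCoh.idealDepth (I.map (algebraMap R (Localization.AtPrime p)))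
      (LocalizedModule p.primeCompl M)) (hI : I ≤ p) :
    ∃ x ∈ I, ∃ f ∉ p, ∀ (q : Ideal R) [q.IsPrime], f ∉ q →
      IsSMulRegular (LocalizedModule q.primeCompl M) (algebraMap R (Localization.AtPrime q) x) := by
  classical
  haveI : IsNoetherianRing (Localization.AtPrime p) := IsLocalization.isNoetherianRing p.primeCompl _ inferInstance
  haveI : Module.Finite (Localization.AtPrime p) (LocalizedModule p.primeCompl M) :=
    Module.Finite.of_isLocalizedModule p.primeCompl (LocalizedModule.mkLinearMap _ M)
  let S := (associatedPrimes.finite R M).toFinset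
  obtain ⟨x, hxI, hx⟩ : ∃ x ∈ I, ∀ P ∈ S, P ≤ p → x ∉ P := by
    by_contra hne
    push Not at hne
    have hsub : (I : Set R) ⊆ ⋃ P ∈ ((S.filter (· ≤ p)) : Set (Ideal R)), (P : Set R) := fun y hy => by
      obtain ⟨P, hP, hPp, hyP⟩ := hne y hy
      exact Set.mem_iUnion₂.2 ⟨P, by simp [hP, hPp], hyP⟩
    obtain ⟨P, hP, hIP⟩ := (Ideal.subset_union_prime_finite (Finset.finite_toSet _) I I fun P hP _ _ =>
      ((Set.Finite.mem_toFinset _).1 (Finset.mem_filter.1 hP).1).isPrime).1 hsub
    obtain ⟨hPS, hPp⟩ := Finset.mem_filter.1 hP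
    have hPass := (Set.Finite.mem_toFinset _).1 hPS
    haveI := hPass.isPrime
    by_cases hne' : I.map (algebraMap R (Localization.AtPrime p)) • (⊤ : Submodule (Localization.AtPrime p) (LocalizedModule p.primeCompl M)) = ⊤
    · have hsub' : Subsingleton (LocalizedModule p.primeCompl M) := by
        rcases subsingleton_or_nontrivial (LocalizedModule p.primeCompl M) with h' | h'
        · exact h'
        · exact absurd (top_le_iff.1 (hne'.ge.trans (Submodule.smul_mono_left ((Ideal.map_mono hI).trans
            Localization.AtPrime.map_eq_maximalIdeal.le)))) (Alg6.maximal_smul_top_ne_top (R := Localization.AtPrime p) (M := LocalizedModule p.primeCompl M))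
      obtain ⟨-, z, hz⟩ := Alg6.mem_ass_iff.1 hPass
      obtain ⟨t, ht, htz⟩ := LocalizedModule.subsingleton_iff.1 hsub' z
      exact ht (hPp ((hz t).2 htz))
    obtain ⟨rs, hrs, hmem, hlen⟩ := Alg6.exists_length_ge_of_le_idealDepth hne' (n := 1) (by exact_mod_cast h)
    rcases rs with _ | ⟨y, rs⟩
    · simp at hlen
    have hy := ((RingTheory.Sequence.isWeaklyRegular_cons_iff _ _ _).1 hrs).1
    have hass : P.map (algebraMap R (Localization.AtPrime p)) ∈
        associatedPrimes (Localization.AtPrime p) (LocalizedModule p.primeCompl M) := by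
      rw [← Module.associatedPrimes.preimage_comap_associatedPrimes_eq_associatedPrimes_of_isLocalizedModule
        p.primeCompl (Localization.AtPrime p) (LocalizedModule.mkLinearMap p.primeCompl M)]
      show Ideal.under R (P.map (algebraMap R (Localization.AtPrime p))) ∈ associatedPrimes R M
      rw [IsLocalization.comap_map_of_isPrime_disjoint p.primeCompl (Localization.AtPrime p) inferInstance
        (Set.disjoint_left.2 fun a ha haP => ha (hPp haP))]
      exact hPass
    exact Alg6.isSMulRegular_iff_forall_ass.1 hy _ hass (Ideal.map_mono hIP (hmem y List.mem_cons_self))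
  have hchoose : ∀ P ∈ S.filter (fun P => ¬ P ≤ p), ∃ a ∈ P, a ∉ p := fun P hP =>
    SetLike.not_le_iff_exists.1 (Finset.mem_filter.1 hP).2
  choose! a ha hap using hchoose
  refine ⟨x, hxI, ∏ P ∈ S.filter (fun P => ¬ P ≤ p), a P, Submonoid.prod_mem p.primeCompl hap, fun q _ hfq => ?_⟩
  haveI : IsNoetherianRing (Localization.AtPrime q) := IsLocalization.isNoetherianRing q.primeCompl _ inferInstance
  refine Alg6.isSMulRegular_iff_forall_ass.2 fun Q hQ hxQ => ?_
  have hQ' : Q ∈ Ideal.comap (algebraMap R (Localization.AtPrime q)) ⁻¹' (associatedPrimes R M) := by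
    rw [Module.associatedPrimes.preimage_comap_associatedPrimes_eq_associatedPrimes_of_isLocalizedModule
      q.primeCompl (Localization.AtPrime q) (LocalizedModule.mkLinearMap q.primeCompl M)]
    exact hQ
  let P := Q.comap (algebraMap R (Localization.AtPrime q))
  have hPS : P ∈ S := (Set.Finite.mem_toFinset _).2 hQ'
  have hPq : P ≤ q := (Ideal.comap_mono (le_maximalIdeal (IsAssociatedPrime.isPrime hQ).ne_top)).trans_eq
    (IsLocalization.AtPrime.comap_maximalIdeal _ q)
  refine hx P hPS ?_ hxQ
  by_contra hnot
  have hP : P ∈ S.filter (fun P => ¬ P ≤ p) := Finset.mem_filter.2 ⟨hPS, hnot⟩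
  obtain ⟨c, hc⟩ := Finset.dvd_prod_of_mem a hP
  exact hfq (hc ▸ q.mul_mem_right c (hPq (ha P hP)))

/-- Depth along an ideal is semicontinuous, and minimal only at finitely many points. -/
theorem exists_depth_spread (I p : Ideal R) [p.IsPrime] (hI : I ≤ p) (n : ℕ) :
    ∀ (M : Type u) [AddCommGroup M] [Module R M] [Module.Finite R M],
      (n : ℕ∞) ≤ LocCoh.idealDepth (I.map (algebraMap R (Localization.AtPrime p))) (LocalizedModule p.primeCompl M) →
      ∃ f ∉ p, (∀ (q : Ideal R) [q.IsPrime], f ∉ q → (n : ℕ∞) ≤
        LocCoh.idealDepth (I.map (algebraMap R (Localization.AtPrime q))) (LocalizedModule q.primeCompl M)) ∧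
      {q : PrimeSpectrum R | I ≤ q.asIdeal ∧ f ∉ q.asIdeal ∧
        LocCoh.depth (Localization.AtPrime q.asIdeal) (LocalizedModule q.asIdeal.primeCompl M) = n}.Finite := by
  induction n with
  | zero =>
    intro M _ _ _ _
    refine ⟨1, fun h => Ideal.IsPrime.ne_top inferInstance ((Ideal.eq_top_iff_one p).2 h), fun q _ _ => bot_le,
      Set.Finite.subset ((associatedPrimes.finite R M).preimage fun a _ b _ e => PrimeSpectrum.ext e) ?_⟩
    rintro q ⟨-, -, hq⟩
    by_contra hass
    have := (Alg6.one_le_depth_atPrime_iff q.asIdeal).2 hass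
    rw [hq] at this
    simp at this
  | succ n ih =>
    intro M _ _ _ h
    obtain ⟨x, hx, f₀, hf₀, hreg⟩ := exists_regular_spread M I p (le_trans (by simp) h) hI
    rw [← idealDepth_localized_quot_add_one M I p hx (hreg p hf₀), Nat.cast_add, Nat.cast_one,
      ENat.add_le_add_iff_right ENat.one_ne_top] at h
    obtain ⟨f, hf, h1, h2⟩ := ih (QuotSMulTop x M) h
    refine ⟨f₀ * f, fun hm => (Ideal.IsPrime.mem_or_mem inferInstance hm).elim hf₀ hf, fun q _ hq => ?_, h2.subset ?_⟩
    · rw [← idealDepth_localized_quot_add_one M I q hx (hreg q fun h' => hq (q.mul_mem_right _ h')), Nat.cast_add,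
        Nat.cast_one]
      exact add_le_add (h1 q fun h' => hq (q.mul_mem_left _ h')) le_rfl
    · rintro q ⟨hIq, hfq, hd⟩
      refine ⟨hIq, fun h' => hfq (q.asIdeal.mul_mem_left _ h'), ?_⟩
      have hd' := idealDepth_localized_quot_add_one M q.asIdeal q.asIdeal (hIq hx)
        (hreg q.asIdeal fun h' => hfq (q.asIdeal.mul_mem_right _ h'))
      rw [Localization.AtPrime.map_eq_maximalIdeal] at hd'
      change LocCoh.depth _ _ + 1 = LocCoh.depth _ _ at hd'
      rw [hd, Nat.cast_add, Nat.cast_one] at hd'
      exact (ENat.addLECancellable_of_ne_top ENat.one_ne_top).inj_left.1 hd'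

end Groth.Agent.LocDual54
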