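import Groth.Agent.LC.CohAcyclic
import Mathlib.RingTheory.Derivation.Basic
import Mathlib.Algebra.Category.ModuleCat.EnoughInjectives

/-!
# Derivations act on local cohomology
-/

universe u

set_option linter.style.haveILetI false

open CategoryTheory Limits

namespace Groth.Agent.LocDual54.DerivOp

variable {A : Type u} [CommRing A] (θ : Derivation ℤ A A)

/-- An additive operator compatible with `θ`. -/
def IsOp {M : Type u} [AddCommGroup M] [Module A M] (D : M →+ M) : Prop :=
  ∀ (a : A) (x : M), D (a • x) = θ a • x + a • D x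

/-- The module of first order jets along `θ`. -/
def Jet (_θ : Derivation ℤ A A) (J : Type u) : Type u := J × J

instance (J : Type u) [AddCommGroup J] : AddCommGroup (Jet θ J) := inferInstanceAs (AddCommGroup (J × J))

variable {θ}

/-- A pair as a jet. -/
def mk {J : Type u} (p : J × J) : Jet θ J := p

/-- A jet as a pair. -/
def out {J : Type u} (p : Jet θ J) : J × J := p

variable {J : Type u} [AddCommGroup J] [Module A J]

instance : SMul A (Jet θ J) := ⟨fun a p => mk (a • (out p).1, a • (out p).2 + θ a • (out p).1)⟩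

@[ext] theorem ext' {p q : Jet θ J} (h1 : (out p).1 = (out q).1) (h2 : (out p).2 = (out q).2) : p = q :=
  Prod.ext h1 h2

omit [Module A J] in
@[simp] theorem out_mk (p : J × J) : out (mk p : Jet θ J) = p := rfl

omit [Module A J] in
@[simp] theorem out_add (p q : Jet θ J) : out (p + q) = out p + out q := rfl

omit [Module A J] in
@[simp] theorem out_zero : out (0 : Jet θ J) = 0 := rfl

@[simp] theorem out_smul (a : A) (p : Jet θ J) : out (a • p) = (a • (out p).1, a • (out p).2 + θ a • (out p).1) := rfl

theorem smul_mk (a : A) (p : J × J) : a • (mk p : Jet θ J) = mk (a • p.1, a • p.2 + θ a • p.1) := rfl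

instance : Module A (Jet θ J) where
  one_smul p := by ext <;> simp
  mul_smul a b p := (smul_mk _ (out p)).trans (congrArg mk (by
    ext
    · exact mul_smul a b _
    · show (a * b) • (out p).2 + θ (a * b) • (out p).1 = a • (b • (out p).2 + θ b • (out p).1) + θ a • b • (out p).1
      rw [Derivation.leibniz, smul_eq_mul, smul_eq_mul, mul_comm b, add_smul, mul_smul, mul_smul, mul_smul, smul_add,
        add_assoc]))
  smul_zero a := congrArg mk (by
    ext
    · exact smul_zero a
    · show a • (0 : J) + θ a • (0 : J) = 0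
      rw [smul_zero, smul_zero, add_zero])
  smul_add a p q := congrArg mk (by
    ext
    · exact smul_add a _ _
    · show a • ((out p).2 + (out q).2) + θ a • ((out p).1 + (out q).1) =
        (a • (out p).2 + θ a • (out p).1) + (a • (out q).2 + θ a • (out q).1)
      rw [smul_add, smul_add]; abel)
  add_smul a b p := congrArg mk (by
    ext
    · exact add_smul a b _
    · show (a + b) • (out p).2 + θ (a + b) • (out p).1 =
        (a • (out p).2 + θ a • (out p).1) + (b • (out p).2 + θ b • (out p).1)
      rw [map_add, add_smul, add_smul]; abel)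
  zero_smul p := by ext <;> simp

variable (θ)

/-- Operators extend along monomorphisms into injective modules. -/
theorem exists_extend [Module.Injective A J] {M : Type u} [AddCommGroup M] [Module A M] (ι : M →ₗ[A] J)
    (hι : Function.Injective ι) (D : M →+ M) (hD : IsOp θ D) :
    ∃ D' : J →+ J, IsOp θ D' ∧ ∀ x, D' (ι x) = ι (D x) := by
  let inr : J →ₗ[A] Jet θ J :=
    { toFun := fun n => mk (0, n)
      map_add' := fun a b => by ext <;> simp
      map_smul' := fun a n => by ext <;> simp }
  obtain ⟨ρ, hρ⟩ := Module.Injective.out inr (fun a b h => congrArg Prod.snd (congrArg out h)) LinearMap.id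
  let D₀ : J →+ J :=
    AddMonoidHom.mk' (fun m => -ρ (mk (m, 0))) fun a b => by
      rw [show (mk (a + b, 0) : Jet θ J) = mk (a, 0) + mk (b, 0) from by ext <;> simp, map_add,
        neg_add]
  have h₀ : IsOp θ D₀ := fun a x => by
    show -ρ (mk (a • x, 0)) = θ a • x + a • -ρ (mk (x, 0))
    have e : (mk (a • x, 0) : Jet θ J) = a • mk (x, 0) - inr (θ a • x) := by
      rw [eq_sub_iff_add_eq]; ext <;> simp [inr]
    rw [e, map_sub, map_smul, hρ, LinearMap.id_apply, smul_neg]; abel
  let diff : M →ₗ[A] J :=
    { toFun := fun x => ι (D x) - D₀ (ι x)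
      map_add' := fun a b => by rw [map_add, map_add, map_add, map_add]; abel
      map_smul' := fun a x => by
        rw [hD, map_add, map_smul, map_smul, map_smul ι a x, h₀, RingHom.id_apply, smul_sub]; abel }
  obtain ⟨h, hh⟩ := Module.Injective.out ι hι diff
  refine ⟨D₀ + h.toAddMonoidHom, fun a x => ?_, fun x => ?_⟩
  · show D₀ (a • x) + h (a • x) = θ a • x + a • (D₀ x + h x)
    rw [h₀, map_smul, smul_add, add_assoc]
  · show D₀ (ι x) + h (ι x) = ι (D x)
    rw [hh]
    show D₀ (ι x) + (ι (D x) - D₀ (ι x)) = ι (D x)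
    abel

variable (I : Ideal A)

theorem deriv_mem_pow (n : ℕ) : ∀ a ∈ I ^ (n + 1), θ a ∈ I ^ n := by
  induction n with
  | zero => intro a _; simp
  | succ n ih =>
    intro a ha
    rw [pow_succ] at ha
    refine Submodule.mul_induction_on ha (fun x hx y hy => ?_) fun x y hx hy => by rw [map_add]; exact add_mem hx hy
    rw [Derivation.leibniz, smul_eq_mul, smul_eq_mul]
    refine add_mem (Ideal.mul_mem_right _ _ hx) ?_
    rw [pow_succ']
    exact Ideal.mul_mem_mul hy (ih x hx)

theorem mem_torsionSub {M : Type u} [AddCommGroup M] [Module A M] {D : M →+ M} (hD : IsOp θ D) {x : M}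
    (hx : x ∈ DRing.torsionSub I M) : D x ∈ DRing.torsionSub I M := by
  obtain ⟨n, hn⟩ := hx
  refine ⟨n + 1, fun a ha => ?_⟩
  have h := hD a x
  rw [hn a (Ideal.pow_le_pow_right n.le_succ ha), map_zero, hn _ (deriv_mem_pow θ I n a ha), zero_add] at h
  exact h.symm

/-- An operator on the source of a surjection preserving the kernel descends. -/
theorem exists_descend {P Q : Type u} [AddCommGroup P] [Module A P] [AddCommGroup Q] [Module A Q]
    (p : P →ₗ[A] Q) (hp : Function.Surjective p) (D : P →+ P) (hD : IsOp θ D)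
    (hker : ∀ x, p x = 0 → p (D x) = 0) :
    ∃ D' : Q →+ Q, IsOp θ D' ∧ ∀ x, D' (p x) = p (D x) := by
  choose σ hσ using hp
  have key : ∀ x, p (D (σ (p x))) = p (D x) := fun x => by
    rw [← sub_eq_zero, ← map_sub, ← map_sub]
    exact hker _ (by rw [map_sub, hσ, sub_self])
  refine ⟨AddMonoidHom.mk' (fun y => p (D (σ y))) fun y z => ?_, fun a y => ?_, key⟩
  · show p (D (σ (y + z))) = p (D (σ y)) + p (D (σ z))
    conv_lhs => rw [← hσ y, ← hσ z, ← map_add p, key]
    rw [map_add, map_add]
  · show p (D (σ (a • y))) = θ a • y + a • p (D (σ y))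
    conv_lhs => rw [← hσ y, ← map_smul p, key]
    rw [hD, map_add, map_smul, map_smul, hσ]

/-- Operators exist on local cohomology. -/
theorem exists_op : ∀ (i : ℕ) (M : ModuleCat.{u} A) (D : M →+ M), IsOp θ D →
    ∃ D' : (localCohomology I i).obj M →+ (localCohomology I i).obj M, IsOp θ D' := by
  intro i
  induction i using Nat.strong_induction_on with
  | _ i ih =>
  intro M D hD
  rcases i with _ | i
  · let e := LC.H0Equiv I M
    refine ⟨AddMonoidHom.mk' (fun z => e.symm ⟨D (e z).1, mem_torsionSub θ I hD (e z).2⟩) fun a b => ?_, fun a z => ?_⟩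
    · rw [← map_add]
      exact congrArg e.symm (Subtype.ext (by show D (e (a + b)).1 = D (e a).1 + D (e b).1; rw [map_add e, ← map_add D]; rfl))
    · let y : (localCohomology I 0).obj M := e.symm ⟨D (e z).1, mem_torsionSub θ I hD (e z).2⟩
      let y' : (localCohomology I 0).obj M := e.symm ⟨D (e (a • z)).1, mem_torsionSub θ I hD (e (a • z)).2⟩
      show y' = θ a • z + a • y
      refine e.injective ?_
      rw [map_add, map_smul, map_smul, show e y = _ from e.apply_symm_apply _, show e y' = _ from e.apply_symm_apply _]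
      refine Subtype.ext ?_
      show D (e (a • z)).1 = θ a • (e z).1 + a • D (e z).1
      rw [map_smul]
      exact hD a _
  obtain ⟨pres⟩ := EnoughInjectives.presentation M
  haveI := pres.injective
  haveI := pres.mono
  haveI : Module.Injective A pres.J := Module.injective_module_of_injective_object A pres.J
  have hinj : Function.Injective pres.f.hom := (ModuleCat.mono_iff_injective pres.f).1 inferInstance
  obtain ⟨DJ, hDJ, hcomm⟩ := exists_extend θ pres.f.hom hinj D hD
  let S : ShortComplex (ModuleCat.{u} A) := ShortComplex.mk pres.f (cokernel.π pres.f) (cokernel.condition _)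
  have hS : S.ShortExact := { exact := S.exact_of_g_is_cokernel (cokernelIsCokernel pres.f), mono_f := inferInstanceAs (Mono pres.f), epi_g := inferInstanceAs (Epi (cokernel.π pres.f)) }
  have hX : ∀ j, Subsingleton ((localCohomology I (j + 1)).obj S.X₂) := fun j => LC.subsingleton_of_injective I pres.J j
  have hgs : Function.Surjective S.g.hom := (ModuleCat.epi_iff_surjective S.g).1 hS.epi_g
  have hex := (ShortComplex.moduleCat_exact_iff S).1 hS.exact
  obtain ⟨DC, hDC, hcomm'⟩ := exists_descend θ S.g.hom hgs DJ hDJ fun x hx => by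
    obtain ⟨m, rfl⟩ := hex x hx
    show S.g.hom (DJ (pres.f.hom m)) = 0
    rw [hcomm]
    exact ConcreteCategory.congr_hom S.zero (D m)
  rcases i with _ | i
  · let DT : DRing.torsionSub I S.X₃ →+ DRing.torsionSub I S.X₃ :=
      AddMonoidHom.mk' (fun y => ⟨DC y.1, mem_torsionSub θ I hDC y.2⟩) fun a b => Subtype.ext (map_add DC _ _)
    obtain ⟨D', hD', -⟩ := exists_descend θ (LC.coker₁ I hS) (LC.coker₁_surjective I hS hX) DT
      (fun a y => Subtype.ext (hDC a y.1)) fun y hy => by
        obtain ⟨x, hx, hxy⟩ := (LC.coker₁_eq_zero_iff I hS y).1 hy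
        exact (LC.coker₁_eq_zero_iff I hS _).2 ⟨DJ x, mem_torsionSub θ I hDJ hx,
          (hcomm' x).symm.trans (congrArg DC hxy)⟩
    exact ⟨D', hD'⟩
  · obtain ⟨D', hD'⟩ := ih (i + 1) (by omega) S.X₃ DC hDC
    let e := LC.shiftEquiv I hS hX i
    refine ⟨(e.toAddEquiv.toAddMonoidHom.comp D').comp e.symm.toAddEquiv.toAddMonoidHom, fun a z => ?_⟩
    show e (D' (e.symm (a • z))) = θ a • z + a • e (D' (e.symm z))
    rw [map_smul, hD', map_add, map_smul, map_smul, LinearEquiv.apply_symm_apply]

end Groth.Agent.LocDual54.DerivOp
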