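import Groth.Agent.LocDual54.SupportKill
import Groth.Agent.Dual59.DualizingLoc
import Groth.Agent.KFlatLib.Ring.InvertibleTwist
import Groth.Agent.S1713

/-!
# Annihilators at the points of a closed set, through a dualizing complex
-/

universe u v

open CategoryTheory CategoryTheory.Limits IsLocalRing

namespace Groth.Agent.LocDual54

attribute [local instance] HasDerivedCategory.standard

open Groth.Agent.KFlatLib Groth.Agent.Dual59

section Chain

variable {A : Type u} [CommRing A] [IsNoetherianRing A] {n : PrimeSpectrum A → ℤ}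
  (hmono : StrictMono n) (hcov : ∀ p q : PrimeSpectrum A, p ⋖ q → n q = n p + 1)

include hmono in
omit [IsNoetherianRing A] in
theorem length_le_extDegree {p q : PrimeSpectrum A} (s : LTSeries (Set.Icc p q)) : (s.length : ℤ) ≤ n q - n p := by
  have h : ∀ k : ℕ, ∀ hk : k < s.length + 1, n p + k ≤ n (s ⟨k, hk⟩).1 := by
    intro k
    induction k with
    | zero => intro hk; simpa using hmono.monotone (s ⟨0, hk⟩).2.1
    | succ k ih =>
      intro hk
      have h2 := ih (by omega)
      have h3 : n (s ⟨k, by omega⟩).1 < n (s ⟨k + 1, hk⟩).1 := hmono (s.step ⟨k, by omega⟩)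
      push_cast
      omega
  have h1 := h s.length (by omega)
  have h4 := hmono.monotone (s ⟨s.length, by omega⟩).2.2
  omega

include hmono hcov in
theorem exists_chain : ∀ (d : ℕ) (p q : PrimeSpectrum A) (hpq : p ≤ q), n q - n p = d →
    ∃ s : LTSeries (Set.Icc p q), s.length = d ∧ s.last = ⟨q, hpq, le_rfl⟩ := by
  intro d
  induction d with
  | zero => exact fun p q hpq _ => ⟨RelSeries.singleton _ ⟨q, hpq, le_rfl⟩, rfl, rfl⟩
  | succ d ih =>
    intro p q hpq h
    have hlt : p < q := lt_of_le_of_ne hpq fun e => by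
      rw [e] at h
      omega
    obtain ⟨r, ⟨hr, hpr, hrq⟩, hmax⟩ := set_has_maximal_iff_noetherian.2 (‹IsNoetherianRing A› : IsNoetherian A A)
      {r : Ideal A | r.IsPrime ∧ p.asIdeal ≤ r ∧ r < q.asIdeal} ⟨p.asIdeal, p.isPrime, le_rfl, hlt⟩
    let r' : PrimeSpectrum A := ⟨r, hr⟩
    have hcv : r' ⋖ q := ⟨hrq, fun w h1 h2 =>
      hmax w.asIdeal ⟨w.isPrime, hpr.trans (le_of_lt (show r < w.asIdeal from h1)), h2⟩ h1⟩
    have := hcov r' q hcv
    obtain ⟨s, hs, hlast⟩ := ih p r' hpr (by omega)
    let t : LTSeries (Set.Icc p q) := s.map (fun x => ⟨x.1, x.2.1, x.2.2.trans hrq.le⟩) fun _ _ hxy => hxy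
    have htl : (t.last).1 = r' := congrArg Subtype.val hlast
    have hlq : (t.last).1 < q := htl ▸ hrq
    refine ⟨t.snoc ⟨q, hpq, le_rfl⟩ hlq, ?_, RelSeries.last_snoc _ _ _⟩
    show t.length + 1 = d + 1
    exact congrArg (· + 1) hs

include hmono hcov in
/-- The dimension of an interval of primes is the jump of the degree function. -/
theorem krullDim_Icc {p q : PrimeSpectrum A} (hpq : p ≤ q) :
    Order.krullDim (Set.Icc p q) = (((n q - n p).toNat : ℕ∞) : WithBot ℕ∞) := by
  have h0 := hmono.monotone hpq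
  refine le_antisymm (iSup_le fun s => ?_) ?_
  · have := length_le_extDegree hmono s
    exact_mod_cast (show s.length ≤ (n q - n p).toNat by omega)
  · obtain ⟨s, hs, -⟩ := exists_chain hmono hcov (n q - n p).toNat p q hpq (by omega)
    rw [← hs]
    exact le_iSup (fun s : LTSeries (Set.Icc p q) => ((s.length : ℕ∞) : WithBot ℕ∞)) s

include hmono hcov in
theorem height_Ici {p q : PrimeSpectrum A} (hpq : p ≤ q) :
    Order.height (⟨q, hpq⟩ : Set.Ici p) = ((n q - n p).toNat : ℕ∞) := by
  have h0 := hmono.monotone hpq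
  refine le_antisymm (Order.height_le fun s hs => ?_) ?_
  · have hq : ∀ i, (s i).1 ≤ q := fun i => le_of_le_of_eq (s.monotone (Fin.le_last i) : s i ≤ s.last) (congrArg Subtype.val hs)
    let t : LTSeries (Set.Icc p q) :=
      ⟨s.length, fun i => ⟨(s i).1, (s i).2, hq i⟩, fun i => s.step i⟩
    have := length_le_extDegree hmono t
    exact_mod_cast (show s.length ≤ (n q - n p).toNat from
      show t.length ≤ _ by omega)
  · obtain ⟨s, hs, hlast⟩ := exists_chain hmono hcov (n q - n p).toNat p q hpq (by omega)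
    let t : LTSeries (Set.Ici p) := s.map (fun x => ⟨x.1, x.2.1⟩) fun _ _ hxy => hxy
    have hl : (s.last).1 = q := congrArg Subtype.val hlast
    have ht : t.last = ⟨q, hpq⟩ := Subtype.ext hl
    have := Order.length_le_height (p := t) ht.le
    rwa [show t.length = s.length from rfl, hs] at this

end Chain

section Finite

variable {A : Type u} [CommRing A] [IsNoetherianRing A]

/-- A finite module dying at the generalizations of `p` inside `V` is killed on `V` by an element outside `p`. -/
theorem exists_smul_localized {E : Type v} [AddCommGroup E] [Module A E] [Module.Finite A E]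
    (p : PrimeSpectrum A) (V : Set (PrimeSpectrum A))
    (h : ∀ q ∈ V, ∀ P : PrimeSpectrum A, P ≤ p → P ≤ q → P ∉ Module.support A E) :
    ∃ f ∉ p.asIdeal, ∀ q ∈ V, ∀ y : LocalizedModule q.asIdeal.primeCompl E, f • y = 0 := by
  classical
  let N := Module.annihilator A E
  have hfin := Ideal.finite_minimalPrimes_of_isNoetherianRing A N
  let out := hfin.toFinset.filter fun P => ¬ P ≤ p.asIdeal
  let inn := hfin.toFinset.filter fun P => P ≤ p.asIdeal
  have hg : ∀ P ∈ out, ∃ g ∈ P, g ∉ p.asIdeal := fun P hP =>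
    SetLike.not_le_iff_exists.1 (Finset.mem_filter.1 hP).2
  choose! g hg hgp using hg
  obtain ⟨k, hk⟩ := N.exists_radical_pow_le_of_fg (IsNoetherian.noetherian N.radical)
  let f₀ := ∏ P ∈ out, g P
  have hf₀ : f₀ ∉ p.asIdeal := Submonoid.prod_mem p.asIdeal.primeCompl fun P hP => hgp P hP
  refine ⟨f₀ ^ k, p.asIdeal.primeCompl.pow_mem hf₀ k, fun q hq y => ?_⟩
  have hP : ∀ P ∈ inn, ∃ c ∈ P, c ∉ q.asIdeal := fun P hP => by
    obtain ⟨hmem, hle⟩ := Finset.mem_filter.1 hP
    have hP' := hfin.mem_toFinset.1 hmem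
    by_contra hcon
    push Not at hcon
    refine h q hq ⟨P, hP'.1.1⟩ hle (fun a ha => hcon a ha) ?_
    exact (Set.ext_iff.1 Module.support_eq_zeroLocus _).2 hP'.1.2
  choose! c hc hcq using hP
  let t := ∏ P ∈ inn, c P
  have ht : t ∉ q.asIdeal := Submonoid.prod_mem q.asIdeal.primeCompl fun P hP => hcq P hP
  have hrad : f₀ * t ∈ N.radical := by
    rw [← Ideal.sInf_minimalPrimes]
    refine Ideal.mem_sInf.2 fun {P} hP => ?_
    by_cases hle : P ≤ p.asIdeal
    · have hPi : P ∈ inn := Finset.mem_filter.2 ⟨hfin.mem_toFinset.2 hP, hle⟩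
      exact Ideal.mul_mem_left _ _ (P.mem_of_dvd (Finset.dvd_prod_of_mem c hPi) (hc P hPi))
    · have hPo : P ∈ out := Finset.mem_filter.2 ⟨hfin.mem_toFinset.2 hP, hle⟩
      exact Ideal.mul_mem_right _ _ (P.mem_of_dvd (Finset.dvd_prod_of_mem g hPo) (hg P hPo))
  have hkill := Module.mem_annihilator.1 (hk (Ideal.pow_mem_pow hrad k))
  induction y using LocalizedModule.induction_on with
  | h m s =>
    rw [LocalizedModule.smul'_mk, ← LocalizedModule.zero_mk s, LocalizedModule.mk_eq]
    refine ⟨(⟨t ^ k, q.asIdeal.primeCompl.pow_mem ht k⟩ : q.asIdeal.primeCompl), ?_⟩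
    simp only [Submonoid.smul_def, smul_zero]
    rw [smul_comm (s : A), ← mul_smul, ← mul_pow, mul_comm, hkill]

end Finite

variable {A : Type u} [CommRing A] [IsNoetherianRing A] {ω : Dual.D A} {n : PrimeSpectrum A → ℤ}

/-- Ext at a prime, linearly. -/
theorem exists_extLocLinearEquiv (hω : Dual.IsDualizing A ω) (q : Ideal A) [q.IsPrime]
    [DTen.HasLBase (algebraMap A (Localization.AtPrime q))] (M : Type u) [AddCommGroup M] [Module A M]
    [Module.Finite A M] (i : ℤ) :
    Nonempty ((Dual.inD (Localization.AtPrime q) (LocalizedModule q.primeCompl M) ⟶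
        ((DTen.LBase (algebraMap A (Localization.AtPrime q))).obj ω)⟦i⟧) ≃ₗ[Localization.AtPrime q]
      LocalizedModule q.primeCompl (Dual.inD A M ⟶ ω⟦i⟧)) := by
  have : Module.Flat A (Localization.AtPrime q) := IsLocalization.flat _ q.primeCompl
  obtain ⟨a, b, -, _, _⟩ := exists_bounds_of_isDualizing hω
  obtain ⟨eM⟩ := exists_LBase_inD_localized q M
  obtain ⟨e⟩ := exists_homBaseChangeLEquiv (B := Localization.AtPrime q) (X := Dual.inD A M) (Y := ω)
    ((Groth.Agent.S6942.result A 0 (Dual.inD A M) M).2.2 inferInstance) a i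
  exact ⟨(Linear.homCongr (Localization.AtPrime q) eM (Iso.refl _)).symm.trans (e.trans
    (LocalizedModule.equivTensorProduct q.primeCompl (Dual.inD A M ⟶ ω⟦i⟧)).symm)⟩

/-- The localization, shifted by the degree of the prime, is normalized. -/
theorem isNormalized_localized (hω : Dual.IsDualizing A ω) (hn : IsExtDegree ω n) (q : Ideal A) [q.IsPrime]
    [DTen.HasLBase (algebraMap A (Localization.AtPrime q))] :
    Dual.IsNormalized (Localization.AtPrime q)
      (((DTen.LBase (algebraMap A (Localization.AtPrime q))).obj ω)⟦n ⟨q, inferInstance⟩⟧) := by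
  let B := Localization.AtPrime q
  let W := (DTen.LBase (algebraMap A B)).obj ω
  obtain ⟨m, hm, -, -, -⟩ := exists_extDegree (isDualizing_localized hω q)
  have hc := extDegree_localized_closedPoint hω hn q hm
  intro i hi
  let c := n ⟨q, inferInstance⟩
  have h1 : Subsingleton (Dual.inD B (B ⧸ (closedPoint B).asIdeal) ⟶ W⟦c + i⟧) := by
    have h2 : Subsingleton (LocalizedModule (closedPoint B).asIdeal.primeCompl
        (Dual.inD B (B ⧸ (closedPoint B).asIdeal) ⟶ W⟦c + i⟧)) :=
      not_nontrivial_iff_subsingleton.1 fun h' => hi (by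
        have := (hm (closedPoint B) _).1 h'
        rw [hc] at this
        omega)
    refine subsingleton_of_forall_eq 0 fun f => ?_
    obtain ⟨t, ht, htf⟩ := LocalizedModule.subsingleton_iff.1 h2 f
    have hu : IsUnit t := by
      by_contra hu
      exact ht hu
    exact hu.smul_eq_zero.1 htf
  exact ((Iso.refl (Dual.inD B (B ⧸ (closedPoint B).asIdeal))).homCongr
    ((shiftFunctorAdd' (Dual.D B) c i (c + i) rfl).app W)).symm.subsingleton

/-- Killing local cohomology at a prime is killing Ext at that prime. -/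
theorem killAt_iff (hω : Dual.IsDualizing A ω) (hn : IsExtDegree ω n) (q : PrimeSpectrum A)
    (M : Type u) [AddCommGroup M] [Module A M] [Module.Finite A M] (f : A) (l : ℕ) :
    KillAt f l M q.asIdeal ↔
      ∀ y : LocalizedModule q.asIdeal.primeCompl (Dual.inD A M ⟶ ω⟦n q - l⟧), f • y = 0 := by
  let B := Localization.AtPrime q.asIdeal
  have := hasLBase (algebraMap A B)
  have hB := isDualizing_localized hω q.asIdeal
  have : Module.Finite B (LocalizedModule q.asIdeal.primeCompl M) :=
    Module.Finite.of_isLocalizedModule q.asIdeal.primeCompl (LocalizedModule.mkLinearMap _ M)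
  have hann := Groth.Agent.S1713.result B
    (((DTen.LBase (algebraMap A B)).obj ω)⟦n q⟧)
    (isDualizing_shift hB (n q)) (isNormalized_localized hω hn q.asIdeal) (LocalizedModule q.asIdeal.primeCompl M) l
  obtain ⟨e⟩ := exists_extLocLinearEquiv hω q.asIdeal M (n q - l)
  let e' := (Linear.homCongr B (Iso.refl (Dual.inD B (LocalizedModule q.asIdeal.primeCompl M)))
    (((shiftFunctorAdd' (Dual.D B) (n q) (-(l : ℤ)) (n q - l) (by omega)).app
      ((DTen.LBase (algebraMap A B)).obj ω)))).symm.trans e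
  have key : algebraMap A B f ∈ Module.annihilator B (LocCoh.H (maximalIdeal B) l (LocalizedModule q.asIdeal.primeCompl M)) ↔
      algebraMap A B f ∈ Module.annihilator B (LocalizedModule q.asIdeal.primeCompl (Dual.inD A M ⟶ ω⟦n q - l⟧)) := by
    rw [← hann]
    exact (SetLike.ext_iff.1 e'.annihilator_eq) _
  rw [KillAt, ← Module.mem_annihilator, key, Module.mem_annihilator]
  exact forall_congr' fun y => by rw [algebraMap_smul]

/-- The sufficiency half at a prime. -/
theorem exists_killAt (hω : Dual.IsDualizing A ω) (M : Type u) [AddCommGroup M] [Module A M] [Module.Finite A M]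
    (p : PrimeSpectrum A) (V : Set (PrimeSpectrum A)) (s : ℕ)
    (h : ∀ p' q : PrimeSpectrum A, p' ≤ p → q ∈ V → p' ≤ q → (s : WithBot ℕ∞) <
      ((LocCoh.depth (Localization.AtPrime p'.asIdeal) (LocalizedModule p'.asIdeal.primeCompl M) : ℕ∞) : WithBot ℕ∞) +
        Order.krullDim (Set.Icc p' q)) :
    ∃ f ∉ p.asIdeal, ∀ q ∈ V, ∀ l ≤ s, KillAt f l M q.asIdeal := by
  classical
  obtain ⟨n, hn, hcov, hmono, a, b, hab⟩ := exists_extDegree hω
  obtain ⟨a', b', -, _, _⟩ := exists_bounds_of_isDualizing hω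
  have key : ∀ j : ℤ, ∃ f ∉ p.asIdeal, ∀ q ∈ V, n q - s ≤ j →
      ∀ y : LocalizedModule q.asIdeal.primeCompl (Dual.inD A M ⟶ ω⟦j⟧), f • y = 0 := fun j => by
    have := finite_hom_module ω a' hω.finite_cohomology M j
    obtain ⟨f, hf, hk⟩ := exists_smul_localized (E := Dual.inD A M ⟶ ω⟦j⟧) p {q | q ∈ V ∧ n q - s ≤ j}
      (fun q hq P hPp hPq hsupp => by
        obtain ⟨k, hk, hvan, -⟩ := exists_top_degree hω hn M P (support_hom_subset M _ hsupp)
        have hle : j ≤ n P - k := le_of_not_gt fun hlt => by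
          have := Module.mem_support_iff.1 hsupp
          exact not_subsingleton _ (hvan j hlt)
        have h1 := h P q hPp hq.1 hPq
        rw [hk, krullDim_Icc hmono hcov hPq] at h1
        have h2 : (s : ℕ) < k + (n q - n P).toNat := by exact_mod_cast h1
        have := hmono.monotone hPq
        have := hq.2
        omega)
    exact ⟨f, hf, fun q hq hj => hk q ⟨hq, hj⟩⟩
  choose g hg hgk using key
  refine ⟨∏ j ∈ Finset.Icc (a - s) b, g j, Submonoid.prod_mem p.asIdeal.primeCompl fun j _ => hg j,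
    fun q hq l hl => (killAt_iff hω hn q M _ l).2 fun y => ?_⟩
  have hmem : n q - l ∈ Finset.Icc (a - s) b := by
    have := hab q
    rw [Finset.mem_Icc]
    omega
  obtain ⟨d, hd⟩ := Finset.dvd_prod_of_mem g hmem
  rw [hd, mul_comm, mul_smul, hgk (n q - l) q hq (by omega) y, smul_zero]

/-- The necessity half at a prime. -/
theorem lt_depth_add_of_killAt (hω : Dual.IsDualizing A ω) (M : Type u) [AddCommGroup M] [Module A M]
    [Module.Finite A M] (p q : PrimeSpectrum A) (hpq : p ≤ q) (s : ℕ) (f : A) (hf : f ∉ p.asIdeal)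
    (hk : ∀ l ≤ s, KillAt f l M q.asIdeal) :
    (s : WithBot ℕ∞) <
      ((LocCoh.depth (Localization.AtPrime p.asIdeal) (LocalizedModule p.asIdeal.primeCompl M) : ℕ∞) : WithBot ℕ∞) +
        Order.krullDim (Set.Icc p q) := by
  obtain ⟨n, hn, hcov, hmono, -⟩ := exists_extDegree hω
  rw [krullDim_Icc hmono hcov hpq]
  by_cases hp : p ∈ Module.support A M
  · obtain ⟨k, hkd, -, hnt⟩ := exists_top_degree hω hn M p hp
    rw [hkd]
    by_contra hcon
    have h2 : k + (n q - n p).toNat ≤ s := by
      rw [not_lt] at hcon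
      exact_mod_cast hcon
    have := hmono.monotone hpq
    have h3 := (killAt_iff hω hn q M f (k + (n q - n p).toNat)).1 (hk _ h2)
    rw [show n q - ((k + (n q - n p).toNat : ℕ) : ℤ) = n p - k by push_cast; omega] at h3
    have := hnt
    refine not_subsingleton (LocalizedModule p.asIdeal.primeCompl (Dual.inD A M ⟶ ω⟦n p - k⟧))
      (LocalizedModule.subsingleton_iff.2 fun e => ?_)
    have h4 := h3 (LocalizedModule.mk e 1)
    rw [LocalizedModule.smul'_mk, ← LocalizedModule.zero_mk (1 : q.asIdeal.primeCompl), LocalizedModule.mk_eq] at h4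
    obtain ⟨t, ht⟩ := h4
    simp only [one_smul, smul_zero, Submonoid.smul_def] at ht
    exact ⟨(t : A) * f, p.asIdeal.primeCompl.mul_mem (fun htp => t.2 (hpq htp)) hf, by rw [mul_smul]; exact ht⟩
  · have : Subsingleton (LocalizedModule p.asIdeal.primeCompl M) := Module.notMem_support_iff.1 hp
    have hdep : LocCoh.depth (Localization.AtPrime p.asIdeal) (LocalizedModule p.asIdeal.primeCompl M) = ⊤ :=
      if_pos (Subsingleton.elim _ _)
    rw [hdep, ← WithBot.coe_add, top_add]
    exact WithBot.coe_lt_coe.2 (ENat.natCast_lt_top s)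

end Groth.Agent.LocDual54
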