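import Groth.Prelude.Def_DerCA
import Mathlib.RingTheory.Artinian.Module

/-!
# Towers of Artinian modules with Artinian limit are essentially constant
-/

universe u

open CategoryTheory Opposite

namespace Groth.Agent.LocDual54.EssArtin

variable {A : Type u} [CommRing A]

theorem tr_tr (X : ARSys.PS (ModuleCat.{u} A)) {l m n : ℕ} (h : n ≤ m) (h' : m ≤ l) (x : X.obj (op l)) :
    ARSys.tr X h (ARSys.tr X h' x) = ARSys.tr X (h.trans h') x := by
  show (X.map (homOfLE h').op ≫ X.map (homOfLE h).op) x = _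
  rw [← X.map_comp]
  rfl

theorem tr_self (X : ARSys.PS (ModuleCat.{u} A)) (n : ℕ) (x : X.obj (op n)) : ARSys.tr X (le_refl n) x = x := by
  show X.map (𝟙 _) x = x
  rw [X.map_id]
  rfl

theorem tr_cone {X : ARSys.PS (ModuleCat.{u} A)} {L : ModuleCat.{u} A} (c : (Functor.const ℕᵒᵖ).obj L ⟶ X)
    {m n : ℕ} (h : n ≤ m) (l : L) : ARSys.tr X h (c.app (op m) l) = c.app (op n) l := by
  show (c.app (op m) ≫ X.map (homOfLE h).op) l = _
  rw [← c.naturality]
  rfl

theorem stable (X : ARSys.PS (ModuleCat.{u} A)) (n : ℕ) [IsArtinian A (X.obj (op n))] :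
    ∃ r, ∃ _ : n ≤ r, ∀ (s : ℕ) (hs : r ≤ s) (hns : n ≤ s) (hnr : n ≤ r), ∀ x : X.obj (op r),
      ∃ y : X.obj (op s), ARSys.tr X hns y = ARSys.tr X hnr x := by
  obtain ⟨k, hk⟩ := IsArtinian.monotone_stabilizes (R := A) (M := X.obj (op n))
    ⟨fun j => OrderDual.toDual (LinearMap.range (ARSys.tr X (Nat.le_add_right n j)).hom), fun a b hab => by
      rintro _ ⟨y, rfl⟩
      exact ⟨ARSys.tr X (Nat.add_le_add_left hab n) y, tr_tr X _ _ y⟩⟩
  refine ⟨n + k, Nat.le_add_right n k, fun s hs hns hnr x => ?_⟩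
  obtain ⟨j, rfl⟩ : ∃ j, s = n + j := ⟨s - n, by omega⟩
  obtain ⟨y, hy⟩ := (OrderDual.toDual.injective (hk j (by omega))).le ⟨x, rfl⟩
  exact ⟨y, hy⟩

theorem isEssConstant (X : ARSys.PS (ModuleCat.{u} A)) (L : ModuleCat.{u} A)
    (c : (Functor.const ℕᵒᵖ).obj L ⟶ X) [hX : ∀ n : ℕ, IsArtinian A (X.obj (op n))] [IsArtinian A L]
    (hinj : ∀ l : L, (∀ n : ℕ, c.app (op n) l = 0) → l = 0)
    (hsurj : ∀ y : (∀ n : ℕ, X.obj (op n)), (∀ (n m : ℕ) (h : n ≤ m), ARSys.tr X h (y m) = y n) →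
      ∃ l : L, ∀ n, c.app (op n) l = y n) :
    DerCA.IsEssConstant X L c := by
  choose r hr hst using fun n => stable X n
  -- the stable image at `n`
  let S : ∀ n, Submodule A (X.obj (op n)) := fun n => LinearMap.range (ARSys.tr X (hr n)).hom
  have hlift : ∀ n, ∀ x ∈ S n, ∃ z ∈ S (n + 1), ARSys.tr X (Nat.le_add_right n 1) z = x := by
    rintro n _ ⟨x, rfl⟩
    let R := max (r n) (r (n + 1))
    obtain ⟨y, hy⟩ := hst n R (le_max_left _ _) ((hr n).trans (le_max_left _ _)) (hr n) x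
    refine ⟨ARSys.tr X ((hr (n + 1)).trans (le_max_right _ _)) y,
      ⟨ARSys.tr X (le_max_right (r n) (r (n + 1))) y, tr_tr X _ _ y⟩, ?_⟩
    rw [tr_tr]
    exact hy
  choose g hgS hg using hlift
  -- every element of a stable image comes from `L`
  have hS : ∀ n, ∀ x ∈ S n, ∃ l : L, c.app (op n) l = x := by
    intro n x hx
    let z : ∀ t : ℕ, S (n + t) := fun t => Nat.rec ⟨x, hx⟩ (fun t w => ⟨g (n + t) w w.2, hgS _ _ _⟩) t
    have hz : ∀ t t' (h : t ≤ t'), ARSys.tr X (Nat.add_le_add_left h n) (z t').1 = (z t).1 := by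
      intro t t' h
      induction t', h using Nat.le_induction with
      | base => exact tr_self X _ _
      | succ t' h ih => rw [← ih, ← hg (n + t') (z t').1 (z t').2, tr_tr]
    obtain ⟨l, hl⟩ := hsurj (fun m => ARSys.tr X (Nat.le_add_left m n) (z m).1) fun a b h => by
      rw [tr_tr, ← hz a b h, tr_tr]
    exact ⟨l, (hl n).trans (hz 0 n (Nat.zero_le n))⟩
  -- the cone is eventually injective
  obtain ⟨i₀, hi₀⟩ := IsArtinian.monotone_stabilizes (R := A) (M := L)
    ⟨fun j => OrderDual.toDual (LinearMap.ker (c.app (op j)).hom), fun a b hab l hl => by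
      show c.app (op a) l = 0
      rw [← tr_cone c hab l, show c.app (op b) l = 0 from hl, map_zero]⟩
  have hI : Function.Injective (c.app (op i₀)).hom := (injective_iff_map_eq_zero _).2 fun l hl =>
    hinj l fun n => by
      rcases le_total i₀ n with h | h
      · exact ((OrderDual.toDual.injective (hi₀ n h)).le (show l ∈ LinearMap.ker (c.app (op i₀)).hom from hl) :)
      · rw [← tr_cone c h l]
        exact (congrArg _ hl).trans (map_zero _)
  let k₀ := r i₀
  have hk : ∀ w : X.obj (op k₀), ∃ l : L, c.app (op i₀) l = ARSys.tr X (hr i₀) w := fun w => hS i₀ _ ⟨w, rfl⟩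
  let e := LinearEquiv.ofInjective (c.app (op i₀)).hom hI
  let φ : X.obj (op k₀) →ₗ[A] L := e.symm.toLinearMap.comp
    (LinearMap.codRestrict (LinearMap.range (c.app (op i₀)).hom) (ARSys.tr X (hr i₀)).hom hk)
  have hφ : ∀ w l, c.app (op i₀) l = ARSys.tr X (hr i₀) w → φ w = l := fun w l h => by
    refine e.injective ?_
    show e (e.symm _) = e l
    rw [e.apply_symm_apply]
    exact Subtype.ext h.symm
  refine ⟨k₀, ModuleCat.ofHom φ, ModuleCat.hom_ext (LinearMap.ext fun l => hφ _ l (tr_cone c _ l).symm), fun j => ?_⟩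
  let m := max i₀ j
  let k := max (max k₀ j) (r m)
  refine ⟨k, (le_max_left k₀ j).trans (le_max_left _ _), (le_max_right k₀ j).trans (le_max_left _ _),
    ModuleCat.hom_ext (LinearMap.ext fun x => ?_)⟩
  show ARSys.tr X _ x = c.app (op j) (φ (ARSys.tr X _ x))
  have hmk : m ≤ k := (hr m).trans (le_max_right _ _)
  obtain ⟨l, hl⟩ := hS m _ (⟨ARSys.tr X (le_max_right _ (r m)) x, rfl⟩ : ARSys.tr X (hr m) _ ∈ S m)
  rw [tr_tr] at hl
  rw [hφ _ l (by rw [← tr_cone c (le_max_left i₀ j) l, hl, tr_tr, tr_tr]), ← tr_cone c (le_max_right i₀ j) l, hl,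
    tr_tr]

end Groth.Agent.LocDual54.EssArtin
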