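import Groth.Prelude.Def_Coh
import Mathlib.RingTheory.Derivation.Basic
import Mathlib.RingTheory.Etale.Basic
import Mathlib.RingTheory.Kaehler.Basic
import Mathlib.RingTheory.Unramified.Basic
import Mathlib.Algebra.TrivSqZeroExt.Basic
import Mathlib.AlgebraicGeometry.Morphisms.Etale

/-!
# Derivations of the base act on the cohomology of étale schemes
-/

universe u

set_option linter.style.haveILetI false

open CategoryTheory AlgebraicGeometry TopologicalSpace Opposite

namespace Groth.Agent.LocDual54.EtaleDeriv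

section Algebra

variable {A B C : Type u} [CommRing A] [CommRing B] [CommRing C] (ρ : A →+* B) (θ : Derivation ℤ A A)

/-- A derivation along `g` extending `θ`. -/
structure IsExt (g : B →+* C) (δ : B →+ C) : Prop where
  leibniz : ∀ b c, δ (b * c) = g b * δ c + g c * δ b
  base : ∀ a, δ (ρ a) = g (ρ (θ a))

/-- Extensions along a formally unramified map are unique. -/
theorem ext_unique (hρ : ρ.FormallyUnramified) (g : B →+* C) {δ δ' : B →+ C} (h : IsExt ρ θ g δ)
    (h' : IsExt ρ θ g δ') : δ = δ' := by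
  letI := ρ.toAlgebra
  haveI : Algebra.FormallyUnramified A B := hρ
  letI : Module B C := Module.compHom C g
  letI : Module A C := Module.compHom C (g.comp ρ)
  haveI : IsScalarTower A B C := IsScalarTower.of_algebraMap_smul fun a x => rfl
  have hbase : ∀ a, δ (ρ a) - δ' (ρ a) = 0 := fun a => by rw [h.base, h'.base, sub_self]
  let D : Derivation A B C := Derivation.mk'
    { toFun := fun b => δ b - δ' b
      map_add' := fun a b => by rw [map_add, map_add]; abel
      map_smul' := fun a b => by
        show δ (ρ a * b) - δ' (ρ a * b) = g (ρ a) * (δ b - δ' b)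
        rw [h.leibniz, h'.leibniz, h.base, h'.base]; ring }
    fun b c => by
      show δ (b * c) - δ' (b * c) = g b * (δ c - δ' c) + g c * (δ b - δ' b)
      rw [h.leibniz, h'.leibniz]; ring
  refine AddMonoidHom.ext fun b => sub_eq_zero.1 ?_
  show D b = 0
  rw [← D.liftKaehlerDifferential_comp_D b, Subsingleton.elim (KaehlerDifferential.D A B b) 0, map_zero]

/-- Extensions along a formally étale map exist. -/
theorem ext_exists (hρ : ρ.FormallyEtale) : ∃ δ : B →+ B, IsExt ρ θ (RingHom.id B) δ := by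
  letI := ρ.toAlgebra
  haveI : Algebra.FormallyEtale A B := hρ
  let φ : A →+* TrivSqZeroExt B B :=
    { toFun := fun a => TrivSqZeroExt.inl (ρ a) + TrivSqZeroExt.inr (ρ (θ a))
      map_one' := by ext <;> simp
      map_zero' := by ext <;> simp
      map_add' := fun a b => by
        ext
        · simp
        · simp
      map_mul' := fun a b => by
        ext
        · simp
        · simp [Derivation.leibniz, mul_comm] }
  letI : Algebra A (TrivSqZeroExt B B) := φ.toAlgebra
  let g : TrivSqZeroExt B B →ₐ[A] B :=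
    { (TrivSqZeroExt.fstHom B B B).toRingHom with
      commutes' := fun a => by
        show TrivSqZeroExt.fst (TrivSqZeroExt.inl (ρ a) + TrivSqZeroExt.inr (ρ (θ a))) = ρ a
        simp }
  have hg : Function.Surjective g := fun b => ⟨TrivSqZeroExt.inl b, TrivSqZeroExt.fst_inl B b⟩
  have hnil : IsNilpotent (RingHom.ker (g : TrivSqZeroExt B B →+* B)) := ⟨2, by
    rw [Ideal.zero_eq_bot, Submodule.pow_succ, Submodule.pow_one, eq_bot_iff, Ideal.mul_le]
    intro x hx y hy
    replace hx : x.fst = 0 := hx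
    replace hy : y.fst = 0 := hy
    rw [Submodule.mem_bot]
    ext <;> simp [hx, hy]⟩
  let s := Algebra.FormallySmooth.liftOfSurjective (AlgHom.id A B) g hg hnil
  have hs : ∀ b, (s b).fst = b := fun b =>
    Algebra.FormallySmooth.liftOfSurjective_apply (AlgHom.id A B) g hg hnil b
  refine ⟨AddMonoidHom.mk' (fun b => (s b).snd) fun a b => by rw [map_add, TrivSqZeroExt.snd_add], ⟨fun b c => ?_, fun a => ?_⟩⟩
  · show (s (b * c)).snd = b * (s c).snd + c * (s b).snd
    rw [map_mul, TrivSqZeroExt.snd_mul, hs, hs]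
    simp [mul_comm c]
  · show (s (algebraMap A B a)).snd = ρ (θ a)
    rw [s.commutes]
    show (TrivSqZeroExt.inl (ρ a) + TrivSqZeroExt.inr (ρ (θ a))).snd = _
    simp

end Algebra

theorem formallyUnramified_of_formallyEtale {R S : Type u} [CommRing R] [CommRing S] {f : R →+* S}
    (h : f.FormallyEtale) : f.FormallyUnramified := by
  letI := f.toAlgebra
  haveI : Algebra.FormallyEtale R S := h
  exact (inferInstance : Algebra.FormallyUnramified R S)

variable (A : Type u) [CommRing A] (V : Scheme.{u}) [V.Over (Spec (CommRingCat.of A))]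

/-- The structure map on sections. -/
noncomputable def ρW (W : V.Opens) : A →+* Γ(V, W) :=
  (V.presheaf.map (homOfLE (le_top : W ≤ ⊤)).op).hom.comp (Coh.toGlobal (V ↘ Spec (CommRingCat.of A)))

theorem res_ρW {W W' : V.Opens} (h : W' ≤ W) (a : A) :
    V.presheaf.map (homOfLE h).op (ρW A V W a) = ρW A V W' a :=
  (ConcreteCategory.comp_apply _ _ _).symm.trans
    (ConcreteCategory.congr_hom (V.presheaf.map_comp _ _).symm (Coh.toGlobal (V ↘ Spec (CommRingCat.of A)) a))

theorem ρW_formallyEtale [Etale (V ↘ Spec (CommRingCat.of A))] {W : V.Opens} (hW : IsAffineOpen W) :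
    (ρW A V W).FormallyEtale := by
  let p := V ↘ Spec (CommRingCat.of A)
  have h : (p.appLE ⊤ W le_top).hom.Etale := p.etale_appLE (isAffineOpen_top _) hW le_top
  have h' : RingHom.Etale ((p.appLE ⊤ W le_top).hom.comp (Scheme.ΓSpecIso (CommRingCat.of A)).inv.hom) :=
    RingHom.Etale.respectsIso.2 _ ((Scheme.ΓSpecIso (CommRingCat.of A)).commRingCatIsoToRingEquiv.symm) h
  exact h'.formallyEtale

variable {A V} (θ : Derivation ℤ A A) [Etale (V ↘ Spec (CommRingCat.of A))]

theorem basis : TopologicalSpace.Opens.IsBasis (Set.range fun W : V.affineOpens => W.1) := by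
  rw [Subtype.range_coe_subtype]; exact V.isBasis_affineOpens

/-- The derivation extending `θ`, as an endomorphism of the structure sheaf. -/
theorem exists_sheafOp :
    ∃ Θ : Coh.toAb (Coh.structureModule V) ⟶ Coh.toAb (Coh.structureModule V),
      ∀ a : A, Coh.smulAb (Coh.structureModule V) (Coh.toGlobal (V ↘ Spec (CommRingCat.of A)) a) ≫ Θ =
        Coh.smulAb (Coh.structureModule V) (Coh.toGlobal (V ↘ Spec (CommRingCat.of A)) (θ a)) +
          Θ ≫ Coh.smulAb (Coh.structureModule V) (Coh.toGlobal (V ↘ Spec (CommRingCat.of A)) a) := by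
  choose δ hδ using fun W : V.affineOpens => ext_exists (ρW A V W.1) θ (ρW_formallyEtale A V W.2)
  let P := (Coh.toAb (Coh.structureModule V)).obj
  let i : InducedCategory V.Opens (fun W : V.affineOpens => W.1) ⥤ V.Opens := inducedFunctor _
  let α : i.op ⋙ P ⟶ i.op ⋙ P :=
    { app := fun W => AddCommGrpCat.ofHom (δ W.unop)
      naturality := fun W W' f => by
        let r : Γ(V, W.unop.1) →+* Γ(V, W'.unop.1) := (V.presheaf.map (i.map f.unop).op).hom
        have hr : ∀ a, r (ρW A V W.unop.1 a) = ρW A V W'.unop.1 a := res_ρW A V (leOfHom (i.map f.unop))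
        refine AddCommGrpCat.hom_ext ?_
        show (δ W'.unop).comp r.toAddMonoidHom = r.toAddMonoidHom.comp (δ W.unop)
        refine ext_unique (ρW A V W.unop.1) θ
          (formallyUnramified_of_formallyEtale (ρW_formallyEtale A V W.unop.2)) r ⟨fun b c => ?_, fun a => ?_⟩
          ⟨fun b c => ?_, fun a => ?_⟩
        · show δ W'.unop (r (b * c)) = _
          rw [map_mul, (hδ W'.unop).leibniz]; rfl
        · show δ W'.unop (r (ρW A V W.unop.1 a)) = _
          rw [hr, (hδ W'.unop).base, hr]; rfl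
        · show r (δ W.unop (b * c)) = _
          rw [(hδ W.unop).leibniz, map_add, map_mul, map_mul]; rfl
        · show r (δ W.unop (ρW A V W.unop.1 a)) = _
          rw [(hδ W.unop).base]; rfl }
  let T : TopCat.Sheaf AddCommGrpCat.{u} V.toTopCat := Coh.toAb (Coh.structureModule V)
  let β : P ⟶ P := TopCat.Sheaf.restrictHomEquivHom P T basis α
  have hβ : ∀ W : V.affineOpens, β.app (op W.1) = α.app (op W) := fun W =>
    TopCat.Sheaf.extend_hom_app P T basis α W
  refine ⟨⟨β⟩, fun a => Sheaf.hom_ext ?_⟩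
  refine TopCat.Sheaf.hom_ext (F := P) (F' := T) basis fun W => AddCommGrpCat.hom_ext (AddMonoidHom.ext fun (x : Γ(V, W.1)) => ?_)
  let bW : Γ(V, W.1) → Γ(V, W.1) := fun y => (β.app (op W.1)).hom y
  show bW (ρW A V W.1 a * x) = ρW A V W.1 (θ a) * x + ρW A V W.1 a * bW x
  rw [show bW = fun y => δ W y from funext fun y => (congrArg (fun f => f.hom y) (hβ W) : _)]
  show δ W (ρW A V W.1 a * x) = ρW A V W.1 (θ a) * x + ρW A V W.1 a * δ W x
  rw [(hδ W).leibniz, (hδ W).base]
  show ρW A V W.1 a * δ W x + x * ρW A V W.1 (θ a) = _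
  ring

omit θ in
theorem op_identity {X : Scheme.{u}} {F : Sheaf (Opens.grothendieckTopology X) AddCommGrpCat.{u}}
    (S S' Θ : F ⟶ F) (h : S ≫ Θ = S' + Θ ≫ S) (i : ℕ) (ξ : Sheaf.H F i) :
    Sheaf.H.map Θ i (Sheaf.H.map S i ξ) = Sheaf.H.map S' i ξ + Sheaf.H.map S i (Sheaf.H.map Θ i ξ) := by
  rw [← Sheaf.H.map_comp_apply, ← Sheaf.H.map_comp_apply, ← Sheaf.H.map_add_apply, h]

theorem exists_op (i : ℕ) :
    ∃ D : Coh.HH V (Coh.structureModule V) i →+ Coh.HH V (Coh.structureModule V) i,
      ∀ (a : A) (ξ : Coh.HH V (Coh.structureModule V) i), D (a • ξ) = θ a • ξ + a • D ξ := by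
  obtain ⟨Θ, hΘ⟩ := exists_sheafOp (V := V) θ
  exact ⟨Sheaf.H.map Θ i, fun a ξ => op_identity (Coh.smulAb (Coh.structureModule V) _)
    (Coh.smulAb (Coh.structureModule V) _) Θ (hΘ a) i ξ⟩

end Groth.Agent.LocDual54.EtaleDeriv
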