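import Groth.Agent.LocDual54.HTKill
import Groth.Agent.LocDual54.DualKill
import Groth.Agent.LC.Finiteness

/-!
# Faltings' annihilator and finiteness theorems over a ring with a dualizing complex
-/

universe u

open CategoryTheory CategoryTheory.Limits IsLocalRing

namespace Groth.Agent.LocDual54

open Groth.Agent.LC

attribute [local instance] HasDerivedCategory.standard

variable {A : Type u} [CommRing A] [IsNoetherianRing A]

section Finite

variable {T : Set (PrimeSpectrum A)} (M : ModuleCat.{u} A) (J : Ideal A) (n : ℕ)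
  (hJT : PrimeSpectrum.zeroLocus (J : Set A) ⊆ T)
  (hoff : ∀ q ∈ T, ¬ J ≤ q.asIdeal → ∀ l ≤ n, KillAt (1 : A) l M q.asIdeal)

omit [IsNoetherianRing A] in
theorem zeroLocus_pow_subset' {I : Ideal A} (h : PrimeSpectrum.zeroLocus (I : Set A) ⊆ T) (m : ℕ) :
    PrimeSpectrum.zeroLocus ((I ^ m : Ideal A) : Set A) ⊆ T := by
  rcases m with _ | m
  · simp [Ideal.one_eq_top]
  · exact zeroLocus_pow_subset h (by omega)

include hoff in
/-- Shrinking the ideal inside `T` does not change `H^l`. -/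
theorem HmapOfLE_bijective (l : ℕ) (hl : l ≤ n) (J₁ : Ideal A) (h₁ : J₁ ≤ J)
    (h₁T : PrimeSpectrum.zeroLocus (J₁ : Set A) ⊆ T) :
    Function.Bijective ((Dual2.HmapOfLE h₁ l).app M).hom := by
  obtain ⟨g, hg⟩ := IsNoetherian.noetherian J
  have main : ∀ (xs : List A), (∀ x ∈ xs, x ∈ J) → ∀ (J' : Ideal A) (hJ' : J' ≤ J), J₁ ≤ J' →
      J ≤ J' ⊔ Ideal.ofList xs → Function.Bijective ((Dual2.HmapOfLE hJ' l).app M).hom := by
    intro xs
    induction xs with
    | nil =>
      intro _ J' hJ' _ hJ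
      rw [Ideal.ofList_nil, sup_bot_eq] at hJ
      refine ⟨(injective_iff_map_eq_zero _).2 fun z hz => HmapOfLE_self hJ' hJ l M hz, ?_⟩
      obtain rfl := le_antisymm hJ' hJ
      intro z
      obtain ⟨m, x, rfl⟩ := exists_toH J' l z
      refine ⟨toH J' l M m x, ?_⟩
      rw [HmapOfLE_toH]
      refine congrArg (toH J' l M m) ?_
      rw [show qLE hJ' m = 𝟙 _ from ModuleCat.hom_ext (Submodule.linearMap_qext _ rfl), Abelian.Ext.mk₀_id_comp]
    | cons x xs ih =>
      intro hxs J' hJ' hle hJ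
      have hx : x ∈ J := hxs x List.mem_cons_self
      have h' : J' ⊔ Ideal.span {x} ≤ J := sup_le hJ' ((Ideal.span_singleton_le_iff_mem _).2 hx)
      have hb := ih (fun y hy => hxs y (List.mem_cons_of_mem _ hy)) _ h' (hle.trans le_sup_left)
        (by rwa [sup_assoc, ← Ideal.ofList_cons])
      have hvan : ∀ m ≤ n, Subsingleton ((localCohomology J' m).obj ((locF x).obj M)) := fun m hm =>
        subsingleton_H_of_forall m _ J' fun q hq hJq => by
          let φ := LocalizedModule.mkLinearMap (Submonoid.powers x) M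
          by_cases hxq : x ∈ q
          · exact killAt_of_bijective _ m (N := (locF x).obj M) q hxq
              ((Module.End.isUnit_iff _).1 (IsLocalizedModule.map_units φ ⟨x, Submonoid.mem_powers x⟩))
          · refine (killAt_of_localized (S := Submonoid.powers x)
              (N := LocalizedModule (Submonoid.powers x) M) φ q (Submonoid.powers_le.2 hxq)).2 ?_
            exact hoff ⟨q, hq⟩ (h₁T (hle.trans hJq)) (fun hJq' => hxq (hJq' hx)) m hm
      have hsup : Function.Bijective (supH x J' l M) := by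
        constructor
        · rcases l with _ | l
          · exact supH_zero_injective x J' M
          · obtain ⟨δ, -, hδ⟩ := exists_δloc x J' l M
            have := hvan l (by omega)
            exact (injective_iff_map_eq_zero _).2 fun z hz => by
              obtain ⟨v, rfl⟩ := (hδ z).1 hz
              rw [Subsingleton.elim v 0, map_zero]
        · intro z
          have := hvan l hl
          exact (exact_supH_locH x J' l M z).1 (Subsingleton.elim _ _)
      refine (congrArg Function.Bijective (funext fun z => ?_)).mp (hsup.comp hb)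
      exact HmapOfLE_comp le_sup_left h' l M z
  refine main g.toList (fun x hx => hg ▸ Submodule.subset_span (Finset.mem_toList.1 hx)) J₁ h₁ le_rfl ?_
  rw [show Ideal.ofList g.toList = J by
    rw [← hg]; exact congrArg Ideal.span (Set.ext fun z => Finset.mem_toList)]
  exact le_sup_right

include hJT hoff in
/-- In low degrees `H^l_T` is `H^l_J`. -/
theorem nonempty_HT_equiv (l : ℕ) (hl : l ≤ n) :
    Nonempty ((localCohomology J l).obj M ≃ₗ[A] Dual2.HT T l M) := by
  obtain ⟨Φ, hΦ⟩ := exists_descH J l (M := M)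
    (fun m => toHT l M (idx (J ^ m) (zeroLocus_pow_subset' hJT m))) fun m k h x => by
      exact toHT_pull l M (J := idx (J ^ m) _) (J' := idx (J ^ k) _) (Ideal.pow_le_pow_right h) x
  refine ⟨LinearEquiv.ofBijective Φ ⟨(injective_iff_map_eq_zero _).2 fun z hz => ?_, fun y => ?_⟩⟩
  · obtain ⟨m, x, rfl⟩ := exists_toH J l z
    rw [hΦ] at hz
    obtain ⟨J', hJ', h0⟩ := (toHT_eq_zero_iff l M _).1 hz
    have hle : J'.obj ⊓ J ≤ J := inf_le_right
    have hbij := HmapOfLE_bijective M J n hoff l hl (J'.obj ⊓ J) hle (zeroLocus_inf_subset J'.2 hJT)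
    refine hbij.1 (Eq.trans ?_ (map_zero _).symm)
    rw [HmapOfLE_toH, toH_eq_zero_iff]
    refine ⟨m + 1, by omega, ?_⟩
    have hle' : (J'.obj ⊓ J) ^ (m + 1) ≤ J'.obj := (Ideal.pow_le_self (by omega)).trans inf_le_left
    have h1 := congrArg (pull l M hle') h0
    rw [map_zero] at h1
    refine Eq.trans ?_ h1
    refine Eq.trans ?_ (pull_pull l M hle' hJ' x).symm
    show (Abelian.Ext.mk₀ (qMap (J'.obj ⊓ J) (show m ≤ m + 1 by omega))).comp
      ((Abelian.Ext.mk₀ (qLE hle m)).comp x (zero_add l)) (zero_add l) = (Abelian.Ext.mk₀ _).comp x (zero_add l)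
    rw [← Abelian.Ext.comp_assoc _ _ _ (zero_add 0) (zero_add l) (by simp), Abelian.Ext.mk₀_comp_mk₀]
    congr 2
    exact ModuleCat.hom_ext (Submodule.linearMap_qext _ rfl)
  · obtain ⟨J₂, x₂, rfl⟩ := exists_toHT l M y
    let J₁ : Ideal A := J₂.obj ⊓ J
    have hJ₁T := zeroLocus_inf_subset J₂.2 hJT
    let x₁ : Abelian.Ext (qObj J₁ 1) M l := pull l M ((pow_one J₁).le.trans inf_le_left) x₂
    obtain ⟨w, hw⟩ := (HmapOfLE_bijective M J n hoff l hl J₁ inf_le_right hJ₁T).2 (toH J₁ l M 1 x₁)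
    obtain ⟨k, hk, v, rfl⟩ := exists_toH_of_le J l w 1
    refine ⟨toH J l M k v, ?_⟩
    rw [HmapOfLE_toH, ← toH_res J₁ l hk x₁, ← sub_eq_zero, ← map_sub, toH_eq_zero_iff] at hw
    obtain ⟨m, hm, h0⟩ := hw
    rw [map_sub, sub_eq_zero] at h0
    rw [hΦ]
    have hmk : J₁ ^ m ≤ J ^ k := (Ideal.pow_le_pow_right hm).trans (Ideal.pow_right_mono inf_le_right k)
    have hm2 : J₁ ^ m ≤ J₂.obj := (Ideal.pow_le_self (by omega)).trans inf_le_left
    refine (toHT_pull l M (J := idx (J ^ k) (zeroLocus_pow_subset' hJT k))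
        (J' := idx (J₁ ^ m) (zeroLocus_pow_subset' hJ₁T m)) hmk v).symm.trans (Eq.trans ?_
      (toHT_pull l M (J := J₂) (J' := idx (J₁ ^ m) (zeroLocus_pow_subset' hJ₁T m)) hm2 x₂))
    refine congrArg (toHT l M _) ?_
    have hl1 : (res J₁ hm l M) ((Abelian.Ext.mk₀ (qLE (show J₁ ≤ J from inf_le_right) k)).comp v (zero_add l)) =
        pull l M hmk v := by
      show (Abelian.Ext.mk₀ (qMap J₁ hm)).comp ((Abelian.Ext.mk₀ (qLE _ k)).comp v (zero_add l)) (zero_add l) =
        (Abelian.Ext.mk₀ (idxMap hmk)).comp v (zero_add l)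
      rw [← Abelian.Ext.comp_assoc _ _ _ (zero_add 0) (zero_add l) (by simp), Abelian.Ext.mk₀_comp_mk₀]
      congr 2
      exact ModuleCat.hom_ext (Submodule.linearMap_qext _ rfl)
    have hr1 : (res J₁ hm l M) ((res J₁ hk l M) x₁) = pull l M hm2 x₂ := by
      rw [res_res]
      exact pull_pull l M _ ((pow_one J₁).le.trans inf_le_left) x₂
    exact hl1.symm.trans (h0.trans hr1)

end Finite

omit [IsNoetherianRing A] in
theorem exists_ideal_smul_HT {T : Set (PrimeSpectrum A)} (l : ℕ) (M : ModuleCat.{u} A) (y : Dual2.HT T l M) :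
    ∃ J : Ideal A, PrimeSpectrum.zeroLocus (J : Set A) ⊆ T ∧ ∀ a ∈ J, a • y = 0 := by
  obtain ⟨J, x, rfl⟩ := exists_toHT l M y
  refine ⟨J.obj, J.2, fun a ha => ?_⟩
  have h0 : a • 𝟙 (idxObj J) = 0 := ModuleCat.hom_ext (Submodule.linearMap_qext _ (LinearMap.ext fun z =>
    (Submodule.Quotient.mk_smul _ a z).symm.trans ((Submodule.Quotient.mk_eq_zero _).2 (Ideal.mul_mem_right z J.obj ha))))
  have h1 : a • x = 0 := by
    conv_lhs => rw [← Abelian.Ext.mk₀_id_comp x, ← Abelian.Ext.smul_comp, ← Abelian.Ext.mk₀_smul, h0,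
      Abelian.Ext.mk₀_zero, Abelian.Ext.zero_comp]
  exact (map_smul (toHT l M J) a x).symm.trans ((congrArg (toHT l M J) h1).trans (map_zero _))

/-- Finiteness of `H^l_T` is annihilation by an ideal inside `T`. -/
theorem finite_HT_iff {T : Set (PrimeSpectrum A)} (hT : StableUnderSpecialization T) (M : Type u) [AddCommGroup M]
    [Module A M] [Module.Finite A M] (n : ℕ) :
    (∀ i : ℕ, i ≤ n → Module.Finite A (Dual2.HT T i M)) ↔ ∃ J : Ideal A, PrimeSpectrum.zeroLocus (J : Set A) ⊆ T ∧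
      ∀ i : ℕ, i ≤ n → ∀ a ∈ J, ∀ x : Dual2.HT T i M, a • x = 0 := by
  classical
  constructor
  · intro hfin
    have key : ∀ i ≤ n, ∃ J : Ideal A, PrimeSpectrum.zeroLocus (J : Set A) ⊆ T ∧
        ∀ a ∈ J, ∀ x : Dual2.HT T i M, a • x = 0 := by
      intro i hi
      have := hfin i hi
      obtain ⟨g, hg⟩ := Module.Finite.fg_top (R := A) (M := Dual2.HT T i M)
      choose I hI hIk using fun y : Dual2.HT T i M => exists_ideal_smul_HT i (ModuleCat.of A M) y
      refine ⟨g.inf I, ?_, fun a ha x => ?_⟩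
      · refine Finset.inf_induction (p := fun J : Ideal A => PrimeSpectrum.zeroLocus (J : Set A) ⊆ T) (by simp)
          (fun J hJ J' hJ' => zeroLocus_inf_subset hJ hJ') fun y _ => hI y
      · have hx : x ∈ Submodule.span A (g : Set (Dual2.HT T i M)) := hg ▸ Submodule.mem_top
        induction hx using Submodule.span_induction with
        | mem y hy => exact hIk y a ((Finset.inf_le hy : g.inf I ≤ I y) ha)
        | zero => exact smul_zero a
        | add u v _ _ hu hv => rw [smul_add, hu, hv, add_zero]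
        | smul r u _ hu => rw [smul_comm, hu, smul_zero]
    choose! J hJ hJk using key
    refine ⟨(Finset.range (n + 1)).inf J, ?_, fun i hi a ha x =>
      hJk i hi a ((Finset.inf_le (Finset.mem_range.2 (Nat.lt_succ_of_le hi)) : (Finset.range (n + 1)).inf J ≤ J i) ha) x⟩
    exact Finset.inf_induction (p := fun I : Ideal A => PrimeSpectrum.zeroLocus (I : Set A) ⊆ T) (by simp)
      (fun I hI I' hI' => zeroLocus_inf_subset hI hI') fun i hi => hJ i (Nat.le_of_lt_succ (Finset.mem_range.1 hi))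
  · rintro ⟨J, hJT, hJ⟩ i hi
    have hoff : ∀ q ∈ T, ¬ J ≤ q.asIdeal → ∀ l ≤ n, KillAt (1 : A) l (ModuleCat.of A M) q.asIdeal := by
      intro q hq hJq l hl z
      obtain ⟨c, hc, hcq⟩ := SetLike.not_le_iff_exists.1 hJq
      obtain ⟨N, hN⟩ := exists_killAt_of_smul_HT hT (ModuleCat.of A M) c n (fun l hl => hJ l hl c hc) (ht q)
      have hu : IsUnit (algebraMap A (Localization.AtPrime q.asIdeal) (c ^ N)) :=
        IsLocalization.map_units _ (⟨c ^ N, q.asIdeal.primeCompl.pow_mem hcq N⟩ : q.asIdeal.primeCompl)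
      rw [hu.smul_eq_zero.1 (hN q hq le_rfl l hl z), smul_zero]
    have heq := fun l hl => nonempty_HT_equiv (ModuleCat.of A M) J n hJT hoff l hl
    obtain ⟨e⟩ := heq i hi
    have := finite_H_of_kill J n M J Ideal.le_radical (fun l hl a ha z => by
      obtain ⟨e'⟩ := heq l hl
      exact e'.injective (by rw [map_smul, hJ l hl a ha, map_zero])) i hi
    exact Module.Finite.equiv e

variable {ω : Dual.D A}

open Groth.Agent.KFlatLib in
/-- A power of `f` kills all `H^l_J` with `V(J)` in the set. -/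
theorem exists_pow_kill_global (hω : Dual.IsDualizing A ω) (M : ModuleCat.{u} A) (f : A)
    (V : Set (PrimeSpectrum A)) (s : ℕ) (hk : ∀ q ∈ V, ∀ l ≤ s, KillAt f l M q.asIdeal) :
    ∃ d : ℕ, ∀ J : Ideal A, PrimeSpectrum.zeroLocus (J : Set A) ⊆ V →
      ∀ l ≤ s, ∀ z : (localCohomology J l).obj M, f ^ d • z = 0 := by
  obtain ⟨n, -, -, hmono, a, b, hab⟩ := exists_extDegree hω
  refine ⟨1 * (b + 1 - a).toNat, fun J hJ l hl => pow_kill_of_killAt f l 1 M (fun q => (b + 1 - n q).toNat)
    (fun p q hpq => Or.inl ?_) _ J fun q hq => ⟨?_, ?_, fun h0 => absurd h0 ?_⟩⟩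
  · have := hmono hpq
    have := hab p
    have := hab q
    omega
  · have := hab q
    omega
  · rw [pow_one]
    exact hk q (hJ hq) l hl
  · have := hab q
    omega

/-- Faltings' annihilator theorem. -/
theorem annihilator_HT_iff (hω : Dual.IsDualizing A ω) {T T' : Set (PrimeSpectrum A)}
    (hT : StableUnderSpecialization T) (hT' : StableUnderSpecialization T') (s : ℕ) (M : Type u) [AddCommGroup M]
    [Module A M] [Module.Finite A M] :
    (∃ J : Ideal A, PrimeSpectrum.zeroLocus (J : Set A) ⊆ T' ∧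
      ∀ i : ℕ, i ≤ s → ∀ a ∈ J, ∀ x : Dual2.HT T i M, a • x = 0) ↔
    (∀ p q : PrimeSpectrum A, p ∉ T' → q ∈ T → p ≤ q → (s : WithBot ℕ∞) <
      ((LocCoh.depth (Localization.AtPrime p.asIdeal) (LocalizedModule p.asIdeal.primeCompl M) : ℕ∞) : WithBot ℕ∞) +
        Order.krullDim (Set.Icc p q)) := by
  constructor
  · rintro ⟨J, hJ, hk⟩ p q hp hq hpq
    obtain ⟨c, hc, hcp⟩ := SetLike.not_le_iff_exists.1 (show ¬ J ≤ p.asIdeal from fun h => hp (hJ h))
    obtain ⟨N, hN⟩ := exists_killAt_of_smul_HT hT (ModuleCat.of A M) c s (fun l hl => hk l hl c hc) (ht q)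
    exact lt_depth_add_of_killAt hω M p q hpq s _ (p.asIdeal.primeCompl.pow_mem hcp N) (hN q hq le_rfl)
  · intro h
    let K : Ideal A := ⨅ (i : ℕ) (_ : i ≤ s), Module.annihilator A (Dual2.HT T i M)
    refine ⟨K, fun p hKp => ?_, fun i hi a ha => Module.mem_annihilator.1 ((iInf₂_le i hi : K ≤ _) ha)⟩
    by_contra hp
    obtain ⟨f, hf, hk⟩ := exists_killAt hω M p T s fun p' q hp' hq hle =>
      h p' q (fun hmem => hp (hT' ((PrimeSpectrum.le_iff_specializes p' p).1 hp') hmem)) hq hle
    obtain ⟨d, hd⟩ := exists_pow_kill_global hω (ModuleCat.of A M) f T s hk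
    have hmem : f ^ d ∈ K := (Submodule.mem_iInf _).2 fun i => (Submodule.mem_iInf _).2 fun hi =>
      Module.mem_annihilator.2 (smul_HT_eq_zero i (ModuleCat.of A M) (f ^ d) fun J hJ => hd J hJ i hi)
    exact p.asIdeal.primeCompl.pow_mem hf d (hKp hmem)

end Groth.Agent.LocDual54
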