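import Groth.Agent.LocDual54.Faltings
import Groth.Agent.LC.FiniteCrit
import Groth.Agent.LC.CohAcyclic
import Groth.Agent.LC.DepthLoc
import Groth.Agent.Alg6.LocLoc
import Groth.Agent.Hensel.DepthFlat
import Groth.Agent.FormCat.Descent

/-!
# Finiteness of local cohomology up to a degree and the cutoff invariant
-/

set_option linter.style.haveILetI false

universe u

open CategoryTheory IsLocalRing

open scoped TensorProduct

namespace Groth.Agent.LocDual54

open Groth.Agent.LC

attribute [local instance] HasDerivedCategory.standard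

variable {A : Type u} [CommRing A] [IsNoetherianRing A] (I : Ideal A)

/-- Local cohomology is finite up to degree `n`. -/
def FinTo (M : Type u) [AddCommGroup M] [Module A M] (n : ℕ) : Prop :=
  ∀ i ≤ n, Module.Finite A ((localCohomology I i).obj (ModuleCat.of A M))

omit [IsNoetherianRing A] in
theorem finTo_congr {M N : Type u} [AddCommGroup M] [Module A M] [AddCommGroup N] [Module A N] (e : M ≃ₗ[A] N)
    (n : ℕ) : FinTo I M n ↔ FinTo I N n :=
  forall₂_congr fun i _ => Module.Finite.equiv_iff ((localCohomology I i).mapIso e.toModuleIso).toLinearEquiv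

theorem depth_localized_congr {M N : Type u} [AddCommGroup M] [Module A M] [AddCommGroup N] [Module A N]
    (e : M ≃ₗ[A] N) (p : Ideal A) [p.IsPrime] :
    LocCoh.depth (Localization.AtPrime p) (LocalizedModule p.primeCompl M) =
      LocCoh.depth (Localization.AtPrime p) (LocalizedModule p.primeCompl N) :=
  Hensel.depth_congr (IsLocalizedModule.mapEquiv p.primeCompl (LocalizedModule.mkLinearMap _ _)
    (LocalizedModule.mkLinearMap _ _) (Localization.AtPrime p) e)

theorem cutoff_congr {M N : Type u} [AddCommGroup M] [Module A M] [AddCommGroup N] [Module A N]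
    (e : M ≃ₗ[A] N) : Dual2.cutoff A I M = Dual2.cutoff A I N := by
  unfold Dual2.cutoff
  simp only [depth_localized_congr e]

omit [IsNoetherianRing A] in
theorem lt_cutoff_iff {M : Type u} [AddCommGroup M] [Module A M] (n : ℕ) :
    (n : ℕ∞) < Dual2.cutoff A I M ↔ ∀ (p q : PrimeSpectrum A) (h : p ≤ q), ¬ I ≤ p.asIdeal → I ≤ q.asIdeal →
      (n : ℕ∞) < LocCoh.depth (Localization.AtPrime p.asIdeal) (LocalizedModule p.asIdeal.primeCompl M) +
        Order.height (⟨q, h⟩ : Set.Ici p) := by
  simp only [Dual2.cutoff, lt_iInf_nat_iff]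

omit [IsNoetherianRing A] in
theorem cutoff_le {M : Type u} [AddCommGroup M] [Module A M] (p q : PrimeSpectrum A) (h : p ≤ q)
    (hp : ¬ I ≤ p.asIdeal) (hq : I ≤ q.asIdeal) :
    Dual2.cutoff A I M ≤ LocCoh.depth (Localization.AtPrime p.asIdeal) (LocalizedModule p.asIdeal.primeCompl M) +
        Order.height (⟨q, h⟩ : Set.Ici p) :=
  (iInf_le _ p).trans ((iInf_le _ q).trans ((iInf_le _ h).trans ((iInf_le _ hp).trans (iInf_le _ hq))))

omit [IsNoetherianRing A] in
/-- Height in the upper set is the dimension of the interval. -/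
theorem height_Ici_eq_krullDim {p q : PrimeSpectrum A} (h : p ≤ q) :
    ((Order.height (⟨q, h⟩ : Set.Ici p) : ℕ∞) : WithBot ℕ∞) = Order.krullDim (Set.Icc p q) := by
  rw [Order.height_eq_krullDim_Iic]
  exact Order.krullDim_eq_of_orderIso
    { toFun := fun x => ⟨x.1.1, x.1.2, x.2⟩
      invFun := fun x => ⟨⟨x.1, x.2.1⟩, x.2.2⟩
      left_inv := fun _ => rfl
      right_inv := fun _ => rfl
      map_rel_iff' := Iff.rfl }

/-- The finiteness theorem over a ring with a dualizing complex. -/
theorem finTo_iff_lt_cutoff_of_dualizing {ω : Dual.D A} (hω : Dual.IsDualizing A ω) (M : Type u) [AddCommGroup M]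
    [Module A M] [Module.Finite A M] (n : ℕ) : FinTo I M n ↔ (n : ℕ∞) < Dual2.cutoff A I M := by
  have hT : StableUnderSpecialization (PrimeSpectrum.zeroLocus (I : Set A)) :=
    (PrimeSpectrum.isClosed_zeroLocus _).stableUnderSpecialization
  have hHT : FinTo I M n ↔ ∀ i : ℕ, i ≤ n → Module.Finite A (Dual2.HT (PrimeSpectrum.zeroLocus (I : Set A)) i M) :=
    forall₂_congr fun i hi => by
      obtain ⟨e⟩ := nonempty_HT_equiv (T := PrimeSpectrum.zeroLocus (I : Set A)) (ModuleCat.of A M) I n subset_rfl
        (fun q hq hIq => absurd hq hIq) i hi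
      exact Module.Finite.equiv_iff e
  rw [hHT, (finite_HT_iff hT M n).trans (annihilator_HT_iff hω hT hT n M), lt_cutoff_iff]
  refine forall₂_congr fun p q => ⟨fun h hpq hp hq => ?_, fun h hp hq hpq => ?_⟩
  · have := h hp hq hpq
    rw [← height_Ici_eq_krullDim hpq, ← WithBot.coe_add] at this
    exact WithBot.coe_lt_coe.1 this
  · rw [← height_Ici_eq_krullDim hpq, ← WithBot.coe_add]
    exact WithBot.coe_lt_coe.2 (h hpq hp hq)

/-- Finiteness is local on `V(I)`. -/
theorem finTo_iff_localizations (M : Type u) [AddCommGroup M] [Module A M] [Module.Finite A M] (n : ℕ) :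
    FinTo I M n ↔ ∀ q : PrimeSpectrum A, I ≤ q.asIdeal →
      FinTo (I.map (algebraMap A (Localization.AtPrime q.asIdeal))) (LocalizedModule q.asIdeal.primeCompl M) n := by
  constructor
  · intro h q _ i hi
    have := h i hi
    obtain ⟨e⟩ := exists_localizedH I M q.asIdeal i
    exact Module.Finite.equiv_iff e |>.1
      (Module.Finite.of_isLocalizedModule q.asIdeal.primeCompl (LocalizedModule.mkLinearMap _ _))
  · intro h
    refine finite_H_of_locally I n M fun p hp i hi => ?_
    by_cases hIp : I ≤ p
    · obtain ⟨e⟩ := exists_localizedH I M p i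
      exact Module.Finite.equiv_iff e |>.2 (h ⟨p, hp⟩ hIp i hi)
    · have : Subsingleton (LocalizedModule p.primeCompl ((localCohomology I i).obj (ModuleCat.of A M))) :=
        Module.notMem_support_iff.1 fun hs => hIp (le_prime_of_mem_support_H I M (p := ⟨p, hp⟩) hs)
      exact inferInstance

/-- Intervals in an order identified with a principal lower set. -/
theorem krullDim_Icc_of_orderIso {α β : Type*} [PartialOrder α] [PartialOrder β] {r : β} (e : α ≃o Set.Iic r)
    (a b : α) : Order.krullDim (Set.Icc a b) = Order.krullDim (Set.Icc (e a).1 (e b).1) := by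
  let ψ : Set.Icc a b → Set.Icc (e a).1 (e b).1 := fun x => ⟨(e x.1).1, e.monotone x.2.1, e.monotone x.2.2⟩
  have hψ : ∀ x y, ψ x ≤ ψ y ↔ x ≤ y := fun x y => e.le_iff_le
  refine Order.krullDim_eq_of_orderIso (OrderIso.ofSurjective (OrderEmbedding.ofMapLEIff ψ hψ) ?_)
  intro y
  obtain ⟨x, hx⟩ := e.surjective ⟨y.1, y.2.2.trans (e b).2⟩
  have hxy : (e x).1 = y.1 := congrArg Subtype.val hx
  refine ⟨⟨x, e.le_iff_le.1 ?_, e.le_iff_le.1 ?_⟩, Subtype.ext hxy⟩
  · show (e a).1 ≤ (e x).1
    exact hxy ▸ y.2.1
  · show (e x).1 ≤ (e b).1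
    exact hxy ▸ y.2.2

/-- Heights between primes of a localization. -/
theorem height_Ici_localization (r : PrimeSpectrum A) (P Q : PrimeSpectrum (Localization.AtPrime r.asIdeal))
    (h : P ≤ Q) :
    Order.height (⟨Q, h⟩ : Set.Ici P) =
      Order.height (⟨Q.comap (algebraMap A _), Ideal.comap_mono h⟩ :
        Set.Ici (P.comap (algebraMap A (Localization.AtPrime r.asIdeal)))) := by
  refine WithBot.coe_inj.1 ((height_Ici_eq_krullDim h).trans (Eq.trans ?_ (height_Ici_eq_krullDim _).symm))
  exact krullDim_Icc_of_orderIso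
    (IsLocalization.AtPrime.primeSpectrumOrderIso (Localization.AtPrime r.asIdeal) r.asIdeal) P Q

/-- Depth at a prime of a localization. -/
theorem depth_localization (r : PrimeSpectrum A) (P : PrimeSpectrum (Localization.AtPrime r.asIdeal))
    (M : Type u) [AddCommGroup M] [Module A M] :
    LocCoh.depth (Localization.AtPrime P.asIdeal)
        (LocalizedModule P.asIdeal.primeCompl (LocalizedModule r.asIdeal.primeCompl M)) =
      LocCoh.depth (Localization.AtPrime (P.asIdeal.comap (algebraMap A (Localization.AtPrime r.asIdeal))))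
        (LocalizedModule (P.asIdeal.comap (algebraMap A (Localization.AtPrime r.asIdeal))).primeCompl M) :=
  Alg6.depth_locLoc r.asIdeal.primeCompl M P.asIdeal

/-- A pair of primes is seen in the localization at the larger one. -/
theorem lt_pair_of_lt_cutoff_localization (M : Type u) [AddCommGroup M] [Module A M] (n : ℕ)
    (p q : PrimeSpectrum A) (hpq : p ≤ q) (hp : ¬ I ≤ p.asIdeal) (hq : I ≤ q.asIdeal)
    (h : (n : ℕ∞) < Dual2.cutoff (Localization.AtPrime q.asIdeal) (I.map (algebraMap A (Localization.AtPrime q.asIdeal)))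
      (LocalizedModule q.asIdeal.primeCompl M)) :
    (n : ℕ∞) < LocCoh.depth (Localization.AtPrime p.asIdeal) (LocalizedModule p.asIdeal.primeCompl M) +
      Order.height (⟨q, hpq⟩ : Set.Ici p) := by
  let e := IsLocalization.AtPrime.primeSpectrumOrderIso (Localization.AtPrime q.asIdeal) q.asIdeal
  obtain ⟨P, hP⟩ := e.surjective ⟨p, hpq⟩
  obtain ⟨Q, hQ⟩ := e.surjective ⟨q, le_refl q⟩
  have hPp : P.comap (algebraMap A (Localization.AtPrime q.asIdeal)) = p := congrArg Subtype.val hP
  have hQq : Q.comap (algebraMap A (Localization.AtPrime q.asIdeal)) = q := congrArg Subtype.val hQ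
  have hPQ : P ≤ Q := e.le_iff_le.1 (by rw [hP, hQ]; exact hpq)
  have := (lt_cutoff_iff _ n).1 h P Q hPQ (fun hle => hp (by rw [← hPp]; exact Ideal.map_le_iff_le_comap.1 hle))
    (Ideal.map_le_iff_le_comap.2 (by rw [← hQq] at hq; exact hq))
  rw [height_Ici_localization q P Q hPQ, depth_localization q P M] at this
  subst hPp
  have e2 : (⟨Q.comap (algebraMap A (Localization.AtPrime q.asIdeal)), Ideal.comap_mono hPQ⟩ :
      Set.Ici (P.comap (algebraMap A (Localization.AtPrime q.asIdeal)))) = ⟨q, hpq⟩ := Subtype.ext hQq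
  exact lt_of_lt_of_eq this (congrArg _ (congrArg Order.height e2))

/-- The cutoff is local on `V(I)`. -/
theorem lt_cutoff_iff_localizations (M : Type u) [AddCommGroup M] [Module A M] (n : ℕ) :
    (n : ℕ∞) < Dual2.cutoff A I M ↔ ∀ q : PrimeSpectrum A, I ≤ q.asIdeal →
      (n : ℕ∞) < Dual2.cutoff (Localization.AtPrime q.asIdeal) (I.map (algebraMap A (Localization.AtPrime q.asIdeal)))
        (LocalizedModule q.asIdeal.primeCompl M) := by
  simp only [lt_cutoff_iff]
  constructor
  · intro h r hr P Q hPQ hP hQ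
    rw [height_Ici_localization r P Q hPQ, depth_localization r P M]
    have := h (P.comap (algebraMap A (Localization.AtPrime r.asIdeal)))
      (Q.comap (algebraMap A (Localization.AtPrime r.asIdeal))) (Ideal.comap_mono hPQ)
      (fun hle => hP (Ideal.map_le_iff_le_comap.2 hle)) (Ideal.map_le_iff_le_comap.1 hQ)
    exact this
  · intro h p q hpq hp hq
    exact lt_pair_of_lt_cutoff_localization I M n p q hpq hp hq ((lt_cutoff_iff _ n).2 (h q hq))

/-- Finiteness can be checked on the completion of a local ring. -/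
theorem finTo_iff_completion [IsLocalRing A] (M : Type u) [AddCommGroup M] [Module A M] [Module.Finite A M] (n : ℕ) :
    FinTo I M n ↔ FinTo (I.map (algebraMap A (AdicCompletion (maximalIdeal A) A)))
      (AdicCompletion (maximalIdeal A) A ⊗[A] M) n := by
  haveI := FlatLoc6.isNoetherianRing_cpl A
  haveI : Module.FaithfullyFlat A (AdicCompletion (maximalIdeal A) A) := FlatLoc6.faithfullyFlat_cpl A
  refine forall₂_congr fun i _ => ?_
  obtain ⟨e⟩ := exists_baseChange (R' := AdicCompletion (maximalIdeal A) A) I i M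
  rw [← Module.Finite.equiv_iff e]
  exact ⟨fun _ => inferInstance, fun _ =>
    Module.Finite.of_finite_tensorProduct_of_faithfullyFlat (AdicCompletion (maximalIdeal A) A)⟩

end Groth.Agent.LocDual54
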