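import Groth.Agent.QGorRing.LocExt
import Groth.Agent.Dual59.DualizingLoc
import Groth.Agent.FlatLoc6.Supp
import Groth.Agent.FormalFib6.Cplt
import Groth.Agent.LocDual54.DualKill

/-!
# Depth and the degree function along a flat map preserving a dualizing complex
-/

set_option linter.style.haveILetI false
set_option backward.isDefEq.respectTransparency false

universe u

open CategoryTheory CategoryTheory.Limits IsLocalRing

open scoped TensorProduct

namespace Groth.Agent.LocDual54

attribute [local instance] HasDerivedCategory.standard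

open Groth.Agent.KFlatLib

variable {A B : Type u} [CommRing A] [CommRing B] [Algebra A B] [Module.Flat A B]

/-- Flat base change of a module in degree zero. -/
lemma exists_LBase_inD [DTen.HasLBase (algebraMap A B)] (M : Type u) [AddCommGroup M] [Module A M] :
    Nonempty ((DTen.LBase (algebraMap A B)).obj (Dual.inD A M) ≅ Dual.inD B (B ⊗[A] M)) := by
  obtain ⟨_, ⟨e⟩⟩ := exists_LBase_map_iso (B := B) (Dual.inD A M)
  obtain ⟨c⟩ := exists_extendLEquiv (B := B) (ModuleCat.of A M)
  exact ⟨e ≪≫ ((ModuleCat.extendScalars.{u, u, u} (algebraMap A B)).mapDerivedCategorySingleFunctor 0).app _ ≪≫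
    (DerivedCategory.singleFunctor (ModuleCat.{u} B) 0).mapIso c.toModuleIso⟩

variable [IsNoetherianRing A] [IsNoetherianRing B] {ω : Dual.D A}

/-- The support of Ext after flat base change is the preimage of the support. -/
theorem mem_support_hom_baseChange {ω : Dual.D A} [DTen.HasLBase (algebraMap A B)] (hω : Dual.IsDualizing A ω)
    (M : Type u) [AddCommGroup M] [Module A M] [Module.Finite A M] (i : ℤ) (P : PrimeSpectrum B) :
    P ∈ Module.support B (Dual.inD B (B ⊗[A] M) ⟶ ((DTen.LBase (algebraMap A B)).obj ω)⟦i⟧) ↔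
      P.comap (algebraMap A B) ∈ Module.support A (Dual.inD A M ⟶ ω⟦i⟧) := by
  obtain ⟨a, b, -, _, _⟩ := exists_bounds_of_isDualizing hω
  obtain ⟨eM⟩ := exists_LBase_inD (A := A) (B := B) M
  obtain ⟨e⟩ := exists_homBaseChangeLEquiv (B := B) (X := Dual.inD A M) (Y := ω)
    ((Groth.Agent.S6942.result A 0 (Dual.inD A M) M).2.2 inferInstance) a i
  have := finite_hom_module ω a hω.finite_cohomology M i
  obtain ⟨k, f, hf⟩ := Module.Finite.exists_fin' A (Dual.inD A M ⟶ ω⟦i⟧)
  let q := (f.quotKerEquivOfSurjective hf).symm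
  have e' := (Linear.homCongr B eM (Iso.refl _)).symm.trans (e.trans
    (TensorProduct.AlgebraTensorModule.congr (LinearEquiv.refl B B) q))
  rw [e'.support_eq, q.support_eq, FlatLoc6.mem_support_tensor_iff]
  exact and_iff_right (Module.mem_support_iff.2 (LC.selfLoc P.asIdeal.primeCompl).toEquiv.nontrivial)

variable {n : PrimeSpectrum A → ℤ} {n' : PrimeSpectrum B → ℤ}

/-- Depth minus degree is invariant under a flat map preserving the dualizing complex. -/
theorem depth_sub_degree [DTen.HasLBase (algebraMap A B)] (hω : Dual.IsDualizing A ω)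
    (hω' : Dual.IsDualizing B ((DTen.LBase (algebraMap A B)).obj ω)) (hn : IsExtDegree ω n)
    (hn' : IsExtDegree ((DTen.LBase (algebraMap A B)).obj ω) n') (M : Type u) [AddCommGroup M] [Module A M]
    [Module.Finite A M] (P : PrimeSpectrum B) (hP : P.comap (algebraMap A B) ∈ Module.support A M) :
    ∃ k k' : ℕ,
      LocCoh.depth (Localization.AtPrime (P.asIdeal.comap (algebraMap A B)))
        (LocalizedModule (P.asIdeal.comap (algebraMap A B)).primeCompl M) = k ∧
      LocCoh.depth (Localization.AtPrime P.asIdeal) (LocalizedModule P.asIdeal.primeCompl (B ⊗[A] M)) = k' ∧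
      (k' : ℤ) - n' P = k - n (P.comap (algebraMap A B)) := by
  obtain ⟨k, hk, hvan, hnt⟩ := QGorRing.depth_localized_ext hω hn M (P.comap (algebraMap A B)) hP
  have hP' : P ∈ Module.support B (B ⊗[A] M) := (FlatLoc6.mem_support_tensor_iff P).2
    ⟨Module.mem_support_iff.2 (LC.selfLoc P.asIdeal.primeCompl).toEquiv.nontrivial, hP⟩
  obtain ⟨k', hk', hvan', hnt'⟩ := QGorRing.depth_localized_ext hω' hn' (B ⊗[A] M) P hP'
  refine ⟨k, k', hk, hk', ?_⟩
  have h1 : ¬ n' P - k' < n (P.comap (algebraMap A B)) - k := fun h =>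
    hvan' _ h ((mem_support_hom_baseChange hω M _ P).2 hnt)
  have h2 : ¬ n (P.comap (algebraMap A B)) - k < n' P - k' := fun h =>
    hvan _ h ((mem_support_hom_baseChange hω M _ P).1 hnt')
  omega

/-- The residue field at a prime has depth zero. -/
theorem depth_localized_quotient_self {R : Type u} [CommRing R] [IsNoetherianRing R] (p : PrimeSpectrum R) :
    LocCoh.depth (Localization.AtPrime p.asIdeal) (LocalizedModule p.asIdeal.primeCompl (R ⧸ p.asIdeal)) = 0 := by
  have hp : p ∈ Module.support R (R ⧸ p.asIdeal) := by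
    rw [LC.support_quot_self]
    exact (PrimeSpectrum.mem_zeroLocus _ _).2 le_rfl
  have : Nontrivial (LocalizedModule p.asIdeal.primeCompl (R ⧸ p.asIdeal)) := Module.mem_support_iff.1 hp
  have : Module.Finite (Localization.AtPrime p.asIdeal) (LocalizedModule p.asIdeal.primeCompl (R ⧸ p.asIdeal)) :=
    Module.Finite.of_isLocalizedModule p.asIdeal.primeCompl (LocalizedModule.mkLinearMap _ _)
  have h := LC.depth_le_supportDim (R := Localization.AtPrime p.asIdeal)
    (LocalizedModule p.asIdeal.primeCompl (R ⧸ p.asIdeal))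
  have h' : Module.supportDim (Localization.AtPrime p.asIdeal)
      (LocalizedModule p.asIdeal.primeCompl (R ⧸ p.asIdeal)) ≤ 0 := by
    refine Order.krullDim_nonpos_iff_forall_isMax.2 fun x => ?_
    intro y hxy
    have hc : ∀ z : Module.support (Localization.AtPrime p.asIdeal)
        (LocalizedModule p.asIdeal.primeCompl (R ⧸ p.asIdeal)), z.1 = closedPoint _ := fun z => by
      have hz := Dual59.comap_mem_support p (R ⧸ p.asIdeal) z.2
      rw [LC.support_quot_self] at hz
      refine le_antisymm (le_maximalIdeal z.1.isPrime.ne_top) ?_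
      show maximalIdeal _ ≤ z.1.asIdeal
      exact (Localization.AtPrime.map_eq_maximalIdeal).ge.trans (Ideal.map_le_iff_le_comap.2 hz)
    exact le_of_eq (Subtype.ext ((hc y).trans (hc x).symm))
  exact le_antisymm (WithBot.coe_le_coe.1 (h.trans h')) bot_le

/-- Degrees only grow along the map; the difference is the depth of the fibre. -/
theorem degree_comap_le [DTen.HasLBase (algebraMap A B)] (hω : Dual.IsDualizing A ω)
    (hω' : Dual.IsDualizing B ((DTen.LBase (algebraMap A B)).obj ω)) (hn : IsExtDegree ω n)
    (hn' : IsExtDegree ((DTen.LBase (algebraMap A B)).obj ω) n') (P : PrimeSpectrum B) :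
    n (P.comap (algebraMap A B)) ≤ n' P := by
  have hp : P.comap (algebraMap A B) ∈
      Module.support A (A ⧸ (P.comap (algebraMap A B)).asIdeal) := by
    rw [LC.support_quot_self]; exact (PrimeSpectrum.mem_zeroLocus _ _).2 le_rfl
  obtain ⟨k, k', hk, -, he⟩ := depth_sub_degree hω hω' hn hn' _ P hp
  have : k = 0 := by
    have h := depth_localized_quotient_self (P.comap (algebraMap A B))
    exact_mod_cast hk.symm.trans h
  omega

end Groth.Agent.LocDual54
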