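import Groth.Agent.LocDual54.TensorAcyclic
import Groth.Prelude.Def_DRing3
import Mathlib.RingTheory.Flat.FaithfullyFlat.Algebra
import Mathlib.RingTheory.TensorProduct.Pi
import Mathlib.RingTheory.Localization.Away.Basic
import Mathlib.RingTheory.RingHom.Flat

/-!
# `Ext` out of power torsion modules does not change along a flat map which is an isomorphism modulo `I`
-/

universe u

open CategoryTheory CategoryTheory.Limits CategoryTheory.Abelian
open scoped TensorProduct

namespace Groth.Agent.LocDual54

variable {A : Type u} [CommRing A] {I : Ideal A}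

theorem flat_prod' {M N : Type u} [AddCommGroup M] [Module A M] [AddCommGroup N] [Module A N]
    [Module.Flat A M] [Module.Flat A N] : Module.Flat A (M × N) := by
  rw [Module.Flat.iff_rTensor_preserves_injective_linearMap]
  intro P Q _ _ _ _ g hg
  have h1 := Module.Flat.rTensor_preserves_injective_linearMap (M := M) g hg
  have h2 := Module.Flat.rTensor_preserves_injective_linearMap (M := N) g hg
  have key : (TensorProduct.prodRight A A Q M N).toLinearMap.comp (g.rTensor (M × N)) =
      ((g.rTensor M).prodMap (g.rTensor N)).comp (TensorProduct.prodRight A A P M N).toLinearMap :=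
    TensorProduct.ext' fun x mn => by simp
  intro x y hxy
  apply (TensorProduct.prodRight A A P M N).injective
  exact (Function.Injective.prodMap h1 h2) ((LinearMap.congr_fun key x).symm.trans
    ((congrArg _ hxy).trans (LinearMap.congr_fun key y)))

theorem torsionSub_sigma_eq_top {ι : Type u} (L : ι → ModuleCat.{u} A)
    (h : ∀ j, DRing.torsionSub I (L j) = ⊤) : DRing.torsionSub I (↑(∐ L) : Type u) = ⊤ := by
  rw [← Submodule.ker_mkQ (DRing.torsionSub I (↑(∐ L) : Type u)), LinearMap.ker_eq_top]
  have : ModuleCat.ofHom (DRing.torsionSub I (↑(∐ L) : Type u)).mkQ = 0 := Sigma.hom_ext _ _ fun j => by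
    ext x
    exact (Submodule.Quotient.mk_eq_zero _).2
      (DRing.map_mem_torsionSub I (Sigma.ι L j).hom (show x ∈ DRing.torsionSub I (L j) by simp [h j]))
  exact congrArg ModuleCat.Hom.hom this

variable {C : Type u} [AddCommGroup C] [Module A C] [Module.Flat A C]

/-- `Ext^i(L, C ⊗ Q) = 0` for `I`-power torsion `L`, if `C` is flat with `I C = C`. -/
theorem subsingleton_ext_tensor (hI : I.FG) (hC : I • (⊤ : Submodule A C) = ⊤)
    (Q : Type u) [AddCommGroup Q] [Module A Q] (i : ℕ) :
    ∀ (L : ModuleCat.{u} A), LocCoh.IsPowerTorsion I L →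
      Subsingleton (Ext L (ModuleCat.of A (C ⊗[A] Q)) i) := by
  have hkill : ∀ (L : ModuleCat.{u} A) (N : ℕ), (∀ a ∈ I ^ N, ∀ x : L, a • x = 0) → ∀ i,
      Subsingleton (Ext L (ModuleCat.of A (C ⊗[A] Q)) i) := by
    intro L N hN
    obtain ⟨s, hs⟩ := hI
    refine subsingleton_ext_tensor_of_kill hC L N (fun a ha x => hN _ (Ideal.pow_mem_pow ha N) x)
      s.toList (fun f hf => hs ▸ Ideal.subset_span (Finset.mem_toList.1 hf)) Q (le_trans ?_ le_sup_left)
    rw [← hs, Ideal.span_le]
    exact fun f hf => Ideal.subset_span (show f ∈ {r | r ∈ s.toList} from Finset.mem_toList.2 hf)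
  induction i with
  | zero =>
    intro L hL
    choose n hn using hL
    refine subsingleton_of_forall_eq 0 fun z => ?_
    obtain ⟨g, rfl⟩ := (Ext.mk₀_bijective _ _).2 z
    rw [show g = 0 from ModuleCat.hom_ext (LinearMap.ext fun x => ?_), Ext.mk₀_zero]
    let q : ModuleCat.of A (A ⧸ I ^ n x) ⟶ L :=
      ModuleCat.ofHom (Submodule.liftQ (I ^ n x) (LinearMap.toSpanSingleton A L x) fun a ha => hn x a ha)
    have : q ≫ g = 0 := (Ext.mk₀_bijective _ _).1 ((hkill _ (n x) (fun a ha y => by
      obtain ⟨y, rfl⟩ := Ideal.Quotient.mk_surjective y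
      exact Ideal.Quotient.eq_zero_iff_mem.2 (Ideal.mul_mem_right y _ ha)) 0).elim _ _)
    have h1 := congrArg (fun t : ModuleCat.of A (A ⧸ I ^ n x) ⟶ _ => t.hom (Submodule.Quotient.mk 1)) this
    have e : q.hom (Submodule.Quotient.mk 1) = x := one_smul A x
    change g.hom (q.hom (Submodule.Quotient.mk 1)) = 0 at h1
    rw [e] at h1
    exact h1
  | succ i ih =>
    intro L hL
    have hL' := hL
    choose n hn using hL'
    let F : L → ModuleCat.{u} A := fun x => ModuleCat.of A (A ⧸ I ^ n x)
    have hF : ∀ x : L, ∀ a ∈ I ^ n x, ∀ y : F x, a • y = 0 := fun x a ha y => by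
      obtain ⟨y, rfl⟩ := Ideal.Quotient.mk_surjective y
      exact Ideal.Quotient.eq_zero_iff_mem.2 (Ideal.mul_mem_right y _ ha)
    let q : ∀ x : L, F x ⟶ L := fun x =>
      ModuleCat.ofHom (Submodule.liftQ (I ^ n x) (LinearMap.toSpanSingleton A L x) fun a ha => hn x a ha)
    let π : (∐ F) ⟶ L := Sigma.desc q
    have hπ : Function.Surjective π.hom := fun x => by
      refine ⟨(Sigma.ι F x).hom (Submodule.Quotient.mk 1), ?_⟩
      have := congrArg (fun t : F x ⟶ L => t.hom (Submodule.Quotient.mk 1)) (Sigma.ι_desc q x)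
      refine this.trans ?_
      exact one_smul A x
    have hS := LinearMap.shortExact_shortComplexKer hπ
    have hK : LocCoh.IsPowerTorsion I (LinearMap.ker π.hom) := fun y => by
      obtain ⟨k, hk⟩ := (torsionSub_sigma_eq_top (I := I) F (fun x => eq_top_iff.2 fun y _ =>
        ⟨n x, fun a ha => hF x a ha y⟩)).ge (Submodule.mem_top (x := (y : (∐ F : ModuleCat.{u} A))))
      exact ⟨k, fun a ha => Subtype.ext (hk a ha)⟩
    haveI := subsingleton_ext_sigma F (i + 1) (ModuleCat.of A (C ⊗[A] Q))
      fun x => hkill (F x) (n x) (hF x) (i + 1)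
    refine subsingleton_of_forall_eq 0 fun z => ?_
    obtain ⟨w, hw⟩ := Ext.contravariant_sequence_exact₃ hS _ z
      (Subsingleton.elim (α := Ext (∐ F) (ModuleCat.of A (C ⊗[A] Q)) (i + 1)) _ _) (by omega : 1 + i = i + 1)
    rw [← hw, (ih _ hK).elim w 0, Ext.comp_zero]

theorem smul_top_pi_away {ι : Type u} [Finite ι]
    (f : ι → A) (hf : ∀ j, f j ∈ I) :
    I • (⊤ : Submodule A (∀ j, Localization.Away (f j))) = ⊤ := by
  classical
  cases nonempty_fintype ι
  refine eq_top_iff.2 fun x _ => ?_
  rw [← Finset.univ_sum_single x]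
  refine Submodule.sum_mem _ fun j _ => ?_
  have h : Pi.single j (x j) = f j • Pi.single (M := fun j => Localization.Away (f j)) j
      (IsLocalization.Away.invSelf (f j) * x j) := by
    rw [← Pi.single_smul, Algebra.smul_def, ← mul_assoc, IsLocalization.Away.mul_invSelf, one_mul]
  rw [h]
  exact Submodule.smul_mem_smul (hf j) trivial

variable (B : Type u) [CommRing B] [Algebra A B] [Module.Flat A B]

/-- Base change is bijective on `Ext` out of power torsion modules. -/
theorem ext_unit_bijective (hI : I.FG)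
    (hs : Function.Surjective ((Ideal.Quotient.mk (I.map (algebraMap A B))).comp (algebraMap A B)))
    (hk : RingHom.ker ((Ideal.Quotient.mk (I.map (algebraMap A B))).comp (algebraMap A B)) = I)
    (L : ModuleCat.{u} A) (hL : LocCoh.IsPowerTorsion I L) (N : Type u) [AddCommGroup N] [Module A N] (n : ℕ) :
    Function.Bijective fun x : Ext L (ModuleCat.of A N) n =>
      x.comp (Ext.mk₀ (ModuleCat.ofHom (TensorProduct.mk A B N 1))) (add_zero n) := by
  classical
  obtain ⟨s, hsI⟩ := id hI
  let P : Type u := ∀ f : s, Localization.Away (f : A)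
  haveI : Module.Flat A P := by
    haveI : ∀ f : s, Module.Flat A (Localization.Away (f : A)) := fun f =>
      IsLocalization.flat _ (Submonoid.powers (f : A))
    exact Module.Flat.of_linearEquiv
      (DFinsupp.linearEquivFunOnFintype (R := A) (M := fun f : s => Localization.Away (f : A))).symm
  have hsI' : ∀ f : s, (f : A) ∈ I := fun f => hsI ▸ Ideal.subset_span f.2
  have hP : I • (⊤ : Submodule A P) = ⊤ :=
    smul_top_pi_away _ hsI'
  haveI : Module.Flat A (B × P) := flat_prod'
  haveI : Module.FaithfullyFlat A (B × P) := by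
    refine Module.FaithfullyFlat.of_comap_surjective fun p => ?_
    by_cases hp : I ≤ p.asIdeal
    · let φ := (Ideal.Quotient.mk (I.map (algebraMap A B))).comp (algebraMap A B)
      have hker : RingHom.ker φ ≤ p.asIdeal := hk.le.trans hp
      haveI := Ideal.map_isPrime_of_surjective hs hker
      refine ⟨PrimeSpectrum.comap (RingHom.fst B P)
        (PrimeSpectrum.comap (Ideal.Quotient.mk _) ⟨p.asIdeal.map φ, inferInstance⟩), ?_⟩
      refine PrimeSpectrum.ext ?_
      show Ideal.comap φ (p.asIdeal.map φ) = p.asIdeal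
      rw [Ideal.comap_map_of_surjective _ hs, ← RingHom.ker_eq_comap_bot, sup_eq_left.2 hker]
    · have : ¬ (s : Set A) ⊆ p.asIdeal := fun h => hp (hsI ▸ Ideal.span_le.2 h)
      obtain ⟨f, hfs, hfp⟩ := Set.not_subset.1 this
      have hr : p ∈ Set.range (PrimeSpectrum.comap (algebraMap A (Localization.Away f))) := by
        rw [PrimeSpectrum.localization_away_comap_range (Localization.Away f) f]
        exact hfp
      obtain ⟨q, hq⟩ := hr
      refine ⟨PrimeSpectrum.comap ((Pi.evalRingHom (fun f : s => Localization.Away (f : A)) ⟨f, hfs⟩).comp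
        (RingHom.snd B P)) q, ?_⟩
      rw [← hq]
      exact PrimeSpectrum.ext rfl
  let η : N →ₗ[A] (B × P) ⊗[A] N := TensorProduct.mk A (B × P) N 1
  have hη : Function.Injective η := Module.FaithfullyFlat.tensorProduct_mk_injective N
  let R : Submodule A (B × P) := LinearMap.range (Algebra.linearMap A (B × P))
  let C' : Type u := (B × P) ⧸ R
  have hinj : ∀ (M : Type u) [AddCommGroup M] [Module A M],
      Function.Exact (TensorProduct.mk A (B × P) M 1) (R.mkQ.rTensor M) := by
    intro M _ _
    have e := rTensor_exact M (LinearMap.exact_map_mkQ_range (Algebra.linearMap A (B × P)))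
      R.mkQ_surjective
    intro z
    refine (e z).trans ?_
    constructor
    · rintro ⟨w, rfl⟩
      refine ⟨TensorProduct.lid A M w, ?_⟩
      induction w using TensorProduct.induction_on with
      | zero => simp
      | tmul a m => simp [TensorProduct.smul_tmul', Algebra.smul_def]
      | add a b ha hb => simp [map_add, ha, hb]
    · rintro ⟨m, rfl⟩
      exact ⟨(1 : A) ⊗ₜ m, by simp; rfl⟩
  haveI : Module.Flat A C' := by
    rw [Module.Flat.iff_lTensor_preserves_injective_linearMap]
    intro X Y _ _ _ _ g hg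
    rw [injective_iff_map_eq_zero]
    intro z hz
    obtain ⟨w, rfl⟩ := LinearMap.rTensor_surjective X R.mkQ_surjective z
    have h1 : R.mkQ.rTensor Y (g.lTensor (B × P) w) = 0 := by
      refine Eq.trans ?_ hz
      rw [← LinearMap.comp_apply, ← LinearMap.comp_apply, LinearMap.rTensor_comp_lTensor,
        LinearMap.lTensor_comp_rTensor]
    obtain ⟨y, hy⟩ := (hinj Y _).1 h1
    have h2 : (LinearMap.range g).mkQ y = 0 := by
      apply Module.FaithfullyFlat.tensorProduct_mk_injective (A := A) (B := B × P)
      rw [map_zero]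
      show (1 : B × P) ⊗ₜ[A] (LinearMap.range g).mkQ y = 0
      rw [← LinearMap.lTensor_tmul]
      show (LinearMap.range g).mkQ.lTensor (B × P) (TensorProduct.mk A (B × P) Y 1 y) = 0
      rw [hy, ← LinearMap.comp_apply, ← LinearMap.lTensor_comp,
        LinearMap.range_mkQ_comp, LinearMap.lTensor_zero, LinearMap.zero_apply]
    obtain ⟨x, hx⟩ := (Submodule.Quotient.mk_eq_zero _).1 h2
    have : w = (1 : B × P) ⊗ₜ[A] x := by
      apply Module.Flat.lTensor_preserves_injective_linearMap g hg
      rw [LinearMap.lTensor_tmul, hx]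
      exact hy.symm
    rw [this]
    exact ((hinj X) _).2 ⟨x, rfl⟩
  have hC : I • (⊤ : Submodule A C') = ⊤ := by
    refine eq_top_iff.2 fun z _ => ?_
    obtain ⟨⟨b, p⟩, rfl⟩ := R.mkQ_surjective z
    obtain ⟨a, ha⟩ := hs (Ideal.Quotient.mk _ b)
    have hb : b - algebraMap A B a ∈ I • (⊤ : Submodule A B) := by
      rw [Ideal.smul_top_eq_map]
      exact Ideal.Quotient.eq.1 ha.symm
    have h1 : ((b - algebraMap A B a, p - algebraMap A P a) : B × P) ∈ I • (⊤ : Submodule A (B × P)) := by
      have e1 := Submodule.mem_map_of_mem (f := LinearMap.inl A B P) hb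
      have e2 := Submodule.mem_map_of_mem (f := LinearMap.inr A B P)
        (show p - algebraMap A P a ∈ I • (⊤ : Submodule A P) by rw [hP]; trivial)
      rw [Submodule.map_smul''] at e1 e2
      have := Submodule.add_mem _ (Submodule.smul_mono le_rfl le_top e1) (Submodule.smul_mono le_rfl le_top e2)
      simpa using this
    have h2 := Submodule.mem_map_of_mem (f := R.mkQ) h1
    rw [Submodule.map_smul''] at h2
    have h3 : R.mkQ ((b, p) : B × P) = R.mkQ (b - algebraMap A B a, p - algebraMap A P a) := by
      refine (Submodule.Quotient.eq R).2 ⟨a, ?_⟩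
      simp [Prod.ext_iff]
    rw [h3]
    exact Submodule.smul_mono le_rfl le_top h2
  have S1 := shortExact_of_linear (f := η) (g := R.mkQ.rTensor N) hη
    (LinearMap.rTensor_surjective N R.mkQ_surjective) (hinj N)
  have S2 := shortExact_of_linear (f := (LinearMap.inr A B P).rTensor N) (g := (LinearMap.fst A B P).rTensor N)
    (fun x y h => by
      have e : ∀ z, (LinearMap.snd A B P).rTensor N ((LinearMap.inr A B P).rTensor N z) = z := fun z => by
        rw [← LinearMap.comp_apply, ← LinearMap.rTensor_comp, LinearMap.snd_comp_inr, LinearMap.rTensor_id]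
        rfl
      rw [← e x, h, e y])
    (LinearMap.rTensor_surjective N fun b => ⟨(b, 0), rfl⟩)
    (rTensor_exact N Function.Exact.inr_fst fun b => ⟨(b, 0), rfl⟩)
  have hb := (postcomp_g_bijective S2 L (fun i => subsingleton_ext_tensor hI hP N i L hL) n).comp
    (postcomp_f_bijective S1 L (fun i => subsingleton_ext_tensor hI hC N i L hL) n)
  convert hb using 1
  funext x
  rw [Function.comp_apply, Ext.comp_assoc_of_third_deg_zero, Ext.mk₀_comp_mk₀]
  congr 1

end Groth.Agent.LocDual54
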