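import Groth.Agent.LocDual54.GreenleesMay
import Mathlib.Algebra.Homology.HomotopyCategory.MappingCone

/-!
# A perfect test object for local objects
-/

universe u

open CategoryTheory CategoryTheory.Limits CategoryTheory.Pretriangulated

namespace Groth.Agent.LocDual54

attribute [local instance] HasDerivedCategory.standard

variable {A : Type u} [CommRing A]

/-- A bounded complex of finite free modules. -/
structure BddFree (P : CochainComplex (ModuleCat.{u} A) ℤ) : Prop where
  finite : ∀ n, Module.Finite A (P.X n)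
  free : ∀ n, Module.Free A (P.X n)
  bdd : ∃ N : ℕ, ∀ n : ℤ, (n < -(N : ℤ) ∨ (N : ℤ) < n) → IsZero (P.X n)

theorem free_of_isZero {M : ModuleCat.{u} A} (h : IsZero M) : Module.Free A M :=
  haveI := ModuleCat.subsingleton_of_isZero h
  Module.Free.of_subsingleton A M

theorem finite_of_isZero {M : ModuleCat.{u} A} (h : IsZero M) : Module.Finite A M :=
  haveI := ModuleCat.subsingleton_of_isZero h
  Module.Finite.of_surjective (0 : A →ₗ[A] M) (Function.surjective_to_subsingleton _)

theorem bddFree_single : BddFree (A := A)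
    ((HomologicalComplex.single (ModuleCat.{u} A) (ComplexShape.up ℤ) 0).obj (ModuleCat.of A A)) := by
  have hz : ∀ n : ℤ, n ≠ 0 → IsZero (((HomologicalComplex.single (ModuleCat.{u} A) (ComplexShape.up ℤ) 0).obj
      (ModuleCat.of A A)).X n) := fun n hn => HomologicalComplex.isZero_single_obj_X _ _ _ _ hn
  refine ⟨fun n => ?_, fun n => ?_, ⟨0, fun n hn => hz n (by omega)⟩⟩
  · by_cases h : n = 0
    · subst h
      exact Module.Finite.equiv (HomologicalComplex.singleObjXSelf (ComplexShape.up ℤ) 0 (ModuleCat.of A A)).symm.toLinearEquiv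
    · exact finite_of_isZero (hz n h)
  · by_cases h : n = 0
    · subst h
      exact Module.Free.of_equiv (HomologicalComplex.singleObjXSelf (ComplexShape.up ℤ) 0 (ModuleCat.of A A)).symm.toLinearEquiv
    · exact free_of_isZero (hz n h)

open CochainComplex in
theorem bddFree_cone {P Q : CochainComplex (ModuleCat.{u} A) ℤ} (φ : P ⟶ Q) (hP : BddFree P) (hQ : BddFree Q) :
    BddFree (mappingCone φ) := by
  let e : ∀ n : ℤ, ((mappingCone φ).X n : Type u) ≃ₗ[A] (P.X (n + 1) × Q.X n) := fun n =>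
    (HomologicalComplex.homotopyCofiber.XIsoBiprod φ n (n + 1) rfl ≪≫
      ModuleCat.biprodIsoProd _ _).toLinearEquiv
  refine ⟨fun n => ?_, fun n => ?_, ?_⟩
  · have := hP.finite (n + 1)
    have := hQ.finite n
    exact Module.Finite.equiv (e n).symm
  · have := hP.free (n + 1)
    have := hQ.free n
    exact Module.Free.of_equiv (e n).symm
  · obtain ⟨N, hN⟩ := hP.bdd
    obtain ⟨M, hM⟩ := hQ.bdd
    refine ⟨N + M + 1, fun n hn => ?_⟩
    have := ModuleCat.subsingleton_of_isZero (hN (n + 1) (by push_cast at hn; omega))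
    have := ModuleCat.subsingleton_of_isZero (hM n (by push_cast at hn; omega))
    have := (e n).toEquiv.subsingleton
    exact ModuleCat.isZero_of_subsingleton _

/-- No nonzero maps from shifts of `P`. -/
def Perp (P C : Dual.D A) : Prop := ∀ (k : ℤ) (x : P ⟶ C⟦k⟧), x = 0

theorem smul_eq_comp {X Y : Dual.D A} (a : A) (x : X ⟶ Y) : a • x = (a • 𝟙 X) ≫ x := by
  rw [Linear.smul_comp, Category.id_comp]

theorem perp_shift {P C : Dual.D A} (h : Perp P C) (a : ℤ) : Perp P (C⟦a⟧) := fun k x => by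
  rw [← cancel_mono ((shiftFunctorAdd (Dual.D A) a k).app C).inv, zero_comp]
  exact h _ _

theorem hom_shift_eq_zero {P C : Dual.D A} (h : Perp P C) (m : ℤ) (x : P⟦m⟧ ⟶ C) : x = 0 :=
  ((shiftEquiv' (Dual.D A) m (-m) (add_neg_cancel m)).toAdjunction.homEquiv P C).injective
    ((h _ _).trans (h _ _).symm)

theorem homEquiv_shift_smul {P C : Dual.D A} (m n : ℤ) (hmn : m + n = 0) (a : A) (x : P⟦m⟧ ⟶ C) :
    (shiftEquiv' (Dual.D A) m n hmn).toAdjunction.homEquiv P C (a • x) =
      a • (shiftEquiv' (Dual.D A) m n hmn).toAdjunction.homEquiv P C x := by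
  have e : a • x = (shiftFunctor (Dual.D A) m).map (a • 𝟙 P) ≫ x := by
    rw [Functor.map_smul, CategoryTheory.Functor.map_id, Linear.smul_comp, Category.id_comp]
  rw [e]
  refine ((shiftEquiv' (Dual.D A) m n hmn).toAdjunction.homEquiv_naturality_left (a • 𝟙 P) x).trans ?_
  rw [smul_eq_comp a ((shiftEquiv' (Dual.D A) m n hmn).toAdjunction.homEquiv P C x)]

theorem perp_cone {f : A} {P P' : Dual.D A} {g' : P ⟶ P'} {h' : P' ⟶ P⟦(1 : ℤ)⟧}
    (hP : Triangle.mk (f • 𝟙 P) g' h' ∈ distTriang _) {C C' : Dual.D A} {g : C ⟶ C'} {h : C' ⟶ C⟦(1 : ℤ)⟧}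
    (hC : Triangle.mk (f • 𝟙 C) g h ∈ distTriang _) (hperp : Perp P' C) : Perp P C' := by
  have hinj : ∀ D, Perp P' D → ∀ (k : ℤ) (x : P ⟶ D⟦k⟧), f • x = 0 → x = 0 := by
    intro D hD k x hx
    obtain ⟨w, hw⟩ : ∃ w : P' ⟶ D⟦k⟧, x = g' ≫ w :=
      Triangle.yoneda_exact₂ _ hP x (show (f • 𝟙 P) ≫ x = 0 by rw [← smul_eq_comp, hx])
    rw [hw, hD k w, comp_zero]
  have hsurj : ∀ (k : ℤ) (x : P ⟶ C⟦k⟧), ∃ y, f • y = x := by
    intro k x
    obtain ⟨y, hy⟩ : ∃ y : P ⟶ C⟦k⟧, x = (f • 𝟙 P) ≫ y :=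
      Triangle.yoneda_exact₂ _ (inv_rot_of_distTriang _ hP) x (hom_shift_eq_zero (perp_shift hperp k) (-1) _)
    exact ⟨y, by rw [hy, ← smul_eq_comp]⟩
  have hgf : f • g = 0 := by
    have h12 : (f • 𝟙 C) ≫ g = 0 := comp_distTriang_mor_zero₁₂ _ hC
    rwa [← smul_eq_comp] at h12
  intro k x'
  let E := (shiftEquiv' (Dual.D A) (-k) k (neg_add_cancel k)).toAdjunction
  suffices hz : ∀ x : P⟦-k⟧ ⟶ C', x = 0 from eq_zero_of_shift_hom_eq_zero (neg_add_cancel k) hz x'
  intro x
  have hxh : x ≫ h = 0 := by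
    refine (E.homEquiv P (C⟦(1 : ℤ)⟧)).injective ?_
    have hfx : f • (x ≫ h) = 0 := by
      have h31 : h ≫ (f • 𝟙 C)⟦(1 : ℤ)⟧' = 0 := comp_distTriang_mor_zero₃₁ _ hC
      rw [Functor.map_smul, CategoryTheory.Functor.map_id, Linear.comp_smul, Category.comp_id] at h31
      rw [← Linear.comp_smul, h31, comp_zero]
    have hE0 : ∀ Z : Dual.D A, E.homEquiv P Z 0 = 0 := fun Z => by
      simp [E, Adjunction.homEquiv_unit, Functor.map_zero]
    refine Eq.trans ?_ (hE0 _).symm
    refine hinj _ (perp_shift hperp 1) k _ ?_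
    exact (homEquiv_shift_smul (-k) k _ f (x ≫ h)).symm.trans ((congrArg _ hfx).trans (hE0 _))
  obtain ⟨y, hy⟩ : ∃ y : P⟦-k⟧ ⟶ C, x = y ≫ g := Triangle.coyoneda_exact₃ _ hC x hxh
  obtain ⟨y', hy'⟩ := hsurj k (E.homEquiv P C y)
  obtain ⟨y'', rfl⟩ := (E.homEquiv P C).surjective y'
  have hy2 : y = f • y'' := (E.homEquiv P C).injective (hy'.symm.trans (homEquiv_shift_smul (-k) k _ f y'').symm)
  rw [hy, hy2]
  exact (Linear.smul_comp _ _ _ f y'' g).trans ((Linear.comp_smul _ _ _ y'' f g).symm.trans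
    ((congrArg (y'' ≫ ·) hgf).trans comp_zero))

theorem isZero_of_perp_unit {C : Dual.D A}
    (h : Perp (DerivedCategory.Q.obj ((HomologicalComplex.single (ModuleCat.{u} A) (ComplexShape.up ℤ) 0).obj
      (ModuleCat.of A A))) C) : IsZero C := by
  obtain ⟨J, hJ, -, ⟨e⟩⟩ := exists_kinj_rep C
  refine IsZero.of_iso (isZero_of_homology' fun q => IsZero.of_iso ?_ (hdIso J q)) e.symm
  refine @ModuleCat.isZero_of_subsingleton _ _ _ (subsingleton_of_forall_eq 0 fun z => ?_)
  obtain ⟨c, rfl⟩ := exists_cycle J q z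
  let g : (HomologicalComplex.single (ModuleCat.{u} A) (ComplexShape.up ℤ) q).obj (ModuleCat.of A A) ⟶ J :=
    HomologicalComplex.mkHomFromSingle (ModuleCat.ofHom (LinearMap.toSpanSingleton A _ ((J.iCycles q).hom c)))
      (fun k hk => ModuleCat.hom_ext (LinearMap.ext_ring (by
        obtain rfl : q + 1 = k := hk
        show (J.d q (q + 1)).hom ((1 : A) • (J.iCycles q).hom c) = 0
        rw [one_smul, d_iCycles])))
  let i : (HomologicalComplex.single (ModuleCat.{u} A) (ComplexShape.up ℤ) q).obj (ModuleCat.of A A) ≅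
      ((HomologicalComplex.single (ModuleCat.{u} A) (ComplexShape.up ℤ) 0).obj (ModuleCat.of A A))⟦-q⟧ :=
    (((CochainComplex.singleFunctors (ModuleCat.{u} A)).shiftIso (-q) q 0 (neg_add_cancel q)).app _).symm
  have hg : DerivedCategory.Q.map g = 0 := by
    rw [← cancel_epi (DerivedCategory.Q.map i.inv), ← cancel_mono e.hom, comp_zero, zero_comp, Category.assoc,
      ← cancel_epi (((DerivedCategory.Q (C := ModuleCat.{u} A)).commShiftIso (-q)).app _).inv, comp_zero]
    exact hom_shift_eq_zero h (-q) _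
  have h0 : HomologicalComplex.homologyMap g q = 0 := by
    have := (DerivedCategory.homologyFunctorFactors (ModuleCat.{u} A) q).hom.naturality g
    rw [Functor.comp_map, hg, Functor.map_zero, zero_comp] at this
    exact ((cancel_epi _).1 (comp_zero.trans this)).symm
  obtain ⟨c', hc'⟩ := exists_cycles_eq (K := (HomologicalComplex.single (ModuleCat.{u} A) (ComplexShape.up ℤ) q).obj
      (ModuleCat.of A A)) (q := q) ((HomologicalComplex.singleObjXSelf (ComplexShape.up ℤ) q (ModuleCat.of A A)).inv.hom (1 : A))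
    (by simp [HomologicalComplex.single_obj_d])
  have hc : (HomologicalComplex.cyclesMap g q).hom c' = c := iCycles_injective (by
    rw [f_iCycles, hc', HomologicalComplex.mkHomFromSingle_f]
    show ((HomologicalComplex.singleObjXSelf (ComplexShape.up ℤ) q (ModuleCat.of A A)).inv ≫
      (HomologicalComplex.singleObjXSelf (ComplexShape.up ℤ) q (ModuleCat.of A A)).hom ≫
        ModuleCat.ofHom (LinearMap.toSpanSingleton A (J.X q) ((J.iCycles q).hom c))).hom (1 : A) = _
    rw [Iso.inv_hom_id_assoc]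
    exact one_smul A _)
  rw [← hc, ← homologyMap_homologyπ, h0]
  rfl

/-- A test object: vanishing of maps into `C` forces a vanishing iterated cone. -/
theorem exists_test (fs : List A) : ∃ P : CochainComplex (ModuleCat.{u} A) ℤ, BddFree P ∧
    (∀ f ∈ fs, ∃ n : ℕ, f ^ n • 𝟙 (DerivedCategory.Q.obj P) = 0) ∧
      ∀ C, Perp (DerivedCategory.Q.obj P) C → KosZero fs C := by
  induction fs with
  | nil => exact ⟨_, bddFree_single, fun f hf => absurd hf List.not_mem_nil, fun C hC => isZero_of_perp_unit hC⟩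
  | cons f fs ih =>
    obtain ⟨P, hP, hnil, hcrit⟩ := ih
    let φ : P ⟶ P := f • 𝟙 P
    have hφ : DerivedCategory.Q.map φ = f • 𝟙 (DerivedCategory.Q.obj P) := by
      rw [Functor.map_smul, CategoryTheory.Functor.map_id]
    obtain ⟨g', h', hT⟩ : ∃ (g' : DerivedCategory.Q.obj P ⟶ DerivedCategory.Q.obj (CochainComplex.mappingCone φ))
        (h' : DerivedCategory.Q.obj (CochainComplex.mappingCone φ) ⟶ (DerivedCategory.Q.obj P)⟦(1 : ℤ)⟧),
        Triangle.mk (f • 𝟙 (DerivedCategory.Q.obj P)) g' h' ∈ distTriang _ := by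
      refine ⟨(DerivedCategory.Q.mapTriangle.obj (CochainComplex.mappingCone.triangle φ)).mor₂,
        (DerivedCategory.Q.mapTriangle.obj (CochainComplex.mappingCone.triangle φ)).mor₃, ?_⟩
      rw [DerivedCategory.mem_distTriang_iff]
      refine ⟨_, _, φ, ⟨Triangle.isoMk _ _ (Iso.refl _) (Iso.refl _) (Iso.refl _) ?_ ?_ ?_⟩⟩
      · exact (Category.comp_id _).trans (hφ.symm.trans (Category.id_comp _).symm)
      · exact (Category.comp_id _).trans (Category.id_comp _).symm
      · exact (congrArg (_ ≫ ·) (CategoryTheory.Functor.map_id _ _)).trans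
          ((Category.comp_id _).trans (Category.id_comp _).symm)
    refine ⟨CochainComplex.mappingCone φ, bddFree_cone φ hP hP, ?_, fun C hC => ?_⟩
    · intro a ha
      have hn := nilp_cone hT (fs := fs) hnil
      exact hn a ha
    · obtain ⟨C', g, h, hTC⟩ := distinguished_cocone_triangle (f • 𝟙 C)
      exact ⟨C', g, h, hTC, hcrit C' (perp_cone hT hTC hC)⟩

end Groth.Agent.LocDual54
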