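import Groth.Agent.LocDual54.TorsionElem
import Groth.Agent.LocDual54.KoszulTest
import Mathlib.Algebra.Homology.HomotopyCategory.HomComplexCohomology

/-!
# Composites of maps killing cohomology of `Hom(P, -)` kill it after taking torsion parts
-/

universe u

open CategoryTheory CochainComplex.HomComplex

namespace Groth.Agent.LocDual54

variable {A : Type u} [CommRing A]

/-- A cochain with values in `a`-power torsion elements. -/
def ValIn (a : Ideal A) {P E : CochainComplex (ModuleCat.{u} A) ℤ} {q : ℤ} (z : Cochain P E q) : Prop :=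
  ∀ (p p' : ℤ) (h : p + q = p') (x : P.X p), (z.v p p' h).hom x ∈ DRing.torsionSub a (E.X p')

variable {a : Ideal A} {P E E' : CochainComplex (ModuleCat.{u} A) ℤ} {q : ℤ}

theorem valIn_comp {z : Cochain P E q} (hz : ValIn a z) (U : E ⟶ E') :
    ValIn a (z.comp (Cochain.ofHom U) (add_zero q)) := fun p p' h x => by
  rw [Cochain.comp_zero_cochain_v, Cochain.ofHom_v]
  exact DRing.map_mem_torsionSub a (U.f p').hom (hz p p' h x)

theorem valIn_δ {z : Cochain P E q} (hz : ValIn a z) (m : ℤ) (hm : q + 1 = m) : ValIn a (δ q m z) :=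
  fun p p' h x => by
    rw [δ_v q m hm z p p' h (p' - 1) (p + 1) rfl rfl]
    refine Submodule.add_mem _ (DRing.map_mem_torsionSub a (E.d _ _).hom (hz _ _ _ x)) ?_
    show (_ : E.X p') ∈ _
    rw [Units.smul_def]
    exact zsmul_mem (hz _ _ _ ((P.d p (p + 1)).hom x)) _

theorem valIn_smul {z : Cochain P E q} (hz : ValIn a z) (c : A) : ValIn a (c • z) :=
  fun p p' h x => by
    rw [Cochain.smul_v]
    exact Submodule.smul_mem _ c (hz p p' h x)

theorem valIn_sub {z z' : Cochain P E q} (hz : ValIn a z) (hz' : ValIn a z') : ValIn a (z - z') :=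
  fun p p' h x => Submodule.sub_mem _ (hz p p' h x) (hz' p p' h x)

variable [IsNoetherianRing A] in
theorem valIn_mono {b : Ideal A} (hab : a ≤ b) {z : Cochain P E q} (hz : ValIn b z) : ValIn a z :=
  fun p p' h x => torsionSub_mono hab (hz p p' h x)

open scoped Classical in
/-- A uniform exponent killing a cochain. -/
theorem exists_uniform_pow (hP : BddFree P) (g : A) (z : Cochain P E q)
    (hz : ∀ (p p' : ℤ) (h : p + q = p') (x : P.X p), ∃ k : ℕ, g ^ k • (z.v p p' h).hom x = 0) :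
    ∃ k : ℕ, g ^ k • z = 0 := by
  obtain ⟨N, hN⟩ := hP.bdd
  have hp : ∀ p : ℤ, ∃ k : ℕ, ∀ x : P.X p, g ^ k • (z.v p (p + q) rfl).hom x = 0 := by
    intro p
    have := hP.finite p
    obtain ⟨s, hs⟩ := (Module.Finite.fg_top : (⊤ : Submodule A (P.X p)).FG)
    choose k hk using fun x : P.X p => hz p (p + q) rfl x
    refine ⟨s.sup k, fun x => ?_⟩
    have hx : x ∈ Submodule.span A (s : Set (P.X p)) := hs ▸ Submodule.mem_top
    induction hx using Submodule.span_induction with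
    | mem y hy => rw [← Nat.sub_add_cancel (Finset.le_sup (f := k) hy), pow_add, mul_smul, hk, smul_zero]
    | zero => rw [map_zero, smul_zero]
    | add y y' _ _ h₁ h₂ => rw [map_add, smul_add, h₁, h₂, add_zero]
    | smul c y _ h₁ => rw [map_smul, smul_comm, h₁, smul_zero]
  choose k hk using hp
  refine ⟨(Finset.Icc (-(N : ℤ)) N).sup k, Cochain.ext _ _ fun p p' h => ?_⟩
  subst h
  rw [Cochain.smul_v, Cochain.zero_v]
  refine ModuleCat.hom_ext (LinearMap.ext fun x => ?_)
  show g ^ _ • (z.v p (p + q) rfl).hom x = 0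
  by_cases hp : p ∈ Finset.Icc (-(N : ℤ)) N
  · rw [← Nat.sub_add_cancel (Finset.le_sup (f := k) hp), pow_add, mul_smul, hk, smul_zero]
  · have := ModuleCat.subsingleton_of_isZero (hN p (by rw [Finset.mem_Icc] at hp; omega))
    rw [Subsingleton.elim x 0, map_zero, smul_zero]

variable [IsNoetherianRing A]

open scoped Classical in
/-- Divisibility of cochains. -/
theorem exists_cochain_div (hP : BddFree P) (hE : ∀ n, Module.Injective A (E.X n)) (g : A) (k : ℕ)
    {v : Cochain P E q} (hv : ValIn a v) :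
    ∃ v' : Cochain P E q, ValIn a v' ∧ ∃ l : ℕ, g ^ l • (g ^ k • v' - v) = 0 := by
  have hp : ∀ (p : ℤ) (p' : ℤ) (h : p + q = p'), ∃ φ : P.X p ⟶ E.X p', (∀ x, φ.hom x ∈ DRing.torsionSub a (E.X p')) ∧
      ∀ x, ∃ l : ℕ, g ^ l • (g ^ k • φ.hom x - (v.v p p' h).hom x) = 0 := by
    intro p p' h
    have := hE p'
    have := hP.free p
    have := hP.finite p
    let b := Module.Free.chooseBasis A (P.X p)
    choose w hw l hl using fun i => exists_div g k (hv p p' h (b i))
    let φ : P.X p →ₗ[A] E.X p' := b.constr A w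
    refine ⟨ModuleCat.ofHom φ, fun x => ?_, fun x => ?_⟩
    · show φ x ∈ _
      rw [← b.sum_repr x, map_sum]
      refine Submodule.sum_mem _ fun i _ => ?_
      rw [map_smul, Module.Basis.constr_basis]
      exact Submodule.smul_mem _ _ (hw i)
    · refine ⟨Finset.univ.sup l, ?_⟩
      show g ^ _ • (g ^ k • φ x - (v.v p p' h).hom x) = 0
      rw [← b.sum_repr x]
      simp only [map_sum, map_smul, φ, Module.Basis.constr_basis, Finset.smul_sum, ← Finset.sum_sub_distrib]
      refine Finset.sum_eq_zero fun i _ => ?_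
      rw [← Nat.sub_add_cancel (Finset.le_sup (f := l) (Finset.mem_univ i)), pow_add, mul_smul,
        smul_comm (g ^ k) ((b.repr x) i), ← smul_sub, smul_comm (g ^ l i), hl, smul_zero, smul_zero]
  choose φ hφ hφl using hp
  refine ⟨Cochain.mk fun p p' h => φ p p' h, fun p p' h x => hφ p p' h x, ?_⟩
  exact exists_uniform_pow hP g _ fun p p' h x => hφl p p' h x

variable {ι : Type} (Ec : ι → CochainComplex (ModuleCat.{u} A) ℤ) (R : ∀ i j, (Ec i ⟶ Ec j) → Prop)

/-- Cocycles with values in `a`-power torsion become such coboundaries along the system. -/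
def Kills (P : CochainComplex (ModuleCat.{u} A) ℤ) (a : Ideal A) : Prop :=
  ∀ j, ∃ (i : ι) (U : Ec i ⟶ Ec j), R i j U ∧ ∀ (p q : ℤ) (_ : p + 1 = q) (x : Cochain P (Ec i) q),
    δ q (q + 1) x = 0 → ValIn a x →
      ∃ w : Cochain P (Ec j) p, ValIn a w ∧ δ p q w = x.comp (Cochain.ofHom U) (add_zero q)

theorem kills_sup (hP : BddFree P) (hinj : ∀ i n, Module.Injective A ((Ec i).X n))
    (hR : ∀ {i j k} (U : Ec i ⟶ Ec j) (V : Ec j ⟶ Ec k), R i j U → R j k V → R i k (U ≫ V))
    {a : Ideal A} (g : A) (ha : Kills Ec R P a) : Kills Ec R P (a ⊔ Ideal.span {g}) := by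
  intro j₃
  obtain ⟨j₂, V, hV, hV'⟩ := ha j₃
  obtain ⟨j₁, U, hU, hU'⟩ := ha j₂
  refine ⟨j₁, U ≫ V, hR U V hU hV, fun p q hpq x hx hxv => ?_⟩
  obtain ⟨w, hwv, hw⟩ := hU' p q hpq x hx (valIn_mono le_sup_left hxv)
  obtain ⟨k, hk⟩ := exists_uniform_pow hP g x fun p₁ p₂ h y => by
    obtain ⟨n, hn⟩ := hxv p₁ p₂ h y
    exact ⟨n, hn _ (Ideal.pow_mem_pow (Ideal.mem_sup_right (Ideal.mem_span_singleton_self g)) n)⟩
  have hcyc : δ p (p + 1) (g ^ k • w) = 0 := by
    rw [hpq, δ_smul, hw, ← Cochain.smul_comp, hk, Cochain.zero_comp]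
  obtain ⟨v, hvv, hv⟩ := hV' (p - 1) p (sub_add_cancel p 1) (g ^ k • w) hcyc (valIn_smul hwv _)
  obtain ⟨v', hv'v, l, hl⟩ := exists_cochain_div hP (hinj j₃) g k hvv
  refine ⟨w.comp (Cochain.ofHom V) (add_zero p) - δ (p - 1) p v', fun p₁ p₂ h y => ?_, ?_⟩
  · have hmem : ValIn a (w.comp (Cochain.ofHom V) (add_zero p) - δ (p - 1) p v') :=
      valIn_sub (valIn_comp hwv V) (valIn_δ hv'v p (sub_add_cancel p 1))
    refine Groth.Agent.LC.mem_torsionSub_sup_span g a (hmem p₁ p₂ h y) (k := l + k) ?_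
    have h0 : g ^ (l + k) • (w.comp (Cochain.ofHom V) (add_zero p) - δ (p - 1) p v') = 0 := by
      rw [smul_sub, sub_eq_zero] at hl
      have h2 : g ^ (l + k) • δ (p - 1) p v' = g ^ l • δ (p - 1) p v := by
        rw [← δ_smul, ← δ_smul, pow_add, mul_smul, hl]
      rw [smul_sub, h2, hv, pow_add, mul_smul, ← Cochain.smul_comp, sub_self]
    exact congrArg (fun z : Cochain P (Ec j₃) p => (z.v p₁ p₂ h).hom y) h0
  · rw [δ_sub, δ_comp_ofHom, hw, δ_δ, sub_zero, Cochain.comp_assoc_of_third_is_zero_cochain, ← Cochain.ofHom_comp]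

theorem kills (hP : BddFree P) (hinj : ∀ i n, Module.Injective A ((Ec i).X n))
    (hR : ∀ {i j k} (U : Ec i ⟶ Ec j) (V : Ec j ⟶ Ec k), R i j U → R j k V → R i k (U ≫ V))
    (h0 : ∀ j, ∃ (i : ι) (U : Ec i ⟶ Ec j), R i j U ∧ ∀ (p q : ℤ) (_ : p + 1 = q) (x : Cochain P (Ec i) q),
      δ q (q + 1) x = 0 → ∃ w : Cochain P (Ec j) p, δ p q w = x.comp (Cochain.ofHom U) (add_zero q))
    (a : Ideal A) : Kills Ec R P a := by
  classical
  obtain ⟨s, hs⟩ : a.FG := IsNoetherian.noetherian a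
  induction s using Finset.induction generalizing a with
  | empty =>
    obtain rfl : a = ⊥ := by rw [← hs]; simp
    intro j
    obtain ⟨i, U, hU, h⟩ := h0 j
    refine ⟨i, U, hU, fun p q hpq x hx _ => ?_⟩
    obtain ⟨w, hw⟩ := h p q hpq x hx
    exact ⟨w, fun _ _ _ _ => mem_torsionSub_bot _, hw⟩
  | insert g s _ ih =>
    obtain ⟨b, hb, rfl⟩ : ∃ b, b = Ideal.span (s : Set A) ∧ a = b ⊔ Ideal.span {g} := by
      refine ⟨_, rfl, ?_⟩
      rw [← hs, Finset.coe_insert, Ideal.span_insert, sup_comm]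
    exact kills_sup Ec R hP hinj hR g (ih b hb.symm)

end Groth.Agent.LocDual54
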