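import Mathlib.RingTheory.MvPolynomial.Homogeneous
import Mathlib.RingTheory.Filtration
import Mathlib.RingTheory.TensorProduct.MvPolynomial
import Mathlib.RingTheory.Ideal.Operations

/-!
# Graded maps from `⊕ I^{nc}` to a polynomial ring
-/

universe u

set_option linter.unusedSectionVars false

open scoped BigOperators TensorProduct

namespace Groth.Agent.LocDual54.GradedPhi

variable {A : Type u} [CommRing A] {r : ℕ} {I : Ideal A} {c : ℕ} (φ : Fin r → (↥(I ^ c) →ₗ[A] A))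

open Classical in
/-- `φ j` extended by zero. -/
noncomputable def psi (j : Fin r) (g : A) : A := if h : g ∈ I ^ c then φ j ⟨g, h⟩ else 0

theorem psi_of_mem (j : Fin r) {g : A} (h : g ∈ I ^ c) : psi φ j g = φ j ⟨g, h⟩ := dif_pos h

theorem psi_add (j : Fin r) {g h : A} (hg : g ∈ I ^ c) (hh : h ∈ I ^ c) :
    psi φ j (g + h) = psi φ j g + psi φ j h := by
  rw [psi_of_mem φ j hg, psi_of_mem φ j hh, psi_of_mem φ j (add_mem hg hh), ← map_add]; rfl

theorem psi_mul (j : Fin r) (a : A) {g : A} (hg : g ∈ I ^ c) : psi φ j (a * g) = a * psi φ j g := by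
  rw [psi_of_mem φ j hg, psi_of_mem φ j (Ideal.mul_mem_left _ a hg)]; exact map_smul (φ j) a ⟨g, hg⟩

theorem mem_c {n : ℕ} {g : A} (hg : g ∈ I ^ ((n + 1) * c)) : g ∈ I ^ c :=
  Ideal.pow_le_pow_right (Nat.le_mul_of_pos_left c n.succ_pos) hg

theorem psi_mem (j : Fin r) {n : ℕ} {g : A} (hg : g ∈ I ^ ((n + 1) * c)) : psi φ j g ∈ I ^ (n * c) := by
  rw [Nat.succ_mul, pow_add] at hg
  suffices h : g ∈ I ^ c ∧ psi φ j g ∈ I ^ (n * c) from h.2
  refine Submodule.mul_induction_on hg (fun a ha b hb => ⟨Ideal.mul_mem_left _ a hb, ?_⟩) fun a b ha hb => ⟨add_mem ha.1 hb.1, ?_⟩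
  · rw [psi_mul φ j a hb]; exact Ideal.mul_mem_right _ _ ha
  · rw [psi_add φ j ha.1 hb.1]; exact add_mem ha.2 hb.2

/-- The graded map. -/
noncomputable def Phi : ℕ → A → MvPolynomial (Fin r) A
  | 0, g => MvPolynomial.C g
  | n + 1, g => ∑ j, MvPolynomial.X j * Phi n (psi φ j g)

theorem Phi_add : ∀ (n : ℕ) {g h : A}, g ∈ I ^ (n * c) → h ∈ I ^ (n * c) → Phi φ n (g + h) = Phi φ n g + Phi φ n h
  | 0, g, h, _, _ => map_add _ _ _
  | n + 1, g, h, hg, hh => by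
    simp only [Phi, ← Finset.sum_add_distrib, ← mul_add]
    refine Finset.sum_congr rfl fun j _ => ?_
    rw [psi_add φ j (mem_c hg) (mem_c hh), Phi_add n (psi_mem φ j hg) (psi_mem φ j hh)]

theorem Phi_mul_left : ∀ (n : ℕ) (a : A) {g : A}, g ∈ I ^ (n * c) → Phi φ n (a * g) = a • Phi φ n g
  | 0, a, g, _ => by simp [Phi, MvPolynomial.smul_eq_C_mul]
  | n + 1, a, g, hg => by
    simp only [Phi, Finset.smul_sum]
    refine Finset.sum_congr rfl fun j _ => ?_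
    rw [psi_mul φ j a (mem_c hg), Phi_mul_left n a (psi_mem φ j hg), mul_smul_comm]

theorem Phi_homogeneous : ∀ (n : ℕ) (g : A), (Phi φ n g).IsHomogeneous n
  | 0, g => MvPolynomial.isHomogeneous_C _ _
  | n + 1, g => MvPolynomial.IsHomogeneous.sum _ _ _ fun j _ => by
      rw [add_comm n 1]; exact (MvPolynomial.isHomogeneous_X A j).mul (Phi_homogeneous n _)

theorem Phi_mul : ∀ (n m : ℕ) {g h : A}, g ∈ I ^ (n * c) → h ∈ I ^ (m * c) →
    Phi φ (n + m) (g * h) = Phi φ n g * Phi φ m h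
  | 0, m, g, h, _, hh => by
    rw [zero_add, Phi_mul_left φ m g hh, MvPolynomial.smul_eq_C_mul]; rfl
  | n + 1, m, g, h, hg, hh => by
    rw [show n + 1 + m = n + m + 1 by ring]
    simp only [Phi, Finset.sum_mul]
    refine Finset.sum_congr rfl fun j _ => ?_
    rw [mul_comm g h, psi_mul φ j h (mem_c hg), mul_comm h, Phi_mul n m (psi_mem φ j hg) hh, mul_assoc]

theorem Phi_one (g : A) (hg : g ∈ I ^ c) :
    Phi φ 1 g = ∑ j, MvPolynomial.C (φ j ⟨g, hg⟩) * MvPolynomial.X j :=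
  Finset.sum_congr rfl fun j _ => by rw [psi_of_mem φ j hg, mul_comm]; rfl

/-- The graded ring axioms (for `n`-th components on `I^{nc}`). -/
structure IsGraded (c : ℕ) (φ : Fin r → (↥(I ^ c) →ₗ[A] A)) (Ψ : ℕ → A → MvPolynomial (Fin r) A) : Prop where
  add : ∀ n : ℕ, ∀ g ∈ I ^ (n * c), ∀ h ∈ I ^ (n * c), Ψ n (g + h) = Ψ n g + Ψ n h
  mul_left : ∀ (n : ℕ) (a : A), ∀ g ∈ I ^ (n * c), Ψ n (a * g) = a • Ψ n g
  mul : ∀ n m : ℕ, ∀ g ∈ I ^ (n * c), ∀ h ∈ I ^ (m * c), Ψ (n + m) (g * h) = Ψ n g * Ψ m h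
  zero' : ∀ a : A, Ψ 0 a = MvPolynomial.C a
  one : ∀ (g : A) (hg : g ∈ I ^ c), Ψ 1 g = ∑ j, MvPolynomial.C (φ j ⟨g, hg⟩) * MvPolynomial.X j

variable {φ} {Ψ : ℕ → A → MvPolynomial (Fin r) A} (H : IsGraded c φ Ψ)
include H

/-- Induction on the products defining `I^{(n+1)c}`. -/
theorem IsGraded.induction (n : ℕ) (P : MvPolynomial (Fin r) A → A → Prop)
    (hadd : ∀ p q g h, P p g → P q h → P (p + q) (g + h))
    (hmul : ∀ g ∈ I ^ (n * c), ∀ (h : A) (hh : h ∈ I ^ c),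
      P (Ψ n g * ∑ j, MvPolynomial.C (φ j ⟨h, hh⟩) * MvPolynomial.X j) (g * h))
    {g : A} (hg : g ∈ I ^ ((n + 1) * c)) : P (Ψ (n + 1) g) g := by
  have hg' := hg
  rw [Nat.succ_mul, pow_add] at hg'
  suffices h : g ∈ I ^ ((n + 1) * c) ∧ P (Ψ (n + 1) g) g from h.2
  refine Submodule.mul_induction_on hg' (fun a ha b hb => ?_) fun a b ha hb => ⟨add_mem ha.1 hb.1, ?_⟩
  · refine ⟨by rw [Nat.succ_mul, pow_add]; exact Submodule.mul_mem_mul ha hb, ?_⟩
    rw [H.mul n 1 a ha b (by rwa [one_mul]), H.one b hb]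
    exact hmul a ha b hb
  · rw [H.add _ a ha.1 b hb.1]; exact hadd _ _ _ _ ha.2 hb.2

theorem IsGraded.eq_Phi : ∀ (n : ℕ) {g : A}, g ∈ I ^ (n * c) → Ψ n g = Phi φ n g
  | 0, g, _ => H.zero' g
  | n + 1, g, hg => by
    refine (H.induction n (fun p a => a ∈ I ^ ((n + 1) * c) ∧ p = Phi φ (n + 1) a) ?_ ?_ hg).2
    · rintro p q a b ⟨ha, rfl⟩ ⟨hb, rfl⟩
      exact ⟨add_mem ha hb, (Phi_add φ _ ha hb).symm⟩
    · intro a ha b hb
      refine ⟨by rw [Nat.succ_mul, pow_add]; exact Submodule.mul_mem_mul ha hb, ?_⟩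
      rw [Phi_mul φ n 1 ha (by rwa [one_mul]), Phi_one φ b hb, eq_Phi n ha]

theorem IsGraded.aeval (f : Fin r → A) (hφ : ∀ x : ↥(I ^ c), (x : A) = ∑ j, f j * φ j x) :
    ∀ (n : ℕ) {g : A}, g ∈ I ^ (n * c) → MvPolynomial.aeval f (Ψ n g) = g
  | 0, g, _ => by rw [H.zero']; exact MvPolynomial.aeval_C _ _
  | n + 1, g, hg => by
    refine H.induction n (fun p a => MvPolynomial.aeval f p = a) ?_ ?_ hg
    · intro p q a b ha hb; rw [map_add, ha, hb]
    · intro a ha b hb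
      rw [map_mul, IsGraded.aeval f hφ n ha, map_sum]
      refine congrArg _ ((Finset.sum_congr rfl fun j _ => ?_).trans (hφ ⟨b, hb⟩).symm)
      simp [mul_comm]

theorem IsGraded.coeff_mem (k : ℕ) (hk : ∀ (j : Fin r) (x : ↥(I ^ c)), φ j x ∈ I ^ k) (n : ℕ) {g : A}
    (hg : g ∈ I ^ ((n + 1) * c)) : Ψ (n + 1) g ∈ (I ^ k).map MvPolynomial.C := by
  refine H.induction n (fun p _ => p ∈ (I ^ k).map MvPolynomial.C) (fun p q _ _ hp hq => add_mem hp hq) ?_ hg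
  intro a _ b hb
  exact Ideal.mul_mem_left _ _ (Ideal.sum_mem _ fun j _ =>
    Ideal.mul_mem_right _ _ (Ideal.mem_map_of_mem _ (hk j ⟨b, hb⟩)))

end Groth.Agent.LocDual54.GradedPhi
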