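import Groth.Agent.LocDual54.GradedPhi
import Mathlib.LinearAlgebra.TensorProduct.Basis
import Mathlib.RingTheory.MvPolynomial.Basic
import Mathlib.RingTheory.Noetherian.Basic
import Mathlib.Algebra.Module.Torsion.Basic
import Mathlib.RingTheory.MvPolynomial.Tower

/-!
# The module version of the graded map
-/

universe u

set_option linter.style.haveILetI false

open scoped BigOperators TensorProduct

namespace Groth.Agent.LocDual54.GradedPhi

variable {B : Type u} [CommRing B] [IsNoetherianRing B] {N : Type u} [AddCommGroup N] [Module B N] [Module.Finite B N]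

/-- Elements of a high power killed by a power vanish. -/
theorem exists_eq_zero_of_kill (J : Ideal B) (m : ℕ) :
    ∃ k, ∀ z ∈ J ^ k • (⊤ : Submodule B N), (∀ b ∈ J ^ m, b • z = 0) → z = 0 := by
  let T : Submodule B N := Submodule.torsionBySet B N (J ^ m : Ideal B)
  obtain ⟨k₀, hk⟩ := J.exists_pow_inf_eq_pow_smul T
  refine ⟨k₀ + m, fun z hz hkill => ?_⟩
  have h : z ∈ J ^ (k₀ + m) • (⊤ : Submodule B N) ⊓ T :=
    ⟨hz, (Submodule.mem_torsionBySet_iff _ _).2 fun b => hkill b b.2⟩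
  rw [hk _ (Nat.le_add_right _ _), Nat.add_sub_cancel_left] at h
  refine Submodule.smul_induction_on h (fun b hb y hy => ?_) (fun x y hx hy => by rw [hx, hy, add_zero])
  exact ((Submodule.mem_torsionBySet_iff _ _).1 hy.2 ⟨b, hb⟩)

theorem exists_stable_torsion (J : Ideal B) :
    ∃ k, ∀ z ∈ J ^ k • (⊤ : Submodule B N), ∀ m, (∀ b ∈ J ^ m, b • z = 0) → z = 0 := by
  obtain ⟨e, he⟩ := monotone_stabilizes_iff_noetherian.2 (inferInstance : IsNoetherian B N)
    ⟨fun m => Submodule.torsionBySet B N (J ^ m : Ideal B), fun a b hab z hz =>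
      (Submodule.mem_torsionBySet_iff _ _).2 fun x =>
        (Submodule.mem_torsionBySet_iff _ _).1 hz ⟨x, Ideal.pow_le_pow_right hab x.2⟩⟩
  obtain ⟨k, hk⟩ := exists_eq_zero_of_kill (N := N) J e
  refine ⟨k, fun z hz m hm => hk z hz fun b hb => ?_⟩
  have hz' : z ∈ Submodule.torsionBySet B N (J ^ max e m : Ideal B) :=
    (Submodule.mem_torsionBySet_iff _ _).2 fun x => hm x (Ideal.pow_le_pow_right (le_max_right e m) x.2)
  rw [show Submodule.torsionBySet B N (J ^ max e m : Ideal B) = Submodule.torsionBySet B N (J ^ e : Ideal B) from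
    (he _ (le_max_left _ _)).symm] at hz'
  exact (Submodule.mem_torsionBySet_iff _ _).1 hz' ⟨b, hb⟩

variable {A : Type u} [CommRing A] [IsNoetherianRing A] [Algebra A B] {r : ℕ} {I : Ideal A} {c : ℕ}
  {φ : Fin r → (↥(I ^ c) →ₗ[A] A)} {Ψ : ℕ → A → MvPolynomial (Fin r) A} (H : IsGraded c φ Ψ)
include H

theorem IsGraded.exists_module_map {k : ℕ} (hk : ∀ (j : Fin r) (x : ↥(I ^ c)), φ j x ∈ I ^ k)
    (htor : ∀ z ∈ (I.map (algebraMap A B)) ^ k • (⊤ : Submodule B N), ∀ m,
      (∀ b ∈ (I.map (algebraMap A B)) ^ m, b • z = 0) → z = 0)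
    (f : Fin r → A) (hφ : ∀ x : ↥(I ^ c), (x : A) = ∑ j, f j * φ j x) (n : ℕ) :
    ∃ Θ : ↥(Submodule.span B {y : N | ∃ g ∈ I ^ (n * c), ∃ x : N, y = algebraMap A B g • x}) →ₗ[B]
        (MvPolynomial (Fin r) B ⊗[B] N),
      (∀ (g : A) (hg : g ∈ I ^ (n * c)) (x : N),
        Θ ⟨algebraMap A B g • x, Submodule.subset_span ⟨g, hg, x, rfl⟩⟩ = MvPolynomial.map (algebraMap A B) (Ψ n g) ⊗ₜ[B] x) ∧
      (∀ y : ↥(Submodule.span B {y : N | ∃ g ∈ I ^ (n * c), ∃ x : N, y = algebraMap A B g • x}),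
        TensorProduct.lift ((LinearMap.lsmul B N).comp (MvPolynomial.aeval (fun j ↦ algebraMap A B (f j))).toLinearMap) (Θ y) =
          (y : N)) ∧
      (∀ Θ' : ↥(Submodule.span B {y : N | ∃ g ∈ I ^ (n * c), ∃ x : N, y = algebraMap A B g • x}) →ₗ[B]
          (MvPolynomial (Fin r) B ⊗[B] N),
        (∀ (g : A) (hg : g ∈ I ^ (n * c)) (x : N),
          Θ' ⟨algebraMap A B g • x, Submodule.subset_span ⟨g, hg, x, rfl⟩⟩ = MvPolynomial.map (algebraMap A B) (Ψ n g) ⊗ₜ[B] x) →
            Θ' = Θ) := by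
  classical
  set ι := algebraMap A B
  set P : Submodule B N := Submodule.span B {y : N | ∃ g ∈ I ^ (n * c), ∃ x : N, y = ι g • x}
  obtain ⟨K, g, hg⟩ := Submodule.fg_iff_exists_fin_generating_family.1 (IsNoetherian.noetherian (I ^ (n * c) : Ideal A))
  have hgI : ∀ i, g i ∈ I ^ (n * c) := fun i => hg ▸ Submodule.subset_span ⟨i, rfl⟩
  let π : (Fin K → N) →ₗ[B] P := LinearMap.codRestrict P
    (∑ i, (ι (g i) • LinearMap.proj i : (Fin K → N) →ₗ[B] N)) fun x => by
      rw [LinearMap.sum_apply]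
      exact Submodule.sum_mem _ fun i _ => Submodule.subset_span ⟨g i, hgI i, x i, rfl⟩
  let θ : (Fin K → N) →ₗ[B] MvPolynomial (Fin r) B ⊗[B] N :=
    ∑ i, (TensorProduct.mk B _ N (MvPolynomial.map ι (Ψ n (g i)))).comp (LinearMap.proj i)
  have hπv : ∀ x, (π x : N) = ∑ i, ι (g i) • x i := fun x => by simp [π, LinearMap.sum_apply]
  have hθv : ∀ x, θ x = ∑ i, MvPolynomial.map ι (Ψ n (g i)) ⊗ₜ[B] x i := fun x => by simp [θ, LinearMap.sum_apply]
  have hlin : ∀ {s : Finset (Fin K)} (a : Fin K → A), Ψ n (∑ i ∈ s, a i * g i) = ∑ i ∈ s, a i • Ψ n (g i) := by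
    intro s a
    induction s using Finset.induction_on with
    | empty => simpa using H.mul_left n 0 0 (zero_mem _)
    | insert i s hi ih =>
      rw [Finset.sum_insert hi, Finset.sum_insert hi, H.add n _ (Ideal.mul_mem_left _ _ (hgI i)) _
        (Ideal.sum_mem _ fun i _ => Ideal.mul_mem_left _ _ (hgI i)), H.mul_left n _ _ (hgI i), ih]
  have hgen : ∀ h ∈ I ^ (n * c), ∀ x : N, ∃ v, (π v : N) = ι h • x ∧ θ v = MvPolynomial.map ι (Ψ n h) ⊗ₜ[B] x := by
    intro h hh x
    obtain ⟨a, rfl⟩ := (Submodule.mem_span_range_iff_exists_fun A).1 (hg.symm ▸ hh : h ∈ Submodule.span A (Set.range g))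
    refine ⟨fun i => ι (a i) • x, ?_, ?_⟩
    · rw [hπv, map_sum, Finset.sum_smul]
      refine Finset.sum_congr rfl fun i _ => ?_
      rw [smul_smul, ← map_mul, mul_comm, smul_eq_mul]
    · simp only [smul_eq_mul]
      rw [hθv, hlin, map_sum, TensorProduct.sum_tmul]
      refine Finset.sum_congr rfl fun i _ => ?_
      rw [← TensorProduct.smul_tmul, MvPolynomial.smul_eq_C_mul, MvPolynomial.smul_eq_C_mul, map_mul, MvPolynomial.map_C]
  have hsurj : Function.Surjective π := by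
    rw [← LinearMap.range_eq_top, eq_top_iff]
    rintro ⟨y, hy⟩ -
    refine Submodule.span_induction (p := fun y hy => (⟨y, hy⟩ : P) ∈ LinearMap.range π) ?_ (zero_mem _)
      (fun a b ha hb h1 h2 => add_mem h1 h2) (fun b a ha h1 => Submodule.smul_mem _ b h1) hy
    rintro _ ⟨h, hh, x, rfl⟩
    obtain ⟨v, hv, -⟩ := hgen h hh x
    exact ⟨v, Subtype.ext hv⟩
  have hker : LinearMap.ker π ≤ LinearMap.ker θ := fun v hv => by
    have hv' : ∑ i, ι (g i) • v i = 0 := (hπv v).symm.trans (congrArg Subtype.val (LinearMap.mem_ker.1 hv))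
    rw [LinearMap.mem_ker, hθv]
    refine (TensorProduct.equivFinsuppOfBasisLeft (MvPolynomial.basisMonomials (Fin r) B)).injective (Finsupp.ext fun d => ?_)
    rw [map_sum, map_zero, Finsupp.finset_sum_apply]
    simp only [TensorProduct.equivFinsuppOfBasisLeft_apply_tmul_apply, Finsupp.coe_zero, Pi.zero_apply]
    change ∑ i, MvPolynomial.coeff d (MvPolynomial.map ι (Ψ n (g i))) • v i = 0
    simp only [MvPolynomial.coeff_map]
    cases n with
    | zero =>
      by_cases hd : d = 0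
      · simpa [H.zero', hd] using hv'
      · simp [H.zero', Ne.symm hd]
    | succ n =>
      refine htor _ (Submodule.sum_mem _ fun i _ => ?_) ((n + 1) * c) fun b hb => ?_
      · refine Submodule.smul_mem_smul ?_ trivial
        rw [← Ideal.map_pow]
        exact Ideal.mem_map_of_mem _ (MvPolynomial.mem_map_C_iff.1 (H.coeff_mem k hk n (hgI i)) d)
      · rw [← Ideal.map_pow] at hb
        refine Submodule.span_induction (p := fun b _ => b • (∑ i, ι (MvPolynomial.coeff d (Ψ (n + 1) (g i))) • v i) = 0) ?_ (zero_smul _ _)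
          (fun x y _ _ hx hy => by rw [add_smul, hx, hy, add_zero])
          (fun x y _ hy => by rw [smul_assoc, hy, smul_zero]) hb
        rintro _ ⟨a, ha, rfl⟩
        have e : ∀ i, a * MvPolynomial.coeff d (Ψ (n + 1) (g i)) = g i * MvPolynomial.coeff d (Ψ (n + 1) a) := fun i => by
          have h1 := congrArg (MvPolynomial.coeff d) (H.mul_left _ a _ (hgI i))
          have h2 := congrArg (MvPolynomial.coeff d) (H.mul_left _ (g i) _ ha)
          rw [mul_comm (g i) a, h1] at h2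
          simpa using h2
        rw [Finset.smul_sum, ← smul_zero (ι (MvPolynomial.coeff d (Ψ (n + 1) a))), ← hv', Finset.smul_sum]
        refine Finset.sum_congr rfl fun i _ => ?_
        rw [smul_smul, smul_smul, ← map_mul, ← map_mul, e i, mul_comm]
  let Θ : P →ₗ[B] MvPolynomial (Fin r) B ⊗[B] N :=
    (Submodule.liftQ (LinearMap.ker π) θ hker).comp (LinearMap.quotKerEquivOfSurjective π hsurj).symm.toLinearMap
  have hΘ : ∀ v, Θ (π v) = θ v := fun v => by
    show Submodule.liftQ _ θ hker ((LinearMap.quotKerEquivOfSurjective π hsurj).symm (π v)) = θ v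
    rw [← LinearMap.quotKerEquivOfSurjective_apply_mk π hsurj v, LinearEquiv.symm_apply_apply]
    rfl
  have hΘ' : ∀ (h : A) (hh : h ∈ I ^ (n * c)) (x : N),
      Θ ⟨ι h • x, Submodule.subset_span ⟨h, hh, x, rfl⟩⟩ = MvPolynomial.map ι (Ψ n h) ⊗ₜ[B] x := fun h hh x => by
    obtain ⟨v, h1, h2⟩ := hgen h hh x
    rw [← h2, ← hΘ]; exact congrArg Θ (Subtype.ext h1.symm)
  refine ⟨Θ, hΘ', fun y => ?_, fun Θ' h' => ?_⟩
  · obtain ⟨v, rfl⟩ := hsurj y
    rw [hΘ, hθv, hπv, map_sum]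
    refine Finset.sum_congr rfl fun i _ => ?_
    simp only [TensorProduct.lift.tmul, LinearMap.comp_apply, LinearMap.lsmul_apply, AlgHom.toLinearMap_apply]
    congr 1
    rw [MvPolynomial.aeval_map_algebraMap]
    conv_rhs => rw [← H.aeval f hφ n (hgI i)]
    exact MvPolynomial.aeval_algebraMap_apply B f _
  · refine LinearMap.ext fun ⟨y, hy⟩ => ?_
    refine Submodule.span_induction (p := fun y hy => Θ' ⟨y, hy⟩ = Θ ⟨y, hy⟩) ?_ ((map_zero Θ').trans (map_zero Θ).symm) ?_ ?_ hy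
    · rintro _ ⟨h, hh, x, rfl⟩
      rw [h' h hh x, hΘ' h hh x]
    · intro a b ha hb h1 h2
      exact (map_add Θ' ⟨a, ha⟩ ⟨b, hb⟩).trans ((congrArg₂ (· + ·) h1 h2).trans (map_add Θ ⟨a, ha⟩ ⟨b, hb⟩).symm)
    · intro b a ha h1
      exact (map_smul Θ' b ⟨a, ha⟩).trans ((congrArg (b • ·) h1).trans (map_smul Θ b ⟨a, ha⟩).symm)

end Groth.Agent.LocDual54.GradedPhi
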