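import Groth.Agent.LocDual54.CompletionRlim
import Groth.Agent.AdicLib.Basic
import Groth.Agent.H9Misc.DRingTel
import Mathlib.RingTheory.Filtration

/-!
# `H⁰` of the derived completion of `RΓ_J M` over an adically complete ring
-/

universe u

open CategoryTheory CategoryTheory.Limits CategoryTheory.Pretriangulated

namespace Groth.Agent.LocDual54

attribute [local instance] HasDerivedCategory.standard

variable {A : Type u} [CommRing A]

/-- `H⁰`. -/
noncomputable abbrev H₀ : Dual.D A ⥤ ModuleCat.{u} A := DerivedCategory.homologyFunctor (ModuleCat.{u} A) 0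

/-- The element of `H⁰` attached to a map out of `A`. -/
noncomputable def eltHom (K : Dual.D A) (φ : S0.obj (ModuleCat.of A A) ⟶ K) : (H₀.obj K : Type u) :=
  (KFlatLib.psiC 0 (ModuleCat.of A A) K φ).hom (1 : A)

theorem eltHom_comp {K L : Dual.D A} (φ : S0.obj (ModuleCat.of A A) ⟶ K) (f : K ⟶ L) :
    eltHom L (φ ≫ f) = (H₀.map f).hom (eltHom K φ) :=
  ConcreteCategory.congr_hom (KFlatLib.psiC_comp φ f) (1 : A)

theorem eltHom_bijective (K : Dual.D A) : Function.Bijective (eltHom K) := by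
  have h2 : Function.Bijective fun h : ModuleCat.of A A ⟶ H₀.obj K => h.hom (1 : A) :=
    ⟨fun a b hab => ModuleCat.hom_ext (LinearMap.ext_ring hab),
      fun x => ⟨ModuleCat.ofHom (LinearMap.toSpanSingleton A (H₀.obj K) x), LinearMap.toSpanSingleton_apply_one _ _ _⟩⟩
  exact h2.comp (KFlatLib.bijective_psiC_of_projective (P := ModuleCat.of A A) 0 K)

theorem pi_joint_injective (X : ℕ → Dual.D A) (z z' : (H₀.obj (∏ᶜ X) : Type u))
    (h : ∀ n, (H₀.map (Pi.π X n)).hom z = (H₀.map (Pi.π X n)).hom z') : z = z' := by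
  obtain ⟨φ, rfl⟩ := (eltHom_bijective _).2 z
  obtain ⟨φ', rfl⟩ := (eltHom_bijective _).2 z'
  rw [Pi.hom_ext φ φ' fun n => (eltHom_bijective _).1 (by rw [eltHom_comp, eltHom_comp]; exact h n)]

theorem pi_joint_surjective (X : ℕ → Dual.D A) (y : ∀ n, (H₀.obj (X n) : Type u)) :
    ∃ z : (H₀.obj (∏ᶜ X) : Type u), ∀ n, (H₀.map (Pi.π X n)).hom z = y n := by
  choose φ hφ using fun n => (eltHom_bijective (X n)).2 (y n)
  exact ⟨eltHom _ (Pi.lift φ), fun n => by rw [← eltHom_comp, Pi.lift_π, hφ]⟩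

/-- `H⁰(N[0]) ≅ N`. -/
noncomputable def sI (N : ModuleCat.{u} A) : H₀.obj (S0.obj N) ≅ N :=
  (DerivedCategory.singleFunctorCompHomologyFunctorIso (ModuleCat.{u} A) 0).app N

theorem sI_natural {N N' : ModuleCat.{u} A} (f : N ⟶ N') (x : (H₀.obj (S0.obj N) : Type u)) :
    (sI N').hom.hom ((H₀.map (S0.map f)).hom x) = f.hom ((sI N).hom.hom x) :=
  ConcreteCategory.congr_hom
    ((DerivedCategory.singleFunctorCompHomologyFunctorIso (ModuleCat.{u} A) 0).hom.naturality f) x

theorem H₀_map_comp {X Y Z : Dual.D A} (f : X ⟶ Y) (g : Y ⟶ Z) (x : (H₀.obj X : Type u)) :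
    (H₀.map (f ≫ g)).hom x = (H₀.map g).hom ((H₀.map f).hom x) :=
  ConcreteCategory.congr_hom (Functor.map_comp _ f g) x

variable (J : Ideal A) [DRing.HasRgammaI J]

theorem mem_torsion_of_eI (N : ModuleCat.{u} A) (x : (H₀.obj (RG J (S0.obj N)) : Type u)) :
    (sI N).hom.hom ((H₀.map (eI J (S0.obj N))).hom x) ∈ DRing.torsionSub J N := by
  obtain ⟨n, hn⟩ := isTors_RG J (S0.obj N) 0 x
  exact ⟨n, fun a ha => by
    rw [← map_smul, ← map_smul, show a • x = 0 from hn a ha, map_zero, map_zero]⟩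

theorem exists_eI_eq [IsNoetherianRing A] (N : ModuleCat.{u} A) {v : N} (hv : v ∈ DRing.torsionSub J N) :
    ∃ x : (H₀.obj (RG J (S0.obj N)) : Type u), (sI N).hom.hom ((H₀.map (eI J (S0.obj N))).hom x) = v := by
  let T : ModuleCat.{u} A := ModuleCat.of A (DRing.torsionSub J N)
  have hT : IsTors J (S0.obj T) := fun i z => by
    by_cases hi : i = 0
    · subst hi
      obtain ⟨n, hn⟩ := ((sI T).hom.hom z).2
      refine ⟨n, fun a ha => (sI T).toLinearEquiv.injective ?_⟩
      show (sI T).hom.hom (a • z) = (sI T).hom.hom 0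
      rw [map_zero, map_smul]
      exact Subtype.ext (hn a ha)
    · have := H9Misc.DRingTel.subsingleton_homology_inD (A := A) T hi
      exact ⟨0, fun a _ => Subsingleton.elim _ _⟩
  obtain ⟨g, hg⟩ := (eI_bijective J hT (S0.obj N)).2 (S0.map (ModuleCat.ofHom (DRing.torsionSub J N).subtype))
  refine ⟨(H₀.map g).hom ((sI T).inv.hom ⟨v, hv⟩), ?_⟩
  rw [← H₀_map_comp]
  refine (congrArg (fun k => (sI N).hom.hom ((H₀.map k).hom _)) hg).trans ?_
  rw [sI_natural]
  exact congrArg Subtype.val ((sI T).inv_hom_id_apply _)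

variable [IsNoetherianRing A] (I : Ideal A) [DRing.HasDerivedCompletion I]

omit [DRing.HasDerivedCompletion I] in
theorem isDerivedComplete_S0_quoM (M : Type u) [AddCommGroup M] [Module A M] (n : ℕ) :
    DRing.IsDerivedComplete I (S0.obj (quoM I M n)) := by
  obtain ⟨fs, hfs⟩ := exists_list' I
  refine isDerivedComplete_of_nilp I fs hfs.le fun f hf => ⟨n, ?_⟩
  rw [← CategoryTheory.Functor.map_id, ← Functor.map_smul]
  refine (congrArg (S0 (A := A)).map (ModuleCat.hom_ext (Submodule.linearMap_qext _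
    (LinearMap.ext fun x => ?_)))).trans (Functor.map_zero _ _ _)
  exact (Submodule.Quotient.mk_smul _ (f ^ n) x).symm.trans ((Submodule.Quotient.mk_eq_zero _).2
    (Submodule.smul_mem_smul (Ideal.pow_mem_pow (hfs ▸ Ideal.subset_span hf) n) Submodule.mem_top))

variable [IsAdicComplete I A] (M : Type u) [AddCommGroup M] [Module A M] [Module.Finite A M]

omit [DRing.HasDerivedCompletion I] in
theorem isDerivedComplete_finite : DRing.IsDerivedComplete I (S0.obj (ModuleCat.of A M)) := by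
  have := AdicLib.isAdicComplete_of_finite I M
  exact (H9Misc.DRingTel.isDerivedComplete_inD_iff I M).2 fun f hf =>
    H9Misc.TBMod.tbm_of_isAdicComplete I hf

theorem isIso_toCompl_finite : IsIso (DRing.toDerivedCompletion I (S0.obj (ModuleCat.of A M))) := by
  have := hasRgammaI I
  obtain ⟨ψ, hψ⟩ := (toCompl_bijective I _ _ (isDerivedComplete_finite I M)).2 (𝟙 _)
  simp only at hψ
  refine ⟨ψ, hψ, (toCompl_bijective I _ _ ((DRing.derivedCompletion I).obj _).property).1 ?_⟩
  show DRing.toDerivedCompletion I _ ≫ ψ ≫ DRing.toDerivedCompletion I _ = DRing.toDerivedCompletion I _ ≫ 𝟙 _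
  rw [← Category.assoc, hψ, Category.id_comp, Category.comp_id]

/-- The completed coaugmentation, read in `M`. -/
theorem exists_psi :
    ∃ ψ : ((DRing.derivedCompletion I).obj (RG J (S0.obj (ModuleCat.of A M)))).obj ⟶ S0.obj (ModuleCat.of A M),
      (ObjectProperty.ι (DRing.IsDerivedComplete I)).map
          ((DRing.derivedCompletion I).map ((DRing.RgammaIε J).app (Dual.inD A M))) =
        ψ ≫ DRing.toDerivedCompletion I (Dual.inD A M) ∧
      DRing.toDerivedCompletion I _ ≫ ψ = eI J (S0.obj (ModuleCat.of A M)) := by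
  have := hasRgammaI I
  obtain ⟨ψ, hψ⟩ := (toCompl_bijective I (RG J (S0.obj (ModuleCat.of A M))) _ (isDerivedComplete_finite I M)).2
    (eI J (S0.obj (ModuleCat.of A M)))
  simp only at hψ
  refine ⟨ψ, (toCompl_bijective I _ _ ((DRing.derivedCompletion I).obj _).property).1 ?_, hψ⟩
  show DRing.toDerivedCompletion I _ ≫ _ = DRing.toDerivedCompletion I _ ≫ ψ ≫ DRing.toDerivedCompletion I _
  rw [← Category.assoc, hψ]
  exact ((DRing.derivedCompletionAdj I).unit.naturality ((DRing.RgammaIε J).app (Dual.inD A M))).symm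

/-- The elements whose classes mod every `I^n` are `J`-power torsion. -/
def limTorsion : Set M := {s | ∀ n : ℕ, ∃ k : ℕ, ∀ a ∈ J ^ k, a • s ∈ (I ^ n • ⊤ : Submodule A M)}

omit [DRing.HasRgammaI J] [DRing.HasDerivedCompletion I] [IsNoetherianRing A] [IsAdicComplete I A]
  [Module.Finite A M] in
theorem mk_mem_torsion_iff (s : M) (n : ℕ) :
    (quoPr I M n).hom s ∈ DRing.torsionSub J (quoM I M n) ↔
      ∃ k : ℕ, ∀ a ∈ J ^ k, a • s ∈ (I ^ n • ⊤ : Submodule A M) := by
  refine exists_congr fun k => forall₂_congr fun a _ => ?_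
  rw [← map_smul]
  exact Submodule.Quotient.mk_eq_zero _

theorem h0_spec
    (ψ : ((DRing.derivedCompletion I).obj (RG J (S0.obj (ModuleCat.of A M)))).obj ⟶ S0.obj (ModuleCat.of A M))
    (hψ : DRing.toDerivedCompletion I _ ≫ ψ = eI J (S0.obj (ModuleCat.of A M))) :
    Function.Injective (fun x => (sI (ModuleCat.of A M)).hom.hom ((H₀.map ψ).hom x)) ∧
      Set.range (fun x => (sI (ModuleCat.of A M)).hom.hom ((H₀.map ψ).hom x)) = limTorsion J I M := by
  have := hasRgammaI I
  obtain ⟨F, η, α, c, e, hF, hη, hneg, he⟩ := exists_completion_iso I J (M := M)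
  let p : ∀ n, _ ⟶ Kobj I J M n := fun n => e.hom ≫ α ≫ Pi.π (Kobj I J M) n
  have hkey : ∀ n, ψ ≫ S0.map (quoPr I M n) = p n ≫ eI J (S0.obj (quoM I M n)) := fun n => by
    refine (toCompl_bijective I _ _ (isDerivedComplete_S0_quoM I M n)).1 ?_
    show DRing.toDerivedCompletion I _ ≫ ψ ≫ _ = DRing.toDerivedCompletion I _ ≫ p n ≫ _
    rw [← Category.assoc, hψ, ← Category.assoc, show DRing.toDerivedCompletion I _ ≫ p n = Kpr I J M n by
      rw [← η_π I J hη n, ← he, Category.assoc]]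
    exact (rmap_eI J _).symm
  have hval : ∀ x n, (quoPr I M n).hom ((sI (ModuleCat.of A M)).hom.hom ((H₀.map ψ).hom x)) =
      (sI (quoM I M n)).hom.hom ((H₀.map (eI J (S0.obj (quoM I M n)))).hom ((H₀.map (p n)).hom x)) := fun x n => by
    rw [← sI_natural]
    refine congrArg (sI (quoM I M n)).hom.hom ?_
    rw [← H₀_map_comp, ← H₀_map_comp, hkey]
  have hinj : ∀ n, Function.Injective fun y =>
      (sI (quoM I M n)).hom.hom ((H₀.map (eI J (S0.obj (quoM I M n)))).hom y) :=
    fun n => (sI (quoM I M n)).toLinearEquiv.injective.comp (injective_H0_eI J (quoM I M n))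
  have hαinj : Mono (H₀.map α) := by
    refine (DerivedCategory.HomologySequence.mono_homologyMap_mor₁_iff _ hF (-1) 0 (by norm_num)).2 ?_
    refine IsZero.eq_of_src (H9Misc.DRingCompl.isZ ((H9Misc.DRingCompl.subsingleton_HD_iff _ _).2 ⟨fun a b => ?_⟩)) _ _
    exact Pi.hom_ext _ _ fun k => ((H9Misc.DRingCompl.subsingleton_HD_iff _ _).1
      (subsingleton_HD_RG_single J (quoM I M k) (-1) (by norm_num))).elim _ _
  have hhaus : IsHausdorff I M := (AdicLib.isAdicComplete_of_finite I M).toIsHausdorff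
  have hsep : ∀ s s' : M, (∀ n, (quoPr I M n).hom s = (quoPr I M n).hom s') → s = s' := fun s s' h =>
    sub_eq_zero.1 (hhaus.haus _ fun n => SModEq.zero.2 ((Submodule.Quotient.eq _).1 (h n)))
  constructor
  · intro x x' hxx
    refine (H₀.mapIso e).toLinearEquiv.injective ((ModuleCat.mono_iff_injective _).1 hαinj ?_)
    refine pi_joint_injective _ _ _ fun n => hinj n ?_
    show (sI _).hom.hom ((H₀.map (eI J _)).hom ((H₀.map (Pi.π (Kobj I J M) n)).hom ((H₀.map α).hom ((H₀.map e.hom).hom x)))) =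
      (sI _).hom.hom ((H₀.map (eI J _)).hom ((H₀.map (Pi.π (Kobj I J M) n)).hom ((H₀.map α).hom ((H₀.map e.hom).hom x'))))
    have := congrArg (quoPr I M n).hom hxx
    simp only [hval] at this
    simpa only [p, H₀_map_comp] using this
  · refine Set.Subset.antisymm ?_ fun s hs => ?_
    · rintro _ ⟨x, rfl⟩ n
      rw [← mk_mem_torsion_iff, hval]
      exact mem_torsion_of_eI J _ _
    · choose y hy using fun n => exists_eI_eq J (quoM I M n) ((mk_mem_torsion_iff J I M s n).2 (hs n))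
      obtain ⟨z, hz⟩ := pi_joint_surjective (Kobj I J M) y
      have hcomp : ∀ n, (H₀.map (Kmap I J M (Nat.le_succ n))).hom (y (n + 1)) = y n := fun n => hinj n (by
        show (sI _).hom.hom ((H₀.map (eI J _)).hom _) = (sI _).hom.hom ((H₀.map (eI J _)).hom _)
        rw [← H₀_map_comp, rmap_eI, H₀_map_comp, sI_natural, hy, hy]
        rfl)
      have hz0 : (H₀.map (Pi.lift fun n => Pi.π (Kobj I J M) n - Pi.π (Kobj I J M) (n + 1) ≫
          Kmap I J M (Nat.le_succ n))).hom z = 0 := pi_joint_injective _ _ _ fun n => by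
        rw [map_zero, ← H₀_map_comp, Pi.lift_π, Functor.map_sub, ModuleCat.hom_sub, LinearMap.sub_apply,
          H₀_map_comp, hz, hz, hcomp, sub_self]
      obtain ⟨w, hw⟩ := (ShortComplex.moduleCat_exact_iff _).1
        (DerivedCategory.HomologySequence.exact₂ _ hF 0) z hz0
      obtain ⟨x, rfl⟩ := (H₀.mapIso e).toLinearEquiv.surjective w
      refine ⟨x, hsep _ _ fun n => ?_⟩
      rw [hval, ← hy n, ← hz n, ← hw]
      simp only [p, H₀_map_comp]
      rfl

omit [DRing.HasRgammaI J] [DRing.HasDerivedCompletion I] [IsAdicComplete I A] in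

theorem limTorsion_eq :
    limTorsion J I M = {s : M | ∃ J' : Ideal A, J' ≤ J ∧ J ≤ (J' ⊔ I).radical ∧ s ∈ DRing.torsionSub J' M} := by
  ext s
  constructor
  · intro hs
    let S : Submodule A M := A ∙ s
    obtain ⟨c, hc⟩ := I.exists_pow_inf_eq_pow_smul S
    refine ⟨J ⊓ LinearMap.ker (LinearMap.toSpanSingleton A M s), inf_le_left, fun a ha => ?_,
      1, fun a ha => by
        rw [pow_one] at ha
        exact ha.2⟩
    obtain ⟨k, hk⟩ := hs (c + 1)
    have hmem : a ^ k • s ∈ I • S := by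
      have h1 : a ^ k • s ∈ I ^ (c + 1) • ⊤ ⊓ S :=
        ⟨hk _ (Ideal.pow_mem_pow ha k), S.smul_mem _ (Submodule.mem_span_singleton_self s)⟩
      rw [hc (c + 1) (Nat.le_succ c), Nat.add_sub_cancel_left, pow_one] at h1
      exact Submodule.smul_mono le_rfl inf_le_right h1
    obtain ⟨i, hi, his⟩ := Submodule.mem_smul_span_singleton.1 hmem
    refine ⟨k + 1, Submodule.mem_sup.2 ⟨a * (a ^ k - i), ⟨Ideal.mul_mem_right _ _ ha, ?_⟩, a * i,
      Ideal.mul_mem_left _ _ hi, by ring⟩⟩
    show (a * (a ^ k - i)) • s = 0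
    rw [mul_smul, sub_smul, his, sub_self, smul_zero]
  · rintro ⟨J', -, hJ, p, hp⟩ n
    have hle : J ≤ (J' ^ p ⊔ I ^ n).radical := by
      refine hJ.trans (Ideal.radical_le_radical_iff.2 (sup_le ?_ ?_))
      · exact fun a ha => ⟨p, Ideal.mem_sup_left (Ideal.pow_mem_pow ha p)⟩
      · exact fun a ha => ⟨n, Ideal.mem_sup_right (Ideal.pow_mem_pow ha n)⟩
    obtain ⟨k, hk⟩ := Ideal.exists_pow_le_of_le_radical_of_fg hle (IsNoetherian.noetherian J)
    refine ⟨k, fun a ha => ?_⟩
    obtain ⟨b, hb, d, hd, rfl⟩ := Submodule.mem_sup.1 (hk ha)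
    rw [add_smul, hp b hb, zero_add]
    exact Submodule.smul_mem_smul hd Submodule.mem_top

end Groth.Agent.LocDual54
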