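import Groth.Agent.LocDual54.H1Fin
import Groth.Agent.FlatLoc6.Loc

/-!
# Finiteness of the first local cohomology from the completions
-/

set_option linter.style.haveILetI false

universe u

open CategoryTheory IsLocalRing

open scoped TensorProduct

namespace Groth.Agent.LocDual54

attribute [local instance] HasDerivedCategory.standard

/-- Local finiteness passes to flat base change. -/
theorem finite_localized_tensor {R C : Type u} [CommRing R] [CommRing C] [Algebra R C] (Q : Ideal C) [Q.IsPrime]
    (H : Type u) [AddCommGroup H] [Module R H]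
    (h : Module.Finite (Localization.AtPrime (Q.comap (algebraMap R C)))
      (LocalizedModule (Q.comap (algebraMap R C)).primeCompl H)) :
    Module.Finite (Localization.AtPrime Q) (LocalizedModule Q.primeCompl (C ⊗[R] H)) := by
  let p := Q.comap (algebraMap R C)
  haveI : Q.LiesOver p := ⟨rfl⟩
  letI := Localization.AtPrime.algebraOfLiesOver p Q
  obtain ⟨e⟩ := FlatLoc6.exists_tensorLoc (A := R) (B := C) C H p Q
  haveI : Module.Finite (Localization.AtPrime p) (Localization.AtPrime p ⊗[R] H) :=
    Module.Finite.equiv (LocalizedModule.equivTensorProduct p.primeCompl H)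
  exact Module.Finite.equiv e.symm

/-- Finiteness of a localization of a localization. -/
theorem finite_locLoc {A : Type u} [CommRing A] (S : Submonoid A) {X : Type u} [AddCommGroup X] [Module A X]
    (r : Ideal (Localization S)) [r.IsPrime]
    (h : Module.Finite (Localization.AtPrime (r.comap (algebraMap A (Localization S))))
      (LocalizedModule (r.comap (algebraMap A (Localization S))).primeCompl X)) :
    Module.Finite (Localization.AtPrime r) (LocalizedModule r.primeCompl (LocalizedModule S X)) := by
  let p := r.comap (algebraMap A (Localization S))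
  let f := Alg6.locLocMap S X r
  let φ := IsLocalizedModule.iso p.primeCompl f
  obtain ⟨g, hg⟩ := h.fg_top
  classical
  refine ⟨⟨g.image φ, top_le_iff.1 fun z _ => ?_⟩⟩
  obtain ⟨w, rfl⟩ := φ.surjective z
  have hw : w ∈ Submodule.span (Localization.AtPrime p) (g : Set (LocalizedModule p.primeCompl X)) := hg ▸ Submodule.mem_top
  induction hw using Submodule.span_induction with
  | mem y hy => exact Submodule.subset_span (Finset.mem_coe.2 (Finset.mem_image_of_mem φ hy))
  | zero => rw [map_zero]; exact Submodule.zero_mem _
  | add a b _ _ ha hb => rw [map_add]; exact Submodule.add_mem _ (ha trivial) (hb trivial)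
  | smul c y _ hy =>
    have := Alg6.iso_semilinear p (Localization.AtPrime r) f c y
    exact this ▸ Submodule.smul_mem _ _ (hy trivial)

variable {A : Type u} [CommRing A] [IsNoetherianRing A] (I : Ideal A) (M : Type u) [AddCommGroup M] [Module A M]
  [Module.Finite A M]

omit [IsNoetherianRing A] in
/-- The pairs ending at the closed point. -/
theorem one_lt_pair_closedPoint {C : Type u} [CommRing C] [IsLocalRing C] [IsNoetherianRing C]
    (hcat : CAlg.IsCatenary C) (N : Type u) [AddCommGroup N] [Module C N] [Module.Finite C N]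
    (P : PrimeSpectrum C) (hPQ : P ≤ closedPoint C) (hne : P ≠ closedPoint C)
    (h : P.asIdeal ∈ associatedPrimes C N → (2 : WithBot ℕ∞) ≤ ringKrullDim (C ⧸ P.asIdeal)) :
    ((1 : ℕ) : ℕ∞) < LocCoh.depth (Localization.AtPrime P.asIdeal) (LocalizedModule P.asIdeal.primeCompl N) +
      Order.height (⟨closedPoint C, hPQ⟩ : Set.Ici P) := by
  obtain ⟨δ, hδ, hqd⟩ := height_Ici_eq_qd hcat hPQ
  have hQ0 : FormCat.qd C (closedPoint C).asIdeal = 0 := by
    have : ringKrullDim (C ⧸ maximalIdeal C) = 0 :=
      ringKrullDim_eq_zero_of_isField ((Ideal.Quotient.maximal_ideal_iff_isField_quotient _).1 inferInstance)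
    rw [FormCat.coe_qd C _ (maximalIdeal.isMaximal C).ne_top] at this
    show FormCat.qd C (maximalIdeal C) = 0
    exact_mod_cast this
  have hlt := qd_strictAnti (lt_of_le_of_ne hPQ hne)
  rw [hδ]
  by_cases hass : P.asIdeal ∈ associatedPrimes C N
  · have h2 := h hass
    rw [FormCat.coe_qd C _ P.2.ne_top] at h2
    have h2' : 2 ≤ FormCat.qd C P.asIdeal := by exact_mod_cast h2
    calc ((1 : ℕ) : ℕ∞) < (δ : ℕ∞) := by exact_mod_cast (show 1 < δ by omega)
      _ ≤ _ := le_add_self
  · calc ((1 : ℕ) : ℕ∞) < 1 + 1 := by norm_num
      _ ≤ _ := add_le_add ((Alg6.one_le_depth_atPrime_iff P.asIdeal).2 hass)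
        (by exact_mod_cast (show 1 ≤ δ by omega))

/-- Finiteness of `H^1` from the associated points of the completed local rings. -/
theorem finTo_one_of_completions
    (h : ∀ q : PrimeSpectrum A, I ≤ q.asIdeal →
      ∀ P ∈ associatedPrimes (AdicCompletion (maximalIdeal (Localization.AtPrime q.asIdeal)) (Localization.AtPrime q.asIdeal))
        (AdicCompletion (maximalIdeal (Localization.AtPrime q.asIdeal)) (Localization.AtPrime q.asIdeal)
          ⊗[Localization.AtPrime q.asIdeal] LocalizedModule q.asIdeal.primeCompl M),
        ¬ I.map (algebraMap A (AdicCompletion (maximalIdeal (Localization.AtPrime q.asIdeal))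
          (Localization.AtPrime q.asIdeal))) ≤ P →
        (2 : WithBot ℕ∞) ≤ ringKrullDim (AdicCompletion (maximalIdeal (Localization.AtPrime q.asIdeal))
          (Localization.AtPrime q.asIdeal) ⧸ P)) :
    FinTo I M 1 := by
  rw [finTo_iff_localizations]
  suffices key : ∀ d : ℕ, ∀ q : PrimeSpectrum A, ht q ≤ d →
      FinTo (I.map (algebraMap A (Localization.AtPrime q.asIdeal))) (LocalizedModule q.asIdeal.primeCompl M) 1 from
    fun q _ => key _ q le_rfl
  intro d
  induction d using Nat.strong_induction_on with
  | _ d ih =>
  intro q hd i hi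
  by_cases hIq : I ≤ q.asIdeal
  swap
  · obtain ⟨e⟩ := LC.exists_localizedH I M q.asIdeal i
    have : Subsingleton (LocalizedModule q.asIdeal.primeCompl ((localCohomology I i).obj (ModuleCat.of A M))) :=
      Module.notMem_support_iff.1 fun hs => hIq (LC.le_prime_of_mem_support_H I M hs)
    exact Module.Finite.equiv_iff e |>.1 inferInstance
  let R := Localization.AtPrime q.asIdeal
  let C := AdicCompletion (maximalIdeal R) R
  let Mq := LocalizedModule q.asIdeal.primeCompl M
  haveI : IsNoetherianRing R := IsLocalization.isNoetherianRing q.asIdeal.primeCompl _ inferInstance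
  haveI : Module.Finite R Mq := Module.Finite.of_isLocalizedModule q.asIdeal.primeCompl (LocalizedModule.mkLinearMap _ _)
  haveI := FlatLoc6.isLocalRing_cpl R
  haveI := FlatLoc6.isNoetherianRing_cpl R
  haveI := isAdicComplete_maximal (A := R)
  let J := (I.map (algebraMap A R)).map (algebraMap R C)
  refine (finTo_iff_completion _ Mq 1).2 ?_ i hi
  rw [finTo_iff_lt_cutoff_completion, lt_cutoff_iff]
  intro P Q hPQ hP hQ
  by_cases hQm : Q = closedPoint C
  · subst hQm
    refine one_lt_pair_closedPoint (FormCat.isCatenary_of_complete (B := C)) (C ⊗[R] Mq) P hPQ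
      (fun e => hP (e ▸ hQ)) fun hass => h q hIq P.asIdeal hass fun hle => hP ?_
    refine (le_of_eq ?_).trans hle
    exact (Ideal.map_map _ _).trans (by rw [← IsScalarTower.algebraMap_eq])
  · refine lt_pair_of_lt_cutoff_localization J (C ⊗[R] Mq) 1 P Q hPQ hP hQ ?_
    obtain ⟨ω, hω⟩ := KFlatLib.exists_isDualizing_of_complete C
    haveI := KFlatLib.hasLBase (algebraMap C (Localization.AtPrime Q.asIdeal))
    haveI : IsNoetherianRing (Localization.AtPrime Q.asIdeal) :=
      IsLocalization.isNoetherianRing Q.asIdeal.primeCompl _ inferInstance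
    haveI : Module.Finite (Localization.AtPrime Q.asIdeal) (LocalizedModule Q.asIdeal.primeCompl (C ⊗[R] Mq)) :=
      Module.Finite.of_isLocalizedModule Q.asIdeal.primeCompl (LocalizedModule.mkLinearMap _ _)
    refine (finTo_iff_lt_cutoff_of_dualizing _ (Dual59.isDualizing_localized hω Q.asIdeal) _ 1).1 fun j hj => ?_
    obtain ⟨e⟩ := LC.exists_localizedH J (C ⊗[R] Mq) Q.asIdeal j
    refine Module.Finite.equiv_iff e |>.1 ?_
    obtain ⟨eb⟩ := LC.exists_baseChange (R' := C) (I.map (algebraMap A R)) j Mq
    have hfin : Module.Finite (Localization.AtPrime Q.asIdeal) (LocalizedModule Q.asIdeal.primeCompl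
        (C ⊗[R] (localCohomology (I.map (algebraMap A R)) j).obj (ModuleCat.of R Mq))) := by
      refine finite_localized_tensor Q.asIdeal _ ?_
      let r := Q.comap (algebraMap R C)
      have hlt : ht (r.comap (algebraMap A R)) < ht q := by
        refine ht_lt (lt_of_le_of_ne ?_ fun e1 => hQm ?_)
        · exact (Ideal.comap_mono (le_maximalIdeal r.2.ne_top)).trans_eq (IsLocalization.AtPrime.comap_maximalIdeal R q.asIdeal)
        · have e2 : r.asIdeal = maximalIdeal R := by
            rw [← IsLocalization.map_comap q.asIdeal.primeCompl R r.asIdeal,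
              ← IsLocalization.map_comap q.asIdeal.primeCompl R (maximalIdeal R)]
            exact congrArg (Ideal.map _) ((congrArg PrimeSpectrum.asIdeal e1).trans
              (IsLocalization.AtPrime.comap_maximalIdeal R q.asIdeal).symm)
          refine PrimeSpectrum.ext (le_antisymm (le_maximalIdeal Q.2.ne_top) ?_)
          show maximalIdeal C ≤ Q.asIdeal
          rw [AdicCompletion.maximalIdeal_eq_map_of_fg (IsNoetherian.noetherian (maximalIdeal R))]
          exact Ideal.map_le_iff_le_comap.2 e2.ge
      have h' := ih (ht (r.comap (algebraMap A R))) (lt_of_lt_of_le hlt hd) (r.comap (algebraMap A R)) le_rfl j hj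
      obtain ⟨e'⟩ := LC.exists_localizedH I M (r.comap (algebraMap A R)).asIdeal j
      have h'' := Module.Finite.equiv_iff e' |>.2 h'
      obtain ⟨e0⟩ := LC.exists_localizedH I M q.asIdeal j
      -- the local cohomology over `R` at `r` is that over `A` at the contraction
      have h3 : Module.Finite (Localization.AtPrime (Q.asIdeal.comap (algebraMap R C))) (LocalizedModule (Q.asIdeal.comap (algebraMap R C)).primeCompl
          (LocalizedModule q.asIdeal.primeCompl ((localCohomology I j).obj (ModuleCat.of A M)))) :=
        finite_locLoc q.asIdeal.primeCompl (Q.asIdeal.comap (algebraMap R C)) h''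
      exact Module.Finite.equiv (IsLocalizedModule.mapEquiv (Q.asIdeal.comap (algebraMap R C)).primeCompl
        (LocalizedModule.mkLinearMap (Q.asIdeal.comap (algebraMap R C)).primeCompl _)
        (LocalizedModule.mkLinearMap (Q.asIdeal.comap (algebraMap R C)).primeCompl _)
        (Localization.AtPrime (Q.asIdeal.comap (algebraMap R C))) e0)
    exact Module.Finite.equiv (IsLocalizedModule.mapEquiv Q.asIdeal.primeCompl
      (LocalizedModule.mkLinearMap Q.asIdeal.primeCompl _) (LocalizedModule.mkLinearMap Q.asIdeal.primeCompl _)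
      (Localization.AtPrime Q.asIdeal) eb)

end Groth.Agent.LocDual54
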