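import Groth.Agent.LocDual54.H1Cpl
import Groth.Agent.LocDual54.CplDual
import Groth.Agent.CAlgOdd.AssTensor
import Groth.Agent.CAlgOdd.NagataFT.Unramified
import Groth.Agent.NagataLib.Localization

/-!
# Criteria for finiteness of the first local cohomology
-/

set_option linter.style.haveILetI false

universe u

open CategoryTheory IsLocalRing

open scoped TensorProduct

namespace Groth.Agent.LocDual54

/-- Associated primes of a quotient ring, seen in an isomorphic ring. -/
theorem exists_ass_of_surjective {C D : Type u} [CommRing C] [IsNoetherianRing C] [CommRing D] [IsNoetherianRing D]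
    (ψ : C →+* D) (hψ : Function.Surjective ψ) {J : Ideal C} (hJ : RingHom.ker ψ = J) {P : Ideal C}
    (hP : P ∈ associatedPrimes C (C ⧸ J)) :
    ∃ P' ∈ associatedPrimes D D, P'.comap ψ = P ∧ ringKrullDim (C ⧸ P) = ringKrullDim (D ⧸ P') := by
  obtain ⟨hPp, z, hz⟩ := Alg6.mem_ass_iff.1 hP
  obtain ⟨x, rfl⟩ := Ideal.Quotient.mk_surjective z
  have hz' : ∀ a, a ∈ P ↔ ψ a * ψ x = 0 := fun a => by
    rw [hz a, ← map_mul, ← RingHom.mem_ker, hJ]
    exact Ideal.Quotient.eq_zero_iff_mem (a := a * x)
  have hker : RingHom.ker ψ ≤ P := fun a ha => (hz' a).2 (by rw [RingHom.mem_ker.1 ha, zero_mul])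
  have hc : (P.map ψ).comap ψ = P := by
    rw [Ideal.comap_map_of_surjective ψ hψ, ← RingHom.ker_eq_comap_bot, sup_eq_left.2 hker]
  refine ⟨P.map ψ, Alg6.mem_ass_iff.2 ⟨Ideal.map_isPrime_of_surjective hψ hker, ψ x, fun b => ?_⟩, hc, ?_⟩
  · obtain ⟨a, rfl⟩ := hψ b
    rw [smul_eq_mul, ← hz', ← Ideal.mem_comap, hc]
  · have hk : RingHom.ker ((Ideal.Quotient.mk (P.map ψ)).comp ψ) = P := by
      rw [← RingHom.comap_ker, Ideal.mk_ker, hc]
    exact ringKrullDim_eq_of_ringEquiv ((Ideal.quotEquivOfEq hk.symm).trans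
      (RingHom.quotientKerEquivOfSurjective (Ideal.Quotient.mk_surjective.comp hψ)))

/-- Associated primes of a reduced ring are minimal. -/
theorem mem_minimalPrimes_of_ass_reduced {C : Type u} [CommRing C] [IsNoetherianRing C] [IsReduced C] {P : Ideal C}
    (hP : P ∈ associatedPrimes C C) : P ∈ minimalPrimes C := by
  obtain ⟨hPp, x, hx⟩ := Alg6.mem_ass_iff.1 hP
  have hx0 : x ≠ 0 := fun e => hPp.ne_top ((Ideal.eq_top_iff_one P).2 ((hx 1).2 (by rw [e, smul_zero])))
  obtain ⟨Q, hQ, hxQ⟩ : ∃ Q ∈ minimalPrimes C, x ∉ Q := by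
    by_contra hne
    push Not at hne
    apply hx0
    have : x ∈ nilradical C := by
      rw [nilradical, ← Ideal.sInf_minimalPrimes]
      exact Submodule.mem_sInf.2 hne
    rwa [nilradical_eq_zero] at this
  have := hQ.1.1
  have hle : P ≤ Q := fun a ha => (this.mem_or_mem (by
    rw [← smul_eq_mul, (hx a).1 ha]; exact Q.zero_mem)).resolve_right hxQ
  rwa [le_antisymm hle (hQ.2 ⟨hPp, bot_le⟩ hle)]

/-- A property of the associated primes of the completion at an ideal equal to the maximal one. -/
theorem ass_dim_congr {B : Type u} [CommRing B] {J J' : Ideal B} (e : J = J')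
    (h : ∀ P ∈ associatedPrimes (AdicCompletion J B) (AdicCompletion J B),
      (2 : WithBot ℕ∞) ≤ ringKrullDim (AdicCompletion J B ⧸ P)) :
    ∀ P ∈ associatedPrimes (AdicCompletion J' B) (AdicCompletion J' B),
      (2 : WithBot ℕ∞) ≤ ringKrullDim (AdicCompletion J' B ⧸ P) := e ▸ h

variable {R : Type u} [CommRing R] [IsLocalRing R] [IsNoetherianRing R]

/-- Associated primes of the completed module come from the completed quotients. -/
theorem exists_ass_of_ass_completion (M : Type u) [AddCommGroup M] [Module R M]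
    {P : Ideal (AdicCompletion (maximalIdeal R) R)}
    (hP : P ∈ associatedPrimes (AdicCompletion (maximalIdeal R) R) (AdicCompletion (maximalIdeal R) R ⊗[R] M)) :
    ∃ p ∈ associatedPrimes R M, P ∈ associatedPrimes (AdicCompletion (maximalIdeal R) R)
      (AdicCompletion (maximalIdeal R) R ⧸ p.map (algebraMap R (AdicCompletion (maximalIdeal R) R))) := by
  haveI := FlatLoc6.isNoetherianRing_cpl R
  haveI : Module.FaithfullyFlat R (AdicCompletion (maximalIdeal R) R) := FlatLoc6.faithfullyFlat_cpl R
  rw [CAlgOdd.AssTensor.associatedPrimes_eq (N := AdicCompletion (maximalIdeal R) R) M] at hP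
  simp only [Set.mem_iUnion, exists_prop] at hP
  obtain ⟨p, hp, hP⟩ := hP
  refine ⟨p, hp, ?_⟩
  rwa [LinearEquiv.AssociatedPrimes.eq (Submodule.quotEquivOfEq _ _ (show
    p.map (algebraMap R (AdicCompletion (maximalIdeal R) R)) •
      (⊤ : Submodule (AdicCompletion (maximalIdeal R) R) (AdicCompletion (maximalIdeal R) R)) =
      p.map (algebraMap R (AdicCompletion (maximalIdeal R) R)) by rw [Ideal.smul_eq_mul, Ideal.mul_top]))] at hP

/-- The condition on the completion of a quotient. -/
theorem two_le_dim_of_quotient (p : Ideal R) [IsLocalRing (R ⧸ p)]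
    (h : ∀ P ∈ associatedPrimes (EGA4.Cpl (R ⧸ p)) (EGA4.Cpl (R ⧸ p)),
      (2 : WithBot ℕ∞) ≤ ringKrullDim (EGA4.Cpl (R ⧸ p) ⧸ P))
    {P : Ideal (AdicCompletion (maximalIdeal R) R)}
    (hP : P ∈ associatedPrimes (AdicCompletion (maximalIdeal R) R)
      (AdicCompletion (maximalIdeal R) R ⧸ p.map (algebraMap R (AdicCompletion (maximalIdeal R) R)))) :
    (2 : WithBot ℕ∞) ≤ ringKrullDim (AdicCompletion (maximalIdeal R) R ⧸ P) := by
  haveI := FlatLoc6.isNoetherianRing_cpl R
  haveI := FlatLoc6.isNoetherianRing_cpl (R ⧸ p)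
  obtain ⟨e⟩ := FormalFib6.exists_cplQuotEquiv R (R ⧸ p) Ideal.Quotient.mk_surjective
  let ε : (EGA4.Cpl R ⧸ p.map (algebraMap R (EGA4.Cpl R))) ≃+* EGA4.Cpl (R ⧸ p) :=
    ((Algebra.TensorProduct.quotIdealMapEquivTensorQuot (EGA4.Cpl R) p).toRingEquiv.trans
      (Algebra.TensorProduct.comm R (EGA4.Cpl R) (R ⧸ p)).toRingEquiv).trans e.toRingEquiv
  obtain ⟨P', hP', -, he⟩ := exists_ass_of_surjective (C := EGA4.Cpl R)
    (ε.toRingHom.comp (Ideal.Quotient.mk _)) (ε.surjective.comp Ideal.Quotient.mk_surjective)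
    (J := p.map (algebraMap R (EGA4.Cpl R)))
    (by rw [RingHom.ker_comp_of_injective _ ε.injective, Ideal.mk_ker]) hP
  exact (h P' hP').trans_eq he.symm

/-- Over a Nagata universally catenary local ring the associated primes of a completed quotient have full dimension. -/
theorem qd_ass_completion_of_nagata (hN : CAlg.IsNagata R) (hU : CAlg.IsUniversallyCatenary R) (p : Ideal R)
    [p.IsPrime] {P : Ideal (AdicCompletion (maximalIdeal R) R)}
    (hP : P ∈ associatedPrimes (AdicCompletion (maximalIdeal R) R)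
      (AdicCompletion (maximalIdeal R) R ⧸ p.map (algebraMap R (AdicCompletion (maximalIdeal R) R)))) :
    haveI := FlatLoc6.isLocalRing_cpl R
    FormCat.qd (AdicCompletion (maximalIdeal R) R) P = FormCat.qd R p := by
  haveI := FlatLoc6.isLocalRing_cpl R
  haveI := FlatLoc6.isNoetherianRing_cpl R
  haveI : Module.FaithfullyFlat R (AdicCompletion (maximalIdeal R) R) := FlatLoc6.faithfullyFlat_cpl R
  have hmax : (maximalIdeal R).map (algebraMap R (AdicCompletion (maximalIdeal R) R)) =
      maximalIdeal (AdicCompletion (maximalIdeal R) R) :=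
    (AdicCompletion.maximalIdeal_eq_map_of_fg (IsNoetherian.noetherian (maximalIdeal R))).symm
  haveI : Module.Finite R (R ⧸ p) := inferInstance
  haveI : IsReduced ((R ⧸ p) ⊗[R] AdicCompletion (maximalIdeal R) R) := by
    refine CAlgOdd.NagataFT.isReduced_tensor (maximalIdeal R) (AdicCompletion (maximalIdeal R) R) hmax ?_ (R ⧸ p)
      (N12Aux.isNagata_of_surjective (Ideal.Quotient.mk _) Ideal.Quotient.mk_surjective hN)
    intro c
    obtain ⟨a, ha⟩ := mk_comp_algebraMap_surjective (maximalIdeal R) (Ideal.Quotient.mk _ c)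
    exact ⟨a, Ideal.Quotient.eq.1 ha.symm⟩
  let e2 : (AdicCompletion (maximalIdeal R) R ⧸ p.map (algebraMap R (AdicCompletion (maximalIdeal R) R))) ≃+*
      (R ⧸ p) ⊗[R] AdicCompletion (maximalIdeal R) R :=
    (Algebra.TensorProduct.quotIdealMapEquivTensorQuot (AdicCompletion (maximalIdeal R) R) p).toRingEquiv.trans
      (Algebra.TensorProduct.comm R (AdicCompletion (maximalIdeal R) R) (R ⧸ p)).toRingEquiv
  let ψ : AdicCompletion (maximalIdeal R) R →+* (R ⧸ p) ⊗[R] AdicCompletion (maximalIdeal R) R :=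
    e2.toRingHom.comp (Ideal.Quotient.mk (p.map (algebraMap R (AdicCompletion (maximalIdeal R) R))))
  have hψ : Function.Surjective ψ := e2.surjective.comp Ideal.Quotient.mk_surjective
  have hker : RingHom.ker ψ = p.map (algebraMap R (AdicCompletion (maximalIdeal R) R)) :=
    (RingHom.ker_comp_of_injective _ e2.injective).trans Ideal.mk_ker
  haveI := isNoetherianRing_of_surjective _ _ ψ hψ
  obtain ⟨P', hP', hc, -⟩ := exists_ass_of_surjective ψ hψ hker hP
  have hmin := mem_minimalPrimes_of_ass_reduced hP'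
  refine qd_minimal_cpl hU p P ?_
  rw [← hc, ← hker, RingHom.ker_eq_comap_bot]
  exact Ideal.minimalPrimes_comap_of_surjective hψ hmin

attribute [local instance] HasDerivedCategory.standard

variable {A : Type u} [CommRing A] [IsNoetherianRing A] (I : Ideal A) (M : Type u) [AddCommGroup M] [Module A M]
  [Module.Finite A M]

omit [Module.Finite A M] in
/-- The associated points over a prime which give associated primes of the completion. -/
theorem exists_ass_base (q : PrimeSpectrum A)
    {P : Ideal (AdicCompletion (maximalIdeal (Localization.AtPrime q.asIdeal)) (Localization.AtPrime q.asIdeal))}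
    (hP : P ∈ associatedPrimes (AdicCompletion (maximalIdeal (Localization.AtPrime q.asIdeal)) (Localization.AtPrime q.asIdeal))
      (AdicCompletion (maximalIdeal (Localization.AtPrime q.asIdeal)) (Localization.AtPrime q.asIdeal)
        ⊗[Localization.AtPrime q.asIdeal] LocalizedModule q.asIdeal.primeCompl M))
    (hIP : ¬ I.map (algebraMap A (AdicCompletion (maximalIdeal (Localization.AtPrime q.asIdeal))
      (Localization.AtPrime q.asIdeal))) ≤ P) :
    ∃ p : Ideal A, p ∈ associatedPrimes A M ∧ ¬ I ≤ p ∧ p ≤ q.asIdeal ∧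
      (p.map (algebraMap A (Localization.AtPrime q.asIdeal))).IsPrime ∧
      P ∈ associatedPrimes (AdicCompletion (maximalIdeal (Localization.AtPrime q.asIdeal)) (Localization.AtPrime q.asIdeal))
        (AdicCompletion (maximalIdeal (Localization.AtPrime q.asIdeal)) (Localization.AtPrime q.asIdeal) ⧸
          (p.map (algebraMap A (Localization.AtPrime q.asIdeal))).map (algebraMap (Localization.AtPrime q.asIdeal)
            (AdicCompletion (maximalIdeal (Localization.AtPrime q.asIdeal)) (Localization.AtPrime q.asIdeal)))) := by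
  have : IsNoetherianRing (Localization.AtPrime q.asIdeal) :=
    IsLocalization.isNoetherianRing q.asIdeal.primeCompl _ inferInstance
  haveI := FlatLoc6.isNoetherianRing_cpl (Localization.AtPrime q.asIdeal)
  obtain ⟨p₁, hp₁, hP₁⟩ := exists_ass_of_ass_completion _ hP
  have hm : (p₁.comap (algebraMap A (Localization.AtPrime q.asIdeal))).map (algebraMap A (Localization.AtPrime q.asIdeal)) = p₁ :=
    IsLocalization.map_comap q.asIdeal.primeCompl _ p₁
  have hp₁' : p₁ ∈ Ideal.comap (algebraMap A (Localization.AtPrime q.asIdeal)) ⁻¹' (associatedPrimes A M) := by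
    rw [Module.associatedPrimes.preimage_comap_associatedPrimes_eq_associatedPrimes_of_isLocalizedModule
      q.asIdeal.primeCompl (Localization.AtPrime q.asIdeal) (LocalizedModule.mkLinearMap q.asIdeal.primeCompl M)]
    exact hp₁
  refine ⟨_, hp₁', fun hle => hIP ?_, ?_, by rw [hm]; exact (AssociatedPrimes.mem_iff.1 hp₁).isPrime, by rwa [hm]⟩
  · obtain ⟨-, z, hz⟩ := Alg6.mem_ass_iff.1 hP₁
    rw [IsScalarTower.algebraMap_eq A (Localization.AtPrime q.asIdeal), ← Ideal.map_map]
    refine (Ideal.map_mono (Ideal.map_le_iff_le_comap.2 hle)).trans fun a ha => (hz a).2 ?_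
    obtain ⟨y, rfl⟩ := Ideal.Quotient.mk_surjective z
    exact Ideal.Quotient.eq_zero_iff_mem.2 (Ideal.mul_mem_right _ _ ha)
  · exact (Ideal.comap_mono (le_maximalIdeal (AssociatedPrimes.mem_iff.1 hp₁).isPrime.ne_top)).trans_eq
      (IsLocalization.AtPrime.comap_maximalIdeal _ q.asIdeal)

/-- Kollár's criterion. -/
theorem finTo_one_of_kollar
    (h : ∀ p : Ideal A, p ∈ associatedPrimes A M → ¬ I ≤ p → ∀ (q : PrimeSpectrum A), p ≤ q.asIdeal → I ≤ q.asIdeal →
      ∀ P ∈ associatedPrimes
        (AdicCompletion ((maximalIdeal (Localization.AtPrime q.asIdeal)).map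
          (Ideal.Quotient.mk (p.map (algebraMap A (Localization.AtPrime q.asIdeal)))))
          (Localization.AtPrime q.asIdeal ⧸ p.map (algebraMap A (Localization.AtPrime q.asIdeal))))
        (AdicCompletion ((maximalIdeal (Localization.AtPrime q.asIdeal)).map
          (Ideal.Quotient.mk (p.map (algebraMap A (Localization.AtPrime q.asIdeal)))))
          (Localization.AtPrime q.asIdeal ⧸ p.map (algebraMap A (Localization.AtPrime q.asIdeal)))),
        (2 : WithBot ℕ∞) ≤ ringKrullDim
          (AdicCompletion ((maximalIdeal (Localization.AtPrime q.asIdeal)).map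
            (Ideal.Quotient.mk (p.map (algebraMap A (Localization.AtPrime q.asIdeal)))))
            (Localization.AtPrime q.asIdeal ⧸ p.map (algebraMap A (Localization.AtPrime q.asIdeal))) ⧸ P)) :
    FinTo I M 1 := by
  refine finTo_one_of_completions I M fun q hq P hP hIP => ?_
  have : IsNoetherianRing (Localization.AtPrime q.asIdeal) :=
    IsLocalization.isNoetherianRing q.asIdeal.primeCompl _ inferInstance
  obtain ⟨p, hp, hIp, hpq, hprime, hP'⟩ := exists_ass_base I M q hP hIP
  haveI : IsLocalRing (Localization.AtPrime q.asIdeal ⧸ p.map (algebraMap A (Localization.AtPrime q.asIdeal))) :=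
    .of_surjective' _ Ideal.Quotient.mk_surjective
  exact two_le_dim_of_quotient _ (ass_dim_congr
    (IsLocalRing.map_maximalIdeal_of_surjective _ Ideal.Quotient.mk_surjective) (h p hp hIp q hpq hq)) hP'

/-- The criterion over Nagata universally catenary rings. -/
theorem finTo_one_of_nagata (hN : CAlg.IsNagata A) (hU : CAlg.IsUniversallyCatenary A)
    (h : ∀ (p q : PrimeSpectrum A) (hpq : p ≤ q), p.asIdeal ∈ associatedPrimes A M → ¬ I ≤ p.asIdeal →
      I ≤ q.asIdeal → (2 : ℕ∞) ≤ Order.height (⟨q, hpq⟩ : Set.Ici p)) :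
    FinTo I M 1 := by
  refine finTo_one_of_completions I M fun q hq P hP hIP => ?_
  have : IsNoetherianRing (Localization.AtPrime q.asIdeal) :=
    IsLocalization.isNoetherianRing q.asIdeal.primeCompl _ inferInstance
  haveI := FlatLoc6.isLocalRing_cpl (Localization.AtPrime q.asIdeal)
  haveI := FlatLoc6.isNoetherianRing_cpl (Localization.AtPrime q.asIdeal)
  obtain ⟨p, hp, hIp, hpq, hprime, hP'⟩ := exists_ass_base I M q hP hIP
  have hU' := DimFormula.isUniversallyCatenary_localization hU q.asIdeal.primeCompl (Localization.AtPrime q.asIdeal)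
  have hqd := qd_ass_completion_of_nagata
    (NagataLib.isNagata_of_isLocalization hN q.asIdeal.primeCompl (Localization.AtPrime q.asIdeal)) hU' _ hP'
  rw [FormCat.coe_qd _ P (AssociatedPrimes.mem_iff.1 hP).isPrime.ne_top, hqd]
  let P₁ : PrimeSpectrum (Localization.AtPrime q.asIdeal) := ⟨p.map (algebraMap A _), hprime⟩
  have hle : P₁ ≤ closedPoint _ := le_maximalIdeal hprime.ne_top
  obtain ⟨δ, hδ, he⟩ := height_Ici_eq_qd (hU'.2 _ inferInstance) hle
  have hpp : p.IsPrime := (AssociatedPrimes.mem_iff.1 hp).isPrime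
  have h1 : P₁.comap (algebraMap A (Localization.AtPrime q.asIdeal)) = ⟨p, hpp⟩ :=
    PrimeSpectrum.ext (IsLocalization.under_map_of_isPrime_disjoint q.asIdeal.primeCompl _ hpp
      (Set.disjoint_left.2 fun a ha hap => ha (hpq hap)))
  have h2 : (closedPoint (Localization.AtPrime q.asIdeal)).comap (algebraMap A _) = q :=
    PrimeSpectrum.ext (IsLocalization.AtPrime.comap_maximalIdeal _ q.asIdeal)
  rw [height_Ici_localization q P₁ (closedPoint _) hle] at hδ
  have h3 := h (P₁.comap (algebraMap A _)) ((closedPoint _).comap (algebraMap A _)) (Ideal.comap_mono hle)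
    (by rw [h1]; exact hp) (by rw [h1]; exact hIp) (by rw [h2]; exact hq)
  rw [hδ] at h3
  have h4 : 2 ≤ δ := by exact_mod_cast h3
  have h5 : FormCat.qd (Localization.AtPrime q.asIdeal) (closedPoint (Localization.AtPrime q.asIdeal)).asIdeal + δ =
      FormCat.qd (Localization.AtPrime q.asIdeal) (p.map (algebraMap A _)) := he
  exact_mod_cast (show 2 ≤ FormCat.qd (Localization.AtPrime q.asIdeal) (p.map (algebraMap A _)) by omega)

/-- The criterion for a domain. -/
theorem finTo_one_of_domain
    (h : ∀ (q : PrimeSpectrum A), I ≤ q.asIdeal →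
      ∀ P ∈ associatedPrimes (AdicCompletion (maximalIdeal (Localization.AtPrime q.asIdeal)) (Localization.AtPrime q.asIdeal))
        (AdicCompletion (maximalIdeal (Localization.AtPrime q.asIdeal)) (Localization.AtPrime q.asIdeal)),
        (2 : WithBot ℕ∞) ≤ ringKrullDim (AdicCompletion (maximalIdeal (Localization.AtPrime q.asIdeal))
          (Localization.AtPrime q.asIdeal) ⧸ P)) :
    FinTo I A 1 := by
  refine finTo_one_of_completions I A fun q hq P hP _ => h q hq P ?_
  rwa [LinearEquiv.AssociatedPrimes.eq ((TensorProduct.AlgebraTensorModule.congr (LinearEquiv.refl _ _)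
    (LC.selfLoc q.asIdeal.primeCompl)).trans (TensorProduct.AlgebraTensorModule.rid _ _ _))] at hP

end Groth.Agent.LocDual54
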