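import Groth.Agent.LocDual54.CutoffCpl
import Groth.Agent.Alg6.AssDepth

/-!
# Finiteness of the first local cohomology
-/

set_option linter.style.haveILetI false

universe u

open CategoryTheory IsLocalRing

namespace Groth.Agent.LocDual54

attribute [local instance] HasDerivedCategory.standard

variable {A : Type u} [CommRing A] [IsNoetherianRing A]

/-- The cutoff exceeds one when associated points have codimension two in their closure. -/
theorem one_lt_cutoff (I : Ideal A) (M : Type u) [AddCommGroup M] [Module A M] [Module.Finite A M]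
    (h : ∀ (p q : PrimeSpectrum A) (hpq : p ≤ q), p.asIdeal ∈ associatedPrimes A M → ¬ I ≤ p.asIdeal →
      I ≤ q.asIdeal → (2 : ℕ∞) ≤ Order.height (⟨q, hpq⟩ : Set.Ici p)) :
    ((1 : ℕ) : ℕ∞) < Dual2.cutoff A I M := by
  rw [lt_cutoff_iff]
  intro p q hpq hp hq
  have hpos : (1 : ℕ∞) ≤ Order.height (⟨q, hpq⟩ : Set.Ici p) := by
    refine Order.one_le_iff_pos.2 (pos_iff_ne_zero.2 fun h0 => hp ?_)
    rw [Order.height_eq_zero] at h0
    have : (⟨q, hpq⟩ : Set.Ici p) ≤ ⟨p, le_refl p⟩ := h0 (show (⟨p, le_refl p⟩ : Set.Ici p) ≤ ⟨q, hpq⟩ from hpq)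
    exact hq.trans this
  by_cases hass : p.asIdeal ∈ associatedPrimes A M
  · calc ((1 : ℕ) : ℕ∞) < 2 := by norm_num
      _ ≤ Order.height (⟨q, hpq⟩ : Set.Ici p) := h p q hpq hass hp hq
      _ ≤ _ := le_add_self
  · calc ((1 : ℕ) : ℕ∞) < 1 + 1 := by norm_num
      _ ≤ _ := add_le_add ((Alg6.one_le_depth_atPrime_iff p.asIdeal).2 hass) hpos

end Groth.Agent.LocDual54
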