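import Groth.Prelude.Def_DualLC
import Groth.Agent.LC.CohLoc
import Groth.Agent.LC.Colimit
import Mathlib.RingTheory.Spectrum.Prime.Topology

/-!
# Elements of local cohomology with supports in a specialization closed subset
-/

universe u

open CategoryTheory Limits Opposite

namespace Groth.Agent.LocDual54

open Groth.Agent.LC

variable {A : Type u} [CommRing A] {T : Set (PrimeSpectrum A)}

/-- An ideal with zero locus in `T`, as an index. -/
def idx (J : Ideal A) (h : PrimeSpectrum.zeroLocus (J : Set A) ⊆ T) : Dual2.IdealsIn T := ⟨J, h⟩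

/-- The arrow between two indices. -/
def idxHom {J J' : Dual2.IdealsIn T} (h : J.obj ≤ J'.obj) : J ⟶ J' := InducedCategory.homMk (homOfLE h)

theorem idxHom_le {J J' : Dual2.IdealsIn T} (f : J ⟶ J') : J.obj ≤ J'.obj := leOfHom f.hom

theorem idxHom_unique {J J' : Dual2.IdealsIn T} (f g : J ⟶ J') : f = g :=
  InducedCategory.hom_ext (Subsingleton.elim _ _)

theorem zeroLocus_inf_subset {J J' : Ideal A} (h : PrimeSpectrum.zeroLocus (J : Set A) ⊆ T)
    (h' : PrimeSpectrum.zeroLocus (J' : Set A) ⊆ T) :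
    PrimeSpectrum.zeroLocus ((J ⊓ J' : Ideal A) : Set A) ⊆ T := by
  rw [PrimeSpectrum.zeroLocus_inf]
  exact Set.union_subset h h'

instance : Nonempty (Dual2.IdealsIn T) := ⟨idx ⊤ (by simp)⟩

instance : IsCofiltered (Dual2.IdealsIn T) where
  cone_objs J J' := ⟨idx (J.obj ⊓ J'.obj) (zeroLocus_inf_subset J.2 J'.2), idxHom inf_le_left,
    idxHom inf_le_right, trivial⟩
  cone_maps J _ f g := ⟨J, 𝟙 J, by rw [idxHom_unique f g]⟩

instance : PreservesColimitsOfShape (Dual2.IdealsIn T)ᵒᵖ (forget (ModuleCat.{u} A)) :=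
  PreservesFilteredColimitsOfSize.preserves_filtered_colimits _

variable (i : ℕ) (M : ModuleCat.{u} A)

/-- `A/J`. -/
noncomputable abbrev idxObj (J : Dual2.IdealsIn T) : ModuleCat.{u} A := ModuleCat.of A (A ⧸ J.obj)

/-- `A/J → A/J'`. -/
noncomputable def idxMap {J J' : Ideal A} (h : J ≤ J') : ModuleCat.of A (A ⧸ J) ⟶ ModuleCat.of A (A ⧸ J') :=
  ModuleCat.ofHom (Submodule.mapQ J J' LinearMap.id h)

theorem idxMap_comp {J J' J'' : Ideal A} (h : J ≤ J') (h' : J' ≤ J'') :
    idxMap h ≫ idxMap h' = idxMap (h.trans h') :=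
  ModuleCat.hom_ext (Submodule.linearMap_qext _ rfl)

/-- The bridge at level `J`. -/
noncomputable def lvlT (J : Dual2.IdealsIn T) :
    (((localCohomology.diagram (Dual2.idealsInDiagram T) i).obj (op J)).obj M) ≃ₗ[A]
      Abelian.Ext (idxObj J) M i :=
  ExtBridge.bridge (projectiveResolution (idxObj J)) M i

/-- The structure map `Ext^i(A/J, M) → H^i_T(M)`. -/
noncomputable def toHT (J : Dual2.IdealsIn T) :
    Abelian.Ext (idxObj J) M i →ₗ[A] Dual2.HT T i M :=
  ((colimit.ι (localCohomology.diagram (Dual2.idealsInDiagram T) i) (op J)).app M).hom ∘ₗ (lvlT i M J).symm.toLinearMap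

theorem toHT_lvl (J : Dual2.IdealsIn T)
    (w : ((localCohomology.diagram (Dual2.idealsInDiagram T) i).obj (op J)).obj M) :
    toHT i M J (lvlT i M J w) =
      ((colimit.ι (localCohomology.diagram (Dual2.idealsInDiagram T) i) (op J)).app M).hom w :=
  congrArg _ ((lvlT i M J).symm_apply_apply w)

/-- Pulling classes back. -/
noncomputable def pull {J J' : Ideal A} (h : J ≤ J') :
    Abelian.Ext (ModuleCat.of A (A ⧸ J')) M i →ₗ[A] Abelian.Ext (ModuleCat.of A (A ⧸ J)) M i :=
  (Abelian.Ext.mk₀ (idxMap h)).precompOfLinear A M (zero_add i)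

theorem pull_pull {J J' J'' : Ideal A} (h : J ≤ J') (h' : J' ≤ J'')
    (x : Abelian.Ext (ModuleCat.of A (A ⧸ J'')) M i) :
    pull i M h (pull i M h' x) = pull i M (h.trans h') x := by
  show (Abelian.Ext.mk₀ (idxMap h)).comp ((Abelian.Ext.mk₀ (idxMap h')).comp x (zero_add i)) (zero_add i) =
    (Abelian.Ext.mk₀ (idxMap (h.trans h'))).comp x (zero_add i)
  rw [← idxMap_comp h h', ← Abelian.Ext.mk₀_comp_mk₀]
  exact (Abelian.Ext.comp_assoc _ _ _ (zero_add 0) (zero_add i) (by simp)).symm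

theorem lvlT_map {J J' : Dual2.IdealsIn T} (h : J'.obj ≤ J.obj)
    (w : ((localCohomology.diagram (Dual2.idealsInDiagram T) i).obj (op J)).obj M) :
    lvlT i M J' ((((localCohomology.diagram (Dual2.idealsInDiagram T) i).map (idxHom h).op).app M).hom w) =
      pull i M h (lvlT i M J w) :=
  ExtBridge.bridge_natural_left (projectiveResolution (idxObj J)) M i (projectiveResolution (idxObj J'))
    (idxMap h) w

theorem toHT_pull {J J' : Dual2.IdealsIn T} (h : J'.obj ≤ J.obj) (x : Abelian.Ext (idxObj J) M i) :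
    toHT i M J' (pull i M h x) = toHT i M J x := by
  obtain ⟨w, rfl⟩ := (lvlT i M J).surjective x
  rw [← lvlT_map i M h, toHT_lvl, toHT_lvl]
  exact ConcreteCategory.congr_hom (congrArg (fun t => t.app M)
    (colimit.w (localCohomology.diagram (Dual2.idealsInDiagram T) i) (idxHom h).op)) w

/-- Evaluation of the colimit at `M` is a colimit. -/
noncomputable def isColimitHT :
    IsColimit (((evaluation _ _).obj M).mapCocone
      (colimit.cocone (localCohomology.diagram (Dual2.idealsInDiagram T) i))) :=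
  isColimitOfPreserves _ (colimit.isColimit _)

theorem exists_toHT (z : Dual2.HT T i M) : ∃ J x, toHT i M J x = z := by
  obtain ⟨j, w, hw⟩ := Concrete.isColimit_exists_rep _ (isColimitHT i M) z
  refine ⟨j.unop, lvlT i M _ w, ?_⟩
  rw [toHT_lvl]
  exact hw

theorem toHT_eq_zero_iff {J : Dual2.IdealsIn T} (x : Abelian.Ext (idxObj J) M i) :
    toHT i M J x = 0 ↔ ∃ (J' : Dual2.IdealsIn T) (h : J'.obj ≤ J.obj), pull i M h x = 0 := by
  refine ⟨fun hx => ?_, fun ⟨J', h, h0⟩ => by rw [← toHT_pull i M h, h0, map_zero]⟩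
  obtain ⟨k, f, g, hk⟩ := Concrete.isColimit_exists_of_rep_eq _ (isColimitHT i M)
    (i := op J) (j := op J) ((lvlT i M J).symm x)
    (0 : ((localCohomology.diagram (Dual2.idealsInDiagram T) i).obj (op J)).obj M)
    (hx.trans (map_zero _).symm)
  have h : k.unop.obj ≤ J.obj := idxHom_le f.unop
  refine ⟨k.unop, h, ?_⟩
  obtain rfl : f = (idxHom h).op := Quiver.Hom.unop_inj (idxHom_unique _ _)
  rw [← LinearEquiv.apply_symm_apply (lvlT i M J) x, ← lvlT_map i M h, LinearEquiv.map_eq_zero_iff]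
  exact hk.trans (map_zero _)

theorem zeroLocus_pow_subset {J : Ideal A} (h : PrimeSpectrum.zeroLocus (J : Set A) ⊆ T) {m : ℕ} (hm : 1 ≤ m) :
    PrimeSpectrum.zeroLocus ((J ^ m : Ideal A) : Set A) ⊆ T := by
  rw [PrimeSpectrum.zeroLocus_pow _ (by omega)]
  exact h

/-- Killing all `H^i_J`, `V(J) ⊆ T`, kills `H^i_T`. -/
theorem smul_HT_eq_zero (c : A)
    (h : ∀ J : Ideal A, PrimeSpectrum.zeroLocus (J : Set A) ⊆ T → ∀ z : (localCohomology J i).obj M, c • z = 0)
    (y : Dual2.HT T i M) : c • y = 0 := by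
  obtain ⟨J, x, rfl⟩ := exists_toHT i M y
  let x₁ : Abelian.Ext (qObj J.obj 1) M i := pull i M (pow_one J.obj).le x
  obtain ⟨m, hm, h0⟩ := (toH_eq_zero_iff J.obj i (c • x₁)).1 (by rw [map_smul]; exact h J.obj J.2 _)
  refine (map_smul (toHT i M J) c x).symm.trans ((toHT_eq_zero_iff i M _).2
    ⟨idx (J.obj ^ m) (zeroLocus_pow_subset J.2 hm), Ideal.pow_le_self (by omega), ?_⟩)
  rw [map_smul]
  rw [map_smul] at h0
  refine Eq.trans (congrArg (c • ·) ?_) h0
  exact (pull_pull i M (Ideal.pow_le_pow_right hm) (pow_one J.obj).le x).symm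

/-- An element killed in `H^i_T` dies in some `H^i_{J'}`. -/
theorem exists_HmapOfLE_eq_zero (hT : StableUnderSpecialization T) (q : PrimeSpectrum A) (hq : q ∈ T) (c : A)
    (h : ∀ y : Dual2.HT T i M, c • y = 0) (z : (localCohomology q.asIdeal i).obj M) :
    ∃ (J : Ideal A) (hJ : J ≤ q.asIdeal), PrimeSpectrum.zeroLocus (J : Set A) ⊆ T ∧
      ((Dual2.HmapOfLE hJ i).app M).hom (c • z) = 0 := by
  obtain ⟨n, hn, x, rfl⟩ := exists_toH_of_le q.asIdeal i z 1
  have hVq : PrimeSpectrum.zeroLocus (q.asIdeal : Set A) ⊆ T :=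
    fun r hr => hT ((PrimeSpectrum.le_iff_specializes q r).1 hr) hq
  let J₀ : Dual2.IdealsIn T := idx (q.asIdeal ^ n) (zeroLocus_pow_subset hVq hn)
  obtain ⟨J', hJ', h0⟩ := (toHT_eq_zero_iff i M (J := J₀) (c • x)).1 ((map_smul (toHT i M J₀) c x).trans (h _))
  have hle : J'.obj ≤ q.asIdeal := le_trans hJ' (Ideal.pow_le_self (by omega : n ≠ 0))
  refine ⟨J'.obj, hle, J'.2, ?_⟩
  rw [map_smul, HmapOfLE_toH, ← map_smul]
  refine (congrArg (toH J'.obj i M n) ?_).trans (map_zero _)
  have hfac : qLE hle n = idxMap (Ideal.pow_le_self (by omega : n ≠ 0)) ≫ idxMap hJ' :=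
    ModuleCat.hom_ext (Submodule.linearMap_qext _ rfl)
  have h1 := ((pull_pull i M (Ideal.pow_le_self (I := J'.obj) (by omega : n ≠ 0)) hJ' (c • x)).symm.trans
    ((congrArg (pull i M (Ideal.pow_le_self (I := J'.obj) (by omega : n ≠ 0))) h0).trans (map_zero _)))
  have h2 := ((pull i M ((Ideal.pow_le_self (I := J'.obj) (by omega : n ≠ 0)).trans hJ')).map_smul c x).symm.trans h1
  refine Eq.trans ?_ h2
  refine congrArg (fun g => c • (Abelian.Ext.mk₀ g).comp x (zero_add i)) ?_
  exact hfac.trans (idxMap_comp _ _)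

section Localize

/-- The index category of a localization. -/
structure LocIdx (S : Submonoid A) : Type u where
  /-- The denominator. -/
  den : S

instance {S : Submonoid A} : Category.{u} (LocIdx S) where
  Hom a b := {s : S // s * a.den = b.den}
  id a := ⟨1, one_mul _⟩
  comp f g := ⟨g.1 * f.1, by rw [mul_assoc, f.2, g.2]⟩
  id_comp f := Subtype.ext (mul_one _)
  comp_id f := Subtype.ext (one_mul _)
  assoc f g h := Subtype.ext (mul_assoc _ _ _).symm

variable {S : Submonoid A}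

instance : Nonempty (LocIdx S) := ⟨⟨1⟩⟩

instance : IsFiltered (LocIdx S) where
  cocone_objs a b := ⟨⟨a.den * b.den⟩, ⟨b.den, mul_comm _ _⟩, ⟨a.den, rfl⟩, trivial⟩
  cocone_maps a b f g := ⟨⟨a.den * b.den⟩, ⟨a.den, rfl⟩, Subtype.ext (show a.den * f.1 = a.den * g.1 by
    rw [mul_comm a.den f.1, mul_comm a.den g.1, f.2, g.2])⟩

/-- `M` with multiplications as transition maps. -/
noncomputable def locDiag (S : Submonoid A) (M : ModuleCat.{u} A) : LocIdx S ⥤ ModuleCat.{u} A where
  obj _ := M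
  map f := (f.1 : A) • 𝟙 M
  map_id a := one_smul A (𝟙 M)
  map_comp {a b c} f g := by
    show ((g.1 : A) * (f.1 : A)) • 𝟙 M = ((f.1 : A) • 𝟙 M) ≫ ((g.1 : A) • 𝟙 M)
    rw [Linear.smul_comp, Category.id_comp, ← mul_smul, mul_comm]

theorem isElemColim_locDiag (N : ModuleCat.{u} A) (φ : M →ₗ[A] N) [IsLocalizedModule S φ] :
    IsElemColim (locDiag S M) fun a =>
      ModuleCat.ofHom (((IsLocalizedModule.map_units φ a.den).unit⁻¹ : (Module.End A N)ˣ).1 ∘ₗ φ) where
  nat {a b} f := by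
    refine ModuleCat.hom_ext (LinearMap.ext fun x => ?_)
    refine ((Module.End.isUnit_iff _).1 (IsLocalizedModule.map_units φ b.den)).1 ?_
    show (b.den : A) • ((IsLocalizedModule.map_units φ b.den).unit⁻¹ : (Module.End A N)ˣ).1 (φ ((f.1 : A) • x)) =
      (b.den : A) • ((IsLocalizedModule.map_units φ a.den).unit⁻¹ : (Module.End A N)ˣ).1 (φ x)
    rw [show (b.den : A) • ((IsLocalizedModule.map_units φ b.den).unit⁻¹ : (Module.End A N)ˣ).1 (φ ((f.1 : A) • x)) =
      φ ((f.1 : A) • x) from LinearMap.congr_fun (IsLocalizedModule.map_units φ b.den).unit.mul_inv _]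
    refine Eq.trans ?_ ((congrArg (fun t : S => (t : A) • _) f.2.symm).trans
      ((congrArg (· • _) (Submonoid.coe_mul S f.1 a.den)).trans (mul_smul _ _ _))).symm
    refine (map_smul φ _ _).trans ?_
    exact congrArg ((f.1 : A) • ·) (LinearMap.congr_fun (IsLocalizedModule.map_units φ a.den).unit.mul_inv _).symm
  rep y := by
    obtain ⟨⟨x, t⟩, ht⟩ := IsLocalizedModule.surj S φ y
    refine ⟨⟨t⟩, x, ((Module.End.isUnit_iff _).1 (IsLocalizedModule.map_units φ t)).1 ?_⟩
    exact (LinearMap.congr_fun (IsLocalizedModule.map_units φ t).unit.mul_inv _).trans ht.symm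
  zero a x hx := by
    have h1 : φ x = 0 := by
      have h2 := congrArg (fun y : N => (a.den : A) • y) hx
      simp only [smul_zero] at h2
      exact (LinearMap.congr_fun (IsLocalizedModule.map_units φ a.den).unit.mul_inv _).symm.trans h2
    obtain ⟨t, ht⟩ := (IsLocalizedModule.eq_zero_iff S φ).1 h1
    exact ⟨⟨t * a.den⟩, ⟨t, rfl⟩, ht⟩

/-- Killing `H^i_T(M)` kills `H^i_T` of a localization. -/
theorem smul_HT_localized [IsNoetherianRing A] (N : ModuleCat.{u} A) (φ : M →ₗ[A] N) [IsLocalizedModule S φ]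
    (c : A) (h : ∀ y : Dual2.HT T i M, c • y = 0) (y : Dual2.HT T i N) : c • y = 0 := by
  obtain ⟨J, x, rfl⟩ := exists_toHT i N y
  obtain ⟨a, x₀, hx₀⟩ := ((isElemColim_locDiag M N φ (S := S)).ext_lift_and_kill i (idxObj J)).1 x
  obtain ⟨J', hJ', h0⟩ := (toHT_eq_zero_iff i M (J := J) (c • x₀)).1 ((map_smul (toHT i M J) c x₀).trans (h _))
  refine (map_smul (toHT i N J) c x).symm.trans ((toHT_eq_zero_iff i N _).2 ⟨J', hJ', ?_⟩)
  rw [map_smul, ← hx₀]
  have h0' := ((pull i M hJ').map_smul c x₀).symm.trans h0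
  show c • (Abelian.Ext.mk₀ (idxMap hJ')).comp (Abelian.Ext.comp x₀ _ _) (zero_add i) = 0
  rw [← Abelian.Ext.comp_assoc _ _ _ (zero_add i) (add_zero i) (by omega), ← Abelian.Ext.smul_comp]
  exact (congrArg (fun t => Abelian.Ext.comp t _ (add_zero i)) h0').trans (Abelian.Ext.zero_comp _ _ _ _ _)

end Localize

end Groth.Agent.LocDual54
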