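import Groth.Agent.LocDual54.SupportKill
import Groth.Agent.LocDual54.HTElem

/-!
# From annihilators of `H^l_T` to annihilators at the points of `T`
-/

universe u

open CategoryTheory Limits IsLocalRing

namespace Groth.Agent.LocDual54

open Groth.Agent.LC

variable {A : Type u} [CommRing A]

/-- The finite height of a prime. -/
noncomputable def ht (q : PrimeSpectrum A) : ℕ := (Ideal.height q.asIdeal).toNat

theorem HmapOfLE_self {I I' : Ideal A} (h : I ≤ I') (h' : I' ≤ I) (l : ℕ) (N : ModuleCat.{u} A)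
    {z : (localCohomology I' l).obj N} (hz : ((Dual2.HmapOfLE h l).app N).hom z = 0) : z = 0 := by
  obtain rfl := le_antisymm h h'
  obtain ⟨n, x, rfl⟩ := exists_toH I l z
  rw [HmapOfLE_toH] at hz
  refine Eq.trans (congrArg (toH I l N n) ?_) hz
  rw [show qLE h n = 𝟙 _ from ModuleCat.hom_ext (Submodule.linearMap_qext _ rfl), Abelian.Ext.mk₀_id_comp]

variable [IsNoetherianRing A]

theorem ht_lt {p q : PrimeSpectrum A} (h : p < q) : ht p < ht q := by
  have h1 := Ideal.height_strict_mono_of_isPrime (show p.asIdeal < q.asIdeal from h)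
  obtain ⟨a, ha⟩ := ENat.ne_top_iff_exists.1 (Ideal.height_ne_top p.isPrime.ne_top)
  obtain ⟨b, hb⟩ := ENat.ne_top_iff_exists.1 (Ideal.height_ne_top q.isPrime.ne_top)
  rw [← ha, ← hb] at h1
  unfold ht
  rw [← ha, ← hb, ENat.toNat_natCast, ENat.toNat_natCast]
  exact_mod_cast h1

section Step

variable (M : ModuleCat.{u} A) (c : A) (q : PrimeSpectrum A) {T : Set (PrimeSpectrum A)} (E s : ℕ)
  (hE : ∀ q' ∈ T, q' < q → ∀ l < s, KillAt (c ^ E) l M q'.asIdeal)

/-- `M_q` as an `A`-module. -/
noncomputable abbrev atPrimeMod : ModuleCat.{u} A := ModuleCat.of A (LocalizedModule q.asIdeal.primeCompl M)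

include hE in
theorem kill_locF (x : A) (hx : x ∈ q.asIdeal) (J : Ideal A) (hJ : PrimeSpectrum.zeroLocus (J : Set A) ⊆ T)
    (l : ℕ) (hl : l < s) :
    (∀ z : (localCohomology J l).obj ((locF x).obj (atPrimeMod M q)), c ^ (E * ht q) • z = 0) ∧
      ((∀ q' : PrimeSpectrum A, J ≤ q'.asIdeal → ¬ q' < q) →
        Subsingleton ((localCohomology J l).obj ((locF x).obj (atPrimeMod M q)))) := by
  classical
  let φ := LocalizedModule.mkLinearMap (Submonoid.powers x) (LocalizedModule q.asIdeal.primeCompl M)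
  have hzero : ∀ q' : PrimeSpectrum A, ¬ q' < q → ∀ f : A,
      KillAt f l ((locF x).obj (atPrimeMod M q)) q'.asIdeal := by
    intro q' hq' f
    by_cases hle : q' ≤ q
    · refine killAt_of_bijective f l (N := ((locF x).obj (atPrimeMod M q))) q'.asIdeal (t := x) ?_ ?_
      · rw [hle.eq_of_not_lt hq']; exact hx
      · exact (Module.End.isUnit_iff _).1 (IsLocalizedModule.map_units φ ⟨x, Submonoid.mem_powers x⟩)
    · obtain ⟨t, htm, htq⟩ := SetLike.not_le_iff_exists.1 (show ¬ q'.asIdeal ≤ q.asIdeal from hle)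
      refine killAt_of_bijective f l (N := ((locF x).obj (atPrimeMod M q))) q'.asIdeal htm ?_
      have hb := (Module.End.isUnit_iff _).1 (IsLocalizedModule.map_units
        (LocalizedModule.mkLinearMap q.asIdeal.primeCompl M) (⟨t, htq⟩ : q.asIdeal.primeCompl))
      let ψ : (atPrimeMod M q) ⟶ (atPrimeMod M q) := t • 𝟙 _
      have : IsIso ψ := (ConcreteCategory.isIso_iff_bijective _).2 hb
      have h' := (ConcreteCategory.isIso_iff_bijective ((locF x).map ψ)).1 inferInstance
      refine (congrArg Function.Bijective (funext fun y => ?_)).mp h'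
      refine LinearMap.congr_fun (g := t • LinearMap.id) (IsLocalizedModule.ext (Submonoid.powers x) φ
        (IsLocalizedModule.map_units φ) ?_) y
      exact LinearMap.ext fun w => (IsLocalizedModule.map_apply (Submonoid.powers x) φ φ ψ.hom w).trans (map_smul φ t w)
  constructor
  · refine pow_kill_of_killAt c l E _ (fun q' => if q' < q then ht q - ht q' else 0) (fun p p' hpp' => ?_) (ht q) J
      fun q' hq' => ?_
    · by_cases h' : p' < q
      · left
        rw [if_pos h', if_pos (hpp'.trans h')]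
        have := ht_lt hpp'
        have := ht_lt h'
        omega
      · right
        rw [if_neg h']
    · by_cases h' : q' < q
      · refine ⟨(if_pos h').trans_le (Nat.sub_le _ _), ?_, fun h0 => ?_⟩
        · by_cases hxq : x ∈ q'.asIdeal
          · exact killAt_of_bijective _ l (N := ((locF x).obj (atPrimeMod M q))) q'.asIdeal hxq
              ((Module.End.isUnit_iff _).1 (IsLocalizedModule.map_units φ ⟨x, Submonoid.mem_powers x⟩))
          refine (killAt_of_localized (S := Submonoid.powers x)
            (N := LocalizedModule (Submonoid.powers x) (LocalizedModule q.asIdeal.primeCompl M)) φ q'.asIdeal ?_).2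
            ((killAt_of_localized (S := q.asIdeal.primeCompl) (N := LocalizedModule q.asIdeal.primeCompl M)
            (LocalizedModule.mkLinearMap q.asIdeal.primeCompl M) q'.asIdeal ?_).2 (hE q' (hJ hq') h' l hl))
          · exact Submonoid.powers_le.2 hxq
          · exact fun t ht hh => ht (h'.le hh)
        · rw [if_pos h'] at h0
          have := ht_lt h'
          omega
      · exact ⟨(if_neg h').trans_le (Nat.zero_le _), hzero q' h' _, fun _ => hzero q' h' _⟩
  · intro h
    exact subsingleton_H_of_forall l _ J fun q' hq' hle => hzero ⟨q', hq'⟩ (h ⟨q', hq'⟩ hle) _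

include hE in
/-- The kernel of `H_q → H_J` is killed by a bounded power. -/
theorem kill_kernel (l : ℕ) (hl : l ≤ s) : ∀ (d : ℕ) (J : Ideal A) (hJ : J ≤ q.asIdeal),
    PrimeSpectrum.zeroLocus (J : Set A) ⊆ T →
    (∀ q' : PrimeSpectrum A, J ≤ q'.asIdeal → q' < q → ht q - ht q' ≤ d) →
    ∀ w : (localCohomology q.asIdeal l).obj (atPrimeMod M q),
      ((Dual2.HmapOfLE hJ l).app (atPrimeMod M q)).hom w = 0 → c ^ (E * ht q * d) • w = 0 := by
  have step : ∀ (J : Ideal A) (hJ : J ≤ q.asIdeal) (x : A) (hx : x ∈ q.asIdeal) (e : ℕ),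
      PrimeSpectrum.zeroLocus (J : Set A) ⊆ T →
      (∀ l' < s, ∀ z : (localCohomology J l').obj ((locF x).obj (atPrimeMod M q)), c ^ e • z = 0) →
      ∀ w : (localCohomology q.asIdeal l).obj (atPrimeMod M q),
        ((Dual2.HmapOfLE hJ l).app (atPrimeMod M q)).hom w = 0 →
          ((Dual2.HmapOfLE (sup_le hJ ((Ideal.span_singleton_le_iff_mem _).2 hx)) l).app (atPrimeMod M q)).hom
            (c ^ e • w) = 0 := by
    intro J hJ x hx e _ hk w hw
    rw [map_smul]
    generalize hw' : ((Dual2.HmapOfLE (sup_le hJ ((Ideal.span_singleton_le_iff_mem _).2 hx)) l).app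
      (atPrimeMod M q)).hom w = w'
    have h0 : supH x J l (atPrimeMod M q) w' = 0 := by
      rw [← hw']
      exact (HmapOfLE_comp le_sup_left _ l _ w).trans hw
    rcases l with _ | l
    · rw [supH_zero_injective x J (atPrimeMod M q) (h0.trans (map_zero _).symm), smul_zero]
    · obtain ⟨δ, -, hδ⟩ := exists_δloc x J l (atPrimeMod M q)
      obtain ⟨v, rfl⟩ := (hδ w').1 h0
      rw [← map_smul, hk l (by omega) v, map_zero]
  intro d
  induction d with
  | zero =>
    intro J hJ hJT hd w hw
    rw [mul_zero, pow_zero, one_smul]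
    have hnone : ∀ J' : Ideal A, J ≤ J' → ∀ q' : PrimeSpectrum A, J' ≤ q'.asIdeal → ¬ q' < q := fun J' hJJ' q' hq' hlt => by
      have := hd q' (hJJ'.trans hq') hlt
      have := ht_lt hlt
      omega
    obtain ⟨g, hg⟩ := IsNoetherian.noetherian q.asIdeal
    have main : ∀ (xs : List A), (∀ x ∈ xs, x ∈ q.asIdeal) → ∀ (J' : Ideal A) (hJ' : J' ≤ q.asIdeal), J ≤ J' →
        ((Dual2.HmapOfLE hJ' l).app (atPrimeMod M q)).hom w = 0 → q.asIdeal ≤ J' ⊔ Ideal.ofList xs → w = 0 := by
      intro xs
      induction xs with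
      | nil =>
        intro _ J' hJ' _ h0 hq
        rw [Ideal.ofList_nil, sup_bot_eq] at hq
        exact HmapOfLE_self hJ' hq l _ h0
      | cons x xs ih =>
        intro hxs J' hJ' hJJ' h0 hq
        have hxq := hxs x List.mem_cons_self
        refine ih (fun y hy => hxs y (List.mem_cons_of_mem _ hy)) (J' ⊔ Ideal.span {x})
          (sup_le hJ' ((Ideal.span_singleton_le_iff_mem _).2 hxq)) (hJJ'.trans le_sup_left) ?_
          (by rwa [sup_assoc, ← Ideal.ofList_cons])
        have hJT' : PrimeSpectrum.zeroLocus (J' : Set A) ⊆ T :=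
          (PrimeSpectrum.zeroLocus_anti_mono hJJ').trans hJT
        have := step J' hJ' x hxq 0 hJT' (fun l' hl' z => by
          have := (kill_locF M c q E s hE x hxq J' hJT' l' hl').2 (hnone J' hJJ')
          exact Subsingleton.elim _ _) w h0
        rwa [pow_zero, one_smul] at this
    refine main g.toList (fun x hx => hg ▸ Submodule.subset_span (Finset.mem_toList.1 hx)) J hJ le_rfl hw ?_
    rw [show Ideal.ofList g.toList = q.asIdeal by
      rw [← hg]; exact congrArg Ideal.span (Set.ext fun z => Finset.mem_toList)]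
    exact le_sup_right
  | succ d ih =>
    intro J hJ hJT hd w hw
    classical
    let F := (Ideal.finite_minimalPrimes_of_isNoetherianRing A J).toFinset.filter (fun P => P < q.asIdeal)
    have hsub : ¬ (q.asIdeal : Set A) ⊆ ⋃ P ∈ (F : Set (Ideal A)), (P : Set A) := by
      rw [Ideal.subset_union_prime ⊥ ⊥ fun P hP _ _ =>
        ((Ideal.finite_minimalPrimes_of_isNoetherianRing A J).mem_toFinset.1 (Finset.mem_filter.1 hP).1).1.1]
      rintro ⟨P, hP, hle⟩
      exact (Finset.mem_filter.1 hP).2.not_ge hle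
    obtain ⟨x, hxq, hx⟩ := Set.not_subset.1 hsub
    have h1 := ih (J ⊔ Ideal.span {x}) (sup_le hJ ((Ideal.span_singleton_le_iff_mem _).2 hxq))
      ((PrimeSpectrum.zeroLocus_anti_mono (SetLike.coe_subset_coe.2 le_sup_left)).trans hJT) (fun q' hq' hlt => by
      obtain ⟨P, hP, hPq⟩ := Ideal.exists_minimalPrimes_le (J := q'.asIdeal) (I := J) (le_sup_left.trans hq')
      have hPF : P ∈ F := Finset.mem_filter.2
        ⟨(Ideal.finite_minimalPrimes_of_isNoetherianRing A J).mem_toFinset.2 hP, lt_of_le_of_lt hPq hlt⟩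
      have hne : (⟨P, hP.1.1⟩ : PrimeSpectrum A) < q' := lt_of_le_of_ne hPq fun e =>
        hx (Set.mem_biUnion hPF (show x ∈ P by
          rw [show P = q'.asIdeal from congrArg PrimeSpectrum.asIdeal e]
          exact hq' (Ideal.mem_sup_right (Ideal.mem_span_singleton_self x))))
      have := ht_lt hne
      have := hd ⟨P, hP.1.1⟩ hP.1.2 (lt_trans hne hlt)
      omega) (c ^ (E * ht q) • w)
      (step J hJ x hxq _ hJT (fun l' hl' => (kill_locF M c q E s hE x hxq J hJT l' hl').1) w hw)
    rw [Nat.mul_succ, pow_add, mul_smul]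
    exact h1

end Step

/-- Annihilators of `H^l_T(M)` annihilate at the points of `T`, up to a power. -/
theorem exists_killAt_of_smul_HT {T : Set (PrimeSpectrum A)} (hT : StableUnderSpecialization T)
    (M : ModuleCat.{u} A) (c : A) (s : ℕ) (hc : ∀ l ≤ s, ∀ y : Dual2.HT T l M, c • y = 0) :
    ∀ h : ℕ, ∃ N : ℕ, ∀ q ∈ T, ht q ≤ h → ∀ l ≤ s, KillAt (c ^ N) l M q.asIdeal := by
  have main : ∀ (E : ℕ) (q : PrimeSpectrum A), q ∈ T → (∀ q' ∈ T, q' < q → ∀ l < s, KillAt (c ^ E) l M q'.asIdeal) →
      ∀ l ≤ s, KillAt (c ^ (E * ht q * ht q + 1)) l M q.asIdeal := by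
    intro E q hq hE l hl
    have hk : ∀ z : (localCohomology q.asIdeal l).obj (atPrimeMod M q), c ^ (E * ht q * ht q + 1) • z = 0 := by
      intro z
      obtain ⟨J, hJ, hJT, h0⟩ := exists_HmapOfLE_eq_zero l (atPrimeMod M q) hT q hq c
        (smul_HT_localized (S := q.asIdeal.primeCompl) l M (atPrimeMod M q) (LocalizedModule.mkLinearMap q.asIdeal.primeCompl M) c (hc l hl)) z
      rw [pow_succ, mul_smul]
      exact kill_kernel M c q E s hE l hl (ht q) J hJ hJT (fun q' _ _ => Nat.sub_le _ _) _ h0
    refine (killAt_of_localized (S := q.asIdeal.primeCompl) (M := M) (N := LocalizedModule q.asIdeal.primeCompl M)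
      (LocalizedModule.mkLinearMap q.asIdeal.primeCompl M) q.asIdeal le_rfl).1 ?_
    intro z
    obtain ⟨e⟩ := exists_localizedH q.asIdeal (atPrimeMod M q) q.asIdeal l
    let r := (localCohomology.isoOfSameRadical (J := q.asIdeal.map (algebraMap A (Localization.AtPrime q.asIdeal)))
      (K := maximalIdeal (Localization.AtPrime q.asIdeal)) (by rw [Localization.AtPrime.map_eq_maximalIdeal]) l).app
      (ModuleCat.of _ (LocalizedModule q.asIdeal.primeCompl (atPrimeMod M q)))
    obtain ⟨z', rfl⟩ := r.toLinearEquiv.surjective z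
    obtain ⟨y, rfl⟩ := e.surjective z'
    induction y using LocalizedModule.induction_on with
    | h m t =>
      rw [← map_smul, ← map_smul, algebraMap_smul, LocalizedModule.smul'_mk, hk m, LocalizedModule.zero_mk,
        map_zero, map_zero]
  intro h
  induction h with
  | zero =>
    refine ⟨1, fun q hq h0 l hl => ?_⟩
    have := main 0 q hq (fun q' _ hlt => absurd (ht_lt hlt) (by omega)) l hl
    simpa [Nat.le_zero.1 h0] using this
  | succ h ih =>
    obtain ⟨E, hE⟩ := ih
    refine ⟨E * (h + 1) * (h + 1) + 1, fun q hq hh l hl => ?_⟩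
    refine (main E q hq (fun q' hq' hlt l' hl' => hE q' hq' (by have := ht_lt hlt; omega) l' hl'.le) l hl).pow_le ?_
    gcongr

end Groth.Agent.LocDual54
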