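import Mathlib.Algebra.Module.Injective
import Mathlib.LinearAlgebra.TensorProduct.Pi
import Mathlib.RingTheory.Flat.Basic
import Mathlib.RingTheory.Noetherian.Basic
import Mathlib.RingTheory.Spectrum.Prime.Basic
import Mathlib.RingTheory.Localization.AtPrime.Basic

/-!
# Base change of injective modules
-/

universe u

set_option linter.style.haveILetI false

open scoped TensorProduct

namespace Groth.Agent.LocDual54.InjBaseChange

variable {A : Type u} [CommRing A]

/-- A flat module tensored with an injective module is injective over a Noetherian ring. -/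
theorem injective_tensor [IsNoetherianRing A] (B : Type u) [AddCommGroup B] [Module A B] [Module.Flat A B]
    (I : Type u) [AddCommGroup I] [Module A I] [Module.Injective A I] : Module.Injective A (B ⊗[A] I) := by
  apply Module.Baer.injective
  intro p f
  obtain ⟨n, a, ha⟩ := Submodule.fg_iff_exists_fin_generating_family.1 (IsNoetherian.noetherian p)
  have hap : ∀ j, a j ∈ p := fun j => ha ▸ Submodule.subset_span ⟨j, rfl⟩
  let π : (Fin n → A) →ₗ[A] A := Fintype.linearCombination A a
  obtain ⟨m, ρ, hρ⟩ := Submodule.fg_iff_exists_fin_generating_family.1 (IsNoetherian.noetherian (LinearMap.ker π))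
  let α : I →ₗ[A] (Fin n → I) := LinearMap.pi fun j => a j • LinearMap.id
  let β : (Fin n → I) →ₗ[A] (Fin m → I) := LinearMap.pi fun k => ∑ j, ρ k j • LinearMap.proj j
  have hρ0 : ∀ k, ∑ j, ρ k j * a j = 0 := fun k => by
    have : ρ k ∈ LinearMap.ker π := hρ ▸ Submodule.subset_span ⟨k, rfl⟩
    simpa [π, Fintype.linearCombination_apply] using this
  have hex : Function.Exact α β := by
    refine LinearMap.exact_iff.2 (le_antisymm (fun z hz => ?_) ?_)
    · have hz0 : ∀ v ∈ LinearMap.ker π, Fintype.linearCombination A z v = 0 := fun v hv => by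
        rw [← hρ] at hv
        exact Submodule.span_le (p := LinearMap.ker (Fintype.linearCombination A z)).2
          (Set.range_subset_iff.2 fun k => by
            simpa [β, Fintype.linearCombination_apply] using congrFun (LinearMap.mem_ker.1 hz) k) hv
      let h : ((Fin n → A) ⧸ LinearMap.ker π) →ₗ[A] I := (LinearMap.ker π).liftQ (Fintype.linearCombination A z) hz0
      obtain ⟨g, hg⟩ := Module.Injective.out ((LinearMap.ker π).liftQ π le_rfl)
        (LinearMap.ker_eq_bot.1 (Submodule.ker_liftQ_eq_bot' _ _ rfl)) h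
      refine ⟨g 1, funext fun j => ?_⟩
      have h1 := hg (Submodule.Quotient.mk (Pi.single j 1))
      simp only [h, π, Submodule.liftQ_apply, Fintype.linearCombination_apply_single, one_smul] at h1
      show a j • g 1 = z j
      rw [← map_smul, smul_eq_mul, mul_one, h1]
    · rintro _ ⟨y, rfl⟩
      refine LinearMap.mem_ker.2 (funext fun k => ?_)
      simp [α, β, smul_smul, ← Finset.sum_smul, hρ0]
  have hexB := Module.Flat.lTensor_exact B hex
  let e : B ⊗[A] (Fin n → I) ≃ₗ[A] (Fin n → B ⊗[A] I) := TensorProduct.piRight A A B fun _ : Fin n => I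
  let e' : B ⊗[A] (Fin m → I) ≃ₗ[A] (Fin m → B ⊗[A] I) := TensorProduct.piRight A A B fun _ : Fin m => I
  have hα : ∀ t, e (α.lTensor B t) = fun j => a j • t := by
    intro t
    induction t with
    | zero => simp; rfl
    | tmul b y => ext j; simp [e, α]
    | add x y hx hy => rw [map_add, map_add, hx, hy]; ext j; simp
  have hβ : ∀ t, e' (β.lTensor B t) = fun k => ∑ j, ρ k j • e t j := by
    intro t
    induction t with
    | zero => simp; rfl
    | tmul b y => ext k; simp [e, e', β, TensorProduct.tmul_sum]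
    | add x y hx hy => rw [map_add, map_add, hx, hy]; ext k; simp [Finset.sum_add_distrib]
  let z : Fin n → B ⊗[A] I := fun j => f ⟨a j, hap j⟩
  have hz : β.lTensor B (e.symm z) = 0 := e'.injective (by
    rw [hβ, map_zero, e.apply_symm_apply]
    funext k
    show ∑ j, ρ k j • f ⟨a j, hap j⟩ = 0
    simp only [← map_smul, ← map_sum]
    rw [← map_zero f]
    exact congrArg f (Subtype.ext (by simpa using hρ0 k)))
  obtain ⟨y, hy⟩ := (hexB _).1 hz
  refine ⟨LinearMap.toSpanSingleton A _ y, fun x hx => ?_⟩
  have hx' := hx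
  rw [← ha] at hx'
  obtain ⟨c, rfl⟩ := (Submodule.mem_span_range_iff_exists_fun A).1 hx'
  have hj : ∀ j, a j • y = f ⟨a j, hap j⟩ := fun j => by
    have := congrFun ((hα y).symm.trans ((congrArg e hy).trans (e.apply_symm_apply z))) j
    exact this
  rw [show (⟨∑ j, c j • a j, hx⟩ : p) = ∑ j, c j • ⟨a j, hap j⟩ from Subtype.ext (by simp), map_sum f]
  simp only [LinearMap.toSpanSingleton_apply, Finset.sum_smul, map_smul, smul_assoc, hj]

/-- Injectivity can be checked up to torsion at every prime. -/
theorem injective_of_forall_prime {B : Type u} [CommRing B] [IsNoetherianRing B] (H : Type u) [AddCommGroup H]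
    [Module B H]
    (hloc : ∀ q : Ideal B, q.IsPrime → ∀ g : q →ₗ[B] H, ∃ s ∉ q, ∃ y : H, ∀ a : q, s • g a = (a : B) • y) :
    Module.Injective B H := by
  apply Module.Baer.injective
  intro J
  induction J using IsNoetherian.induction with
  | hgt J ih =>
  change Ideal B at J
  intro g
  -- one more element
  have step : ∀ (x : B), x ∉ J → ∀ y : H, (∀ b (hb : b * x ∈ J), g ⟨b * x, hb⟩ = b • y) →
      ∃ G : B →ₗ[B] H, (∀ a (ha : a ∈ J), G a = g ⟨a, ha⟩) ∧ G x = y := by
    intro x hx y hy
    let P : J × B →ₗ[B] B := (J.subtype).coprod (LinearMap.toSpanSingleton B B x)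
    let θ : J × B →ₗ[B] H := g.coprod (LinearMap.toSpanSingleton B H y)
    have hker : LinearMap.ker P ≤ LinearMap.ker θ := by
      rintro ⟨a, b⟩ h
      have h' : (a : B) + b * x = 0 := h
      have hb : b * x ∈ J := by rw [eq_neg_of_add_eq_zero_right h']; exact neg_mem a.2
      show g a + b • y = 0
      rw [← hy b hb, ← map_add]
      exact (congrArg g (Subtype.ext h' : a + ⟨b * x, hb⟩ = 0)).trans (map_zero g)
    have hlt : J < LinearMap.range P := lt_of_le_of_ne (fun a ha => ⟨(⟨a, ha⟩, 0), by simp [P]⟩)
      fun h => hx (h ▸ ⟨(0, 1), by simp [P]⟩)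
    obtain ⟨G, hG⟩ := ih _ hlt (((LinearMap.ker P).liftQ θ hker) ∘ₗ P.quotKerEquivRange.symm.toLinearMap)
    have hval : ∀ w, G (P w) = θ w := fun w => by
      rw [hG (P w) ⟨w, rfl⟩]
      simp only [LinearMap.comp_apply, LinearEquiv.coe_coe, LinearMap.quotKerEquivRange_symm_apply_image]
      rfl
    refine ⟨G, fun a ha => ?_, ?_⟩
    · have := hval (⟨a, ha⟩, 0)
      simpa [P, θ] using this
    · have := hval (0, 1)
      simpa [P, θ] using this
  by_cases htop : J = ⊤
  · refine ⟨LinearMap.toSpanSingleton B H (g ⟨1, htop ▸ Submodule.mem_top⟩), fun a ha => ?_⟩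
    rw [LinearMap.toSpanSingleton_apply, ← map_smul]
    exact congrArg g (Subtype.ext (mul_one a))
  by_cases hp : J.IsPrime
  · obtain ⟨s, hs, y, hy⟩ := hloc J hp g
    obtain ⟨G, hG, hGs⟩ := step s hs y fun b hb => by
      have hb' : b ∈ J := (hp.mem_or_mem hb).resolve_right hs
      rw [← hy ⟨b, hb'⟩, ← map_smul]
      exact congrArg g (Subtype.ext (mul_comm b s))
    refine ⟨LinearMap.toSpanSingleton B H (G 1), fun a ha => ?_⟩
    rw [LinearMap.toSpanSingleton_apply, ← map_smul, smul_eq_mul, mul_one, hG a ha]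
  · obtain ⟨x, hx, b₀, hb₀, hxb⟩ : ∃ x ∉ J, ∃ b ∉ J, b * x ∈ J := by
      simp only [Ideal.isPrime_iff, not_and_or, not_forall, ne_eq, not_not] at hp
      obtain ⟨a, b, hab, hh⟩ := hp.resolve_left htop
      rw [not_or] at hh
      exact ⟨b, hh.2, a, hh.1, hab⟩
    let K : Ideal B := { carrier := {b | b * x ∈ J}
                         add_mem' := fun {a b} ha hb => by show (a + b) * x ∈ J; rw [add_mul]; exact add_mem ha hb
                         zero_mem' := by show 0 * x ∈ J; rw [zero_mul]; exact zero_mem _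
                         smul_mem' := fun c a ha => by show c • a * x ∈ J; rw [smul_eq_mul, mul_assoc]; exact J.mul_mem_left c ha }
    have hK : J < K := lt_of_le_of_ne (fun a ha => J.mul_mem_right x ha) fun h => hb₀ (h ▸ hxb)
    let gK : K →ₗ[B] H := g.comp ((LinearMap.toSpanSingleton B B x).restrict fun b hb => hb)
    obtain ⟨G, hG⟩ := ih K hK gK
    obtain ⟨G', hG', -⟩ := step x hx (G 1) fun b hb => by
      rw [← map_smul, smul_eq_mul, mul_one, hG b hb]
      rfl
    exact ⟨G', hG'⟩

/-- Base change of an injective module along a flat map with unramified fibres. -/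
theorem injective_baseChange [IsNoetherianRing A] {B : Type u} [CommRing B] [Algebra A B] [IsNoetherianRing B]
    [Module.Flat A B]
    (h : ∀ q : PrimeSpectrum B, Ideal.map (algebraMap B (Localization.AtPrime q.asIdeal))
      ((q.asIdeal.comap (algebraMap A B)).map (algebraMap A B)) = IsLocalRing.maximalIdeal (Localization.AtPrime q.asIdeal))
    (I : Type u) [AddCommGroup I] [Module A I] [Module.Injective A I] : Module.Injective B (B ⊗[A] I) := by
  classical
  haveI := injective_tensor (A := A) B I
  refine injective_of_forall_prime _ fun q hq g => ?_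
  let p := q.comap (algebraMap A B)
  let pB := p.map (algebraMap A B)
  have hle : pB ≤ q := Ideal.map_le_iff_le_comap.2 le_rfl
  -- one denominator
  obtain ⟨t, ht, htq⟩ : ∃ t ∉ q, ∀ c ∈ q, t * c ∈ pB := by
    obtain ⟨n, c, hc⟩ := Submodule.fg_iff_exists_fin_generating_family.1 (IsNoetherian.noetherian q)
    have hcq : ∀ i, c i ∈ q := fun i => hc ▸ Submodule.subset_span ⟨i, rfl⟩
    have : ∀ i, ∃ m : q.primeCompl, (m : B) * c i ∈ pB := fun i => by
      have hmem : algebraMap B (Localization.AtPrime q) (c i) ∈ pB.map (algebraMap B (Localization.AtPrime q)) := by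
        rw [h ⟨q, hq⟩, ← Localization.AtPrime.map_eq_maximalIdeal]
        exact Ideal.mem_map_of_mem _ (hcq i)
      obtain ⟨m, hm, hmc⟩ := (IsLocalization.algebraMap_mem_map_algebraMap_iff q.primeCompl (Localization.AtPrime q) pB (c i)).1 hmem
      exact ⟨⟨m, hm⟩, hmc⟩
    choose m hm using this
    refine ⟨∏ i, (m i : B), (∏ i, m i : q.primeCompl).2 |> fun h => by simpa using h, fun x hx => ?_⟩
    rw [← hc] at hx
    obtain ⟨w, rfl⟩ := (Submodule.mem_span_range_iff_exists_fun B).1 hx
    rw [Finset.mul_sum]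
    refine sum_mem fun i _ => ?_
    rw [smul_eq_mul, mul_left_comm]
    refine Ideal.mul_mem_left _ _ ?_
    rw [← Finset.prod_erase_mul _ _ (Finset.mem_univ i), mul_assoc]
    exact Ideal.mul_mem_left _ _ (hm i)
  -- the restriction to `p`
  let gp : p →ₗ[A] B ⊗[A] I :=
    { toFun := fun a => g ⟨algebraMap A B a, a.2⟩
      map_add' := fun a b => by rw [← map_add]; exact congrArg g (Subtype.ext (map_add _ _ _))
      map_smul' := fun r a => by
        show g _ = r • g ⟨algebraMap A B a, a.2⟩
        rw [← algebraMap_smul B r (g ⟨algebraMap A B a, a.2⟩), ← map_smul g (algebraMap A B r)]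
        exact congrArg g (Subtype.ext (map_mul (algebraMap A B) r a)) }
  obtain ⟨G, hG⟩ := Module.Injective.out p.subtype Subtype.val_injective gp
  have hkey : ∀ z ∈ pB, ∀ hz : z ∈ q, g ⟨z, hz⟩ = z • G 1 := by
    intro z hz
    induction hz using Submodule.span_induction with
    | mem z hz =>
      obtain ⟨a, ha, rfl⟩ := hz
      intro hz
      rw [algebraMap_smul, ← map_smul, smul_eq_mul, mul_one]
      exact (hG ⟨a, ha⟩).symm
    | zero => intro hz; rw [zero_smul]; exact map_zero g
    | add a b ha hb h1 h2 =>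
      intro hz
      rw [add_smul, ← h1 (hle ha), ← h2 (hle hb), ← map_add]; rfl
    | smul r a ha h1 =>
      intro hz
      show g ⟨r • a, hz⟩ = (r * a) • G 1
      rw [mul_smul, ← h1 (hle ha), ← map_smul]; rfl
  refine ⟨t, ht, t • G 1, fun a => ?_⟩
  rw [← map_smul]
  show g ⟨t * (a : B), _⟩ = _
  rw [hkey _ (htq _ a.2), mul_comm, mul_smul]

end Groth.Agent.LocDual54.InjBaseChange
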