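import Groth.Prelude.Def_DRing2
import Groth.Agent.CxLib.Homology
import Groth.Agent.LC.InjNoeth
import Groth.Agent.LocDual54.InjBaseChange
import Mathlib.Algebra.Polynomial.Module.AEval
import Mathlib.RingTheory.Flat.Basic

/-!
# Injective amplitude of `A[X] ⊗ E`
-/

universe u

set_option linter.style.haveILetI false

open CategoryTheory CategoryTheory.Limits Polynomial
open scoped TensorProduct

attribute [local instance] HasDerivedCategory.standard

namespace Groth.Agent.LocDual54.InjPoly

variable {A : Type u} [CommRing A]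

/-- An `A`-linear map commuting with `X` is linear over polynomials. -/
def polyLinear {M N : Type*} [AddCommGroup M] [Module A M] [Module A[X] M] [IsScalarTower A A[X] M]
    [AddCommGroup N] [Module A N] [Module A[X] N] [IsScalarTower A A[X] N] (h : M →ₗ[A] N)
    (hX : ∀ m, h ((X : A[X]) • m) = (X : A[X]) • h m) : M →ₗ[A[X]] N where
  toFun := h
  map_add' := map_add h
  map_smul' p := by
    induction p using Polynomial.induction_on with
    | C a => intro m; simp [C_eq_algebraMap]
    | add p q hp hq => intro m; simp_all [add_smul]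
    | monomial n a ih =>
      intro m
      rw [RingHom.id_apply, pow_succ, ← mul_assoc, mul_smul _ (X : A[X]), mul_smul _ (X : A[X]) (h m), ← hX]
      exact ih _

/-- Kernel of an injective map that is injective over `A`: the cokernel is injective over `A[X]`. -/
theorem injective_coker {M J C : Type u} [AddCommGroup M] [AddCommGroup J] [AddCommGroup C]
    [Module A M] [Module A[X] M] [IsScalarTower A A[X] M]
    [Module A J] [Module A[X] J] [IsScalarTower A A[X] J]
    [Module A C] [Module A[X] C] [IsScalarTower A A[X] C]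
    [Module.Injective A M] [Module.Injective A J] [Module.Injective A[X] J]
    (f : M →ₗ[A[X]] J) (hf : Function.Injective f) (g : J →ₗ[A[X]] C) (hg : Function.Surjective g)
    (hfg : Function.Exact f g) : Module.Injective A[X] C := by
  obtain ⟨r, hr⟩ := Module.Injective.out (f.restrictScalars A) hf (LinearMap.id : M →ₗ[A] M)
  let e : J →ₗ[A] J := LinearMap.id - (f.restrictScalars A).comp r
  have he : LinearMap.ker (g.restrictScalars A) ≤ LinearMap.ker e := fun x hx => by
    obtain ⟨m, rfl⟩ := (hfg x).1 hx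
    rw [LinearMap.mem_ker]
    show f m - f (r (f m)) = 0
    rw [show r (f m) = m from hr m, sub_self]
  let σ : C →ₗ[A] J := ((LinearMap.ker (g.restrictScalars A)).liftQ e he).comp
    ((g.restrictScalars A).quotKerEquivOfSurjective hg).symm.toLinearMap
  have hσ : ∀ c, g (σ c) = c := fun c => by
    obtain ⟨x, rfl⟩ := hg c
    have hx : ((g.restrictScalars A).quotKerEquivOfSurjective hg).symm (g x) = Submodule.Quotient.mk x := by
      rw [LinearEquiv.symm_apply_eq]; rfl
    show g (((LinearMap.ker (g.restrictScalars A)).liftQ e he) (((g.restrictScalars A).quotKerEquivOfSurjective hg).symm (g x))) = g x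
    rw [hx]
    show g (x - f (r x)) = g x
    rw [map_sub, hfg.apply_apply_eq_zero, sub_zero]
  refine ⟨fun P Y _ _ _ _ f' hf' g' => ?_⟩
  letI := Module.compHom P (algebraMap A A[X])
  letI := Module.compHom Y (algebraMap A A[X])
  haveI : IsScalarTower A A[X] P := .of_algebraMap_smul fun _ _ => rfl
  haveI : IsScalarTower A A[X] Y := .of_algebraMap_smul fun _ _ => rfl
  obtain ⟨G₀, hG₀⟩ := Module.Injective.out (f'.restrictScalars A) hf' (σ.comp (g'.restrictScalars A))
  let G : Y →ₗ[A] C := (g.restrictScalars A).comp G₀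
  have hG : ∀ p, G (f' p) = g' p := fun p => (congrArg g (hG₀ p)).trans (hσ _)
  let mX : ∀ (N : Type u) [AddCommGroup N] [Module A N] [Module A[X] N] [IsScalarTower A A[X] N], N →ₗ[A] N :=
    fun N _ _ _ _ => (LinearMap.lsmul A[X] N (X : A[X])).restrictScalars A
  let δ : Y →ₗ[A] J := σ.comp (G.comp (mX Y) - (mX C).comp G)
  have hδ : ∀ p, δ (f' p) = 0 := fun p => by
    show σ (G ((X : A[X]) • f' p) - (X : A[X]) • G (f' p)) = 0
    rw [← map_smul f', hG, hG, map_smul, sub_self, map_zero]
  let T : Module.End A (J × Y) :=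
    LinearMap.prod ((mX J).comp (LinearMap.fst A J Y) + δ.comp (LinearMap.snd A J Y))
      ((mX Y).comp (LinearMap.snd A J Y))
  let o : (J × Y) ≃ₗ[A] Module.AEval' T := Module.AEval'.of T
  let ι : (J × P) →ₗ[A[X]] Module.AEval' T := polyLinear
    (o.toLinearMap.comp (LinearMap.prodMap LinearMap.id (f'.restrictScalars A))) fun z => by
      show o ((X : A[X]) • z.1, f' ((X : A[X]) • z.2)) = (X : A[X]) • o (z.1, f' z.2)
      rw [Module.AEval'.X_smul_of, map_smul]
      refine congrArg o (Prod.ext ?_ rfl)
      show _ = (X : A[X]) • z.1 + δ (f' z.2)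
      rw [hδ, add_zero]
  have hι : Function.Injective ι := fun a b hab => by
    have h := o.injective (show o (a.1, f' a.2) = o (b.1, f' b.2) from hab)
    exact Prod.ext (congrArg (fun w : J × Y => w.1) h) (hf' (congrArg (fun w : J × Y => w.2) h))
  obtain ⟨ρ, hρ⟩ := Module.Injective.out ι hι (LinearMap.fst A[X] J P)
  let φ : Y →ₗ[A] J := (ρ.restrictScalars A).comp (o.toLinearMap.comp (LinearMap.inr A J Y))
  have hφf : ∀ p, φ (f' p) = 0 := fun p => hρ (0, p)
  have hφ : ∀ y, φ ((X : A[X]) • y) = (X : A[X]) • φ y - δ y := fun y => by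
    have h1 : ρ (o (δ y, 0)) = δ y := by
      have := hρ (δ y, 0)
      change ρ (o (δ y, f' 0)) = δ y at this
      rwa [map_zero] at this
    have h2 : ρ ((X : A[X]) • o (0, y)) = (X : A[X]) • φ y := map_smul ρ _ _
    rw [Module.AEval'.X_smul_of] at h2
    rw [eq_sub_iff_add_eq, ← h2]
    conv_lhs => arg 2; rw [← h1]
    show ρ (o (0, (X : A[X]) • y)) + ρ (o (δ y, 0)) = _
    rw [← map_add, ← map_add]
    refine congrArg _ (congrArg o ?_)
    show ((0 : J) + δ y, (X : A[X]) • y + 0) = ((X : A[X]) • (0 : J) + δ y, (X : A[X]) • y)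
    rw [smul_zero, add_zero]
  refine ⟨polyLinear (G + (g.restrictScalars A).comp φ) fun y => ?_, fun p => ?_⟩
  · show G ((X : A[X]) • y) + g (φ ((X : A[X]) • y)) = (X : A[X]) • (G y + g (φ y))
    rw [hφ, map_sub, map_smul g, smul_add]
    show G ((X : A[X]) • y) + ((X : A[X]) • g (φ y) - g (σ (G ((X : A[X]) • y) - (X : A[X]) • G y))) = _
    rw [hσ]; abel
  · show G (f' p) + g (φ (f' p)) = g' p
    rw [hφf, map_zero, add_zero, hG]

/-- A short exact sequence with two injective terms gives amplitude `[0, 1]`. -/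
theorem hasInjAmp {R : Type u} [CommRing R] (M J C : Type u) [AddCommGroup M] [Module R M] [AddCommGroup J] [Module R J]
    [AddCommGroup C] [Module R C] [Module.Injective R J] [Module.Injective R C] (f : M →ₗ[R] J)
    (hf : Function.Injective f) (g : J →ₗ[R] C) (hg : Function.Surjective g) (hfg : Function.Exact f g) :
    DRing.HasInjAmplitudeIn R 0 1 (Dual.inD R M) := by
  let Mo := ModuleCat.of R M
  have hrel : (ComplexShape.up ℤ).Rel 0 1 := by simp
  let E : CochainComplex (ModuleCat.{u} R) ℤ := HomologicalComplex.double (ModuleCat.ofHom g) hrel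
  let e₀ : E.X 0 ≅ ModuleCat.of R J := HomologicalComplex.doubleXIso₀ (ModuleCat.ofHom g) hrel
  let e₁ : E.X 1 ≅ ModuleCat.of R C := HomologicalComplex.doubleXIso₁ (ModuleCat.ofHom g) hrel (by simp)
  have hd : ∀ x, e₁.hom.hom ((E.d 0 1).hom x) = g (e₀.hom.hom x) := fun x => by
    show e₁.hom.hom (((HomologicalComplex.double (ModuleCat.ofHom g) hrel).d 0 1).hom x) = _
    rw [HomologicalComplex.double_d _ _ (by simp)]
    exact e₁.toLinearEquiv.apply_symm_apply _
  have hd' : ∀ x, (E.d 0 1).hom x = 0 ↔ g (e₀.hom.hom x) = 0 := fun x => by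
    rw [← hd]
    exact ⟨fun h => by rw [h, map_zero], fun h => e₁.toLinearEquiv.map_eq_zero_iff.1 h⟩
  let S : CochainComplex (ModuleCat.{u} R) ℤ := (HomologicalComplex.single (ModuleCat.{u} R) (ComplexShape.up ℤ) 0).obj Mo
  let φ : S ⟶ E := HomologicalComplex.mkHomFromSingle (ModuleCat.ofHom f ≫ e₀.inv) fun k hk => by
    obtain rfl : 0 + 1 = k := hk
    refine ModuleCat.hom_ext (LinearMap.ext fun m => ?_)
    refine (hd' (e₀.inv.hom (f m))).2 ?_
    exact (congrArg g (e₀.toLinearEquiv.apply_symm_apply (f m))).trans (hfg.apply_apply_eq_zero m)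
  have hφ0 : ∀ x, e₀.hom.hom ((φ.f 0).hom x) = f ((HomologicalComplex.singleObjXSelf (ComplexShape.up ℤ) 0 Mo).hom.hom x) := fun x => by
    show e₀.hom.hom ((φ.f 0).hom x) = _
    rw [show φ.f 0 = _ from HomologicalComplex.mkHomFromSingle_f (K := E) (A := Mo) (ModuleCat.ofHom f ≫ e₀.inv) _]
    exact e₀.toLinearEquiv.apply_symm_apply _
  have hzS : ∀ i : ℤ, i ≠ 0 → IsZero (S.X i) := fun i hi => HomologicalComplex.isZero_single_obj_X (ComplexShape.up ℤ) 0 Mo i hi
  have hzE : ∀ i : ℤ, i ≠ 0 → i ≠ 1 → IsZero (E.X i) := fun i h h' => HomologicalComplex.isZero_double_X _ _ i h h'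
  haveI : QuasiIso φ := ⟨fun i => by
    rw [quasiIsoAt_iff_isIso_homologyMap]
    haveI : Mono (HomologicalComplex.homologyMap φ i) := by
      rw [CxLib.mono_homologyMap_iff _ i (i - 1) (i + 1) (by simp) (by simp)]
      intro x _ hw
      refine ⟨0, (map_zero _).trans ?_⟩
      by_cases h0 : i = 0
      · subst h0
        obtain ⟨w, hw⟩ := hw
        haveI := ModuleCat.isZero_iff_subsingleton.1 (hzE (0 - 1) (by omega) (by omega))
        rw [Subsingleton.elim w 0, map_zero] at hw
        refine ((HomologicalComplex.singleObjXSelf (ComplexShape.up ℤ) 0 Mo).toLinearEquiv.map_eq_zero_iff.1 (hf ?_)).symm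
        rw [map_zero]
        exact (hφ0 x).symm.trans (by rw [← hw, map_zero])
      · haveI := ModuleCat.isZero_iff_subsingleton.1 (hzS i h0)
        exact Subsingleton.elim _ _
    haveI : Epi (HomologicalComplex.homologyMap φ i) := by
      rw [CxLib.epi_homologyMap_iff _ i (i - 1) (i + 1) (by simp) (by simp)]
      intro y hy
      by_cases h0 : i = 0
      · subst h0
        obtain ⟨m, hm⟩ := (hfg (e₀.hom.hom y)).1 ((hd' y).1 hy)
        haveI := ModuleCat.isZero_iff_subsingleton.1 (hzS (0 + 1) (by omega))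
        refine ⟨(HomologicalComplex.singleObjXSelf (ComplexShape.up ℤ) 0 Mo).inv.hom m, Subsingleton.elim _ _, 0, ?_⟩
        rw [map_zero, eq_comm, sub_eq_zero]
        refine e₀.toLinearEquiv.injective (hm.symm.trans ?_)
        refine Eq.trans ?_ (hφ0 _).symm
        exact congrArg f ((HomologicalComplex.singleObjXSelf (ComplexShape.up ℤ) 0 Mo).toLinearEquiv.apply_symm_apply m).symm
      · refine ⟨0, map_zero _, ?_⟩
        by_cases h1 : i = 1
        · subst h1
          obtain ⟨j, hj⟩ := hg (e₁.hom.hom y)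
          refine ⟨e₀.inv.hom j, ?_⟩
          rw [map_zero, sub_zero]
          refine e₁.toLinearEquiv.injective ?_
          show e₁.hom.hom ((E.d 0 1).hom (e₀.inv.hom j)) = e₁.hom.hom y
          rw [hd, ← hj]
          exact congrArg g (e₀.toLinearEquiv.apply_symm_apply j)
        · haveI := ModuleCat.isZero_iff_subsingleton.1 (hzE i h0 h1)
          exact ⟨0, Subsingleton.elim _ _⟩
    exact isIso_of_mono_of_epi _⟩
  refine ⟨E, fun i hi => hzE i (by omega) (by omega), fun i => ?_,
    ⟨(asIso (DerivedCategory.Q.map φ)).symm ≪≫ ((DerivedCategory.singleFunctorIsoCompQ (ModuleCat.{u} R) 0).app Mo).symm⟩⟩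
  rw [Module.injective_iff_injective_object]
  by_cases h0 : i = 0
  · subst h0; exact Injective.of_iso e₀.symm ((Module.injective_iff_injective_object R J).1 inferInstance)
  by_cases h1 : i = 1
  · subst h1; exact Injective.of_iso e₁.symm ((Module.injective_iff_injective_object R C).1 inferInstance)
  exact Injective.of_iso (hzE i h0 h1).isoZero.symm inferInstance

theorem hasInjAmp_polynomial [IsNoetherianRing A] (E : Type u) [AddCommGroup E] [Module A E] [Module.Injective A E] :
    DRing.HasInjAmplitudeIn A[X] 0 1 (Dual.inD A[X] (A[X] ⊗[A] E)) := by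
  haveI : Module.Injective A (A[X] ⊗[A] E) := InjBaseChange.injective_tensor A[X] E
  obtain ⟨J, _, _, hJ, f, hf⟩ := LC.exists_injective_embedding A[X] (A[X] ⊗[A] E)
  haveI := hJ
  letI := Module.compHom J (algebraMap A A[X])
  haveI : IsScalarTower A A[X] J := .of_algebraMap_smul fun _ _ => rfl
  haveI : Module.Injective A J := LC.injective_restrict_of_flat (S := A[X]) A J
  let C := J ⧸ LinearMap.range f
  let g : J →ₗ[A[X]] C := (LinearMap.range f).mkQ
  have hfg : Function.Exact f g := LinearMap.exact_iff.2 (Submodule.ker_mkQ _)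
  haveI : Module.Injective A[X] C := injective_coker f hf g (Submodule.mkQ_surjective _) hfg
  exact hasInjAmp _ J C f hf g (Submodule.mkQ_surjective _) hfg

end Groth.Agent.LocDual54.InjPoly
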