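import Groth.Agent.LocDual54.RGammaTorsion

/-!
# `RΓ_I` as a coreflection; composition
-/

universe u

open CategoryTheory CategoryTheory.Limits

namespace Groth.Agent.LocDual54

attribute [local instance] HasDerivedCategory.standard

variable {A : Type u} [CommRing A] (I : Ideal A) [DRing.HasRgammaI I]

theorem rgammaUnit_natural {J J' : CochainComplex (ModuleCat.{u} A) ℤ} (φ : J ⟶ J') :
    rgammaUnit I J ≫ (DRing.RgammaI I).map (DerivedCategory.Q.map φ) =
      DerivedCategory.Q.map (((DRing.gammaI I).mapHomologicalComplex (ComplexShape.up ℤ)).map φ) ≫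
        rgammaUnit I J' := by
  let φ₁ := ((DRing.gammaI I).mapHomologicalComplex (ComplexShape.up ℤ)).map φ
  let qC := HomotopyCategory.quotient (ModuleCat.{u} A) (ComplexShape.up ℤ)
  have h1 := DerivedCategory.quotientCompQhIso_inv_naturality (C := ModuleCat.{u} A) φ₁
  have h2 := ((DRing.gammaI I).mapHomotopyCategoryFactors (ComplexShape.up ℤ)).inv.naturality φ
  have h3 := ((DRing.gammaIKh I).totalRightDerivedUnit DerivedCategory.Qh
      (HomotopyCategory.quasiIso (ModuleCat.{u} A) (ComplexShape.up ℤ))).naturality (qC.map φ)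
  have h4 := DerivedCategory.quotientCompQhIso_hom_naturality (C := ModuleCat.{u} A) φ
  unfold rgammaUnit
  simp only [Category.assoc]
  rw [← Functor.map_comp]
  erw [← h4]
  rw [Functor.map_comp]
  erw [← reassoc_of% h3]
  erw [reassoc_of% h1]
  congr 1
  erw [← Functor.map_comp_assoc, ← Functor.map_comp_assoc]
  erw [h2]

theorem gammaCxι_map (J : CochainComplex (ModuleCat.{u} A) ℤ) :
    ((DRing.gammaI I).mapHomologicalComplex (ComplexShape.up ℤ)).map (gammaCxι I J) =
      gammaCxι I (gammaCx I J) :=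
  HomologicalComplex.hom_ext _ _ fun n => ModuleCat.hom_ext (LinearMap.ext fun x => Subtype.ext rfl)

instance isIso_gammaCxι_gammaCx (J : CochainComplex (ModuleCat.{u} A) ℤ) :
    IsIso (gammaCxι I (gammaCx I J)) := by
  have : ∀ n, IsIso ((gammaCxι I (gammaCx I J)).f n) := fun n => (ConcreteCategory.isIso_iff_bijective _).2
    ⟨fun x y h => Subtype.ext h,
      fun y => ⟨⟨y, ((y : DRing.torsionSub I (J.X n)).2).imp fun m hm a ha => Subtype.ext (hm a ha)⟩, rfl⟩⟩
  exact HomologicalComplex.Hom.isIso_of_components _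

variable [IsNoetherianRing A]

theorem isPowerTorsion_of_iso {K L : Dual.D A} (e : K ≅ L)
    (h : ∀ i : ℤ, LocCoh.IsPowerTorsion I (Dual.HD A K i)) (i : ℤ) : LocCoh.IsPowerTorsion I (Dual.HD A L i) :=
  isPowerTorsion_of_linearEquiv I ((DerivedCategory.homologyFunctor _ i).mapIso e).toLinearEquiv (h i)

/-- The two maps `RΓ_I RΓ_I K → RΓ_I K` agree. -/
theorem ε_rgamma (K : Dual.D A) :
    (DRing.RgammaIε I).app ((DRing.RgammaI I).obj K) = (DRing.RgammaI I).map ((DRing.RgammaIε I).app K) := by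
  suffices h : ∀ J : CochainComplex (ModuleCat.{u} A) ℤ, J.IsKInjective →
      (DRing.RgammaIε I).app ((DRing.RgammaI I).obj (DerivedCategory.Q.obj J)) =
        (DRing.RgammaI I).map ((DRing.RgammaIε I).app (DerivedCategory.Q.obj J)) by
    obtain ⟨J, hJ, -, ⟨e⟩⟩ := exists_kinj_rep K
    have h' := h J hJ
    have n1 := (DRing.RgammaIε I).naturality ((DRing.RgammaI I).map e.hom)
    have n2 := congrArg (DRing.RgammaI I).map ((DRing.RgammaIε I).naturality e.hom)
    simp only [Functor.id_map, Functor.map_comp] at n1 n2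
    rw [← cancel_epi ((DRing.RgammaI I).map ((DRing.RgammaI I).map e.hom)), n1, n2, h']
  intro J hJ
  let G := gammaCx I J
  have hι : IsIso (DerivedCategory.Q.map (gammaCxι I G)) := inferInstance
  have hε : IsIso ((DRing.RgammaIε I).app (DerivedCategory.Q.obj G)) :=
    isIso_ε I _ fun q => isPowerTorsion_of_linearEquiv I (hdIso G q).symm.toLinearEquiv
      (isPowerTorsion_homology_gammaCx I J q)
  have hu : IsIso (rgammaUnit I G) := by
    have : IsIso (rgammaUnit I G ≫ (DRing.RgammaIε I).app (DerivedCategory.Q.obj G)) := by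
      rw [rgammaUnit_ε]; exact hι
    exact IsIso.of_isIso_comp_right _ ((DRing.RgammaIε I).app (DerivedCategory.Q.obj G))
  rw [← cancel_epi ((DRing.RgammaI I).map (rgammaUnit I J)), ← cancel_epi (rgammaUnit I G)]
  have n1 := (DRing.RgammaIε I).naturality (rgammaUnit I J)
  rw [n1, ← Functor.map_comp, rgammaUnit_ε, rgammaUnit_natural, gammaCxι_map, Functor.id_map,
    ← Category.assoc, rgammaUnit_ε]

/-- Composition with `ε`. -/
theorem comp_ε_bijective (L K : Dual.D A) (hL : ∀ i : ℤ, LocCoh.IsPowerTorsion I (Dual.HD A L i)) :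
    Function.Bijective fun f : L ⟶ (DRing.RgammaI I).obj K => f ≫ (DRing.RgammaIε I).app K := by
  have := isIso_ε I L hL
  refine Function.bijective_iff_has_inverse.2
    ⟨fun g => inv ((DRing.RgammaIε I).app L) ≫ (DRing.RgammaI I).map g, fun f => ?_, fun g => ?_⟩
  · dsimp only
    rw [Functor.map_comp, ← ε_rgamma, IsIso.inv_comp_eq]
    exact (DRing.RgammaIε I).naturality f
  · dsimp only
    rw [Category.assoc, IsIso.inv_comp_eq]
    exact (DRing.RgammaIε I).naturality g

/-- The coreflection adjunction. -/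
theorem nonempty_adj (h : ∀ K : Dual.D A,
    (fun L : Dual.D A => ∀ i : ℤ, LocCoh.IsPowerTorsion I (Dual.HD A L i)) ((DRing.RgammaI I).obj K)) :
    Nonempty (ObjectProperty.ι (fun L : Dual.D A => ∀ i : ℤ, LocCoh.IsPowerTorsion I (Dual.HD A L i)) ⊣
      ObjectProperty.lift (fun L : Dual.D A => ∀ i : ℤ, LocCoh.IsPowerTorsion I (Dual.HD A L i))
        (DRing.RgammaI I) h) :=
  ⟨Adjunction.mkOfHomEquiv
    { homEquiv := fun L K =>
        ((Equiv.ofBijective _ (comp_ε_bijective I L.obj K L.property)).symm).trans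
          { toFun := fun f => ObjectProperty.homMk f
            invFun := fun f => f.hom
            left_inv := fun f => rfl
            right_inv := fun f => rfl }
      homEquiv_naturality_left_symm := fun f g => by
        show (f.hom ≫ g.hom) ≫ _ = f.hom ≫ g.hom ≫ _
        rw [Category.assoc]
      homEquiv_naturality_right := fun {X Y Y'} f g => by
        apply ObjectProperty.hom_ext
        refine (comp_ε_bijective I X.obj Y' X.property).1 ?_
        show (Equiv.ofBijective _ _).symm (f ≫ g) ≫ _ = ((Equiv.ofBijective _ _).symm f ≫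
          (DRing.RgammaI I).map g) ≫ _
        rw [Category.assoc, (DRing.RgammaIε I).naturality g, ← Category.assoc]
        exact ((Equiv.ofBijective _ (comp_ε_bijective I X.obj Y' X.property)).apply_symm_apply (f ≫ g)).trans
          (congrArg (· ≫ g) ((Equiv.ofBijective _ (comp_ε_bijective I X.obj Y X.property)).apply_symm_apply f).symm) }⟩

omit [DRing.HasRgammaI I] in
theorem isPowerTorsion_HD_rgamma_of (J : Ideal A) [DRing.HasRgammaI J] (K : Dual.D A)
    (hK : ∀ i : ℤ, LocCoh.IsPowerTorsion I (Dual.HD A K i)) (q : ℤ) :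
    LocCoh.IsPowerTorsion I (Dual.HD A ((DRing.RgammaI J).obj K) q) := by
  obtain ⟨L, hL, hinj, ⟨e⟩⟩ := exists_kinj_rep K
  refine isPowerTorsion_of_linearEquiv I ((hdIso (gammaCx J L) q).symm ≪≫
    (DerivedCategory.homologyFunctor _ q).mapIso (asIso (rgammaUnit J L) ≪≫
      (DRing.RgammaI J).mapIso e)).toLinearEquiv ?_
  have hc := torsionCycles_of_homology I L fun q =>
    isPowerTorsion_of_linearEquiv I ((DerivedCategory.homologyFunctor _ q).mapIso e.symm ≪≫
      hdIso L q).toLinearEquiv (hK q)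
  intro z
  obtain ⟨c, rfl⟩ := exists_cycle (gammaCx J L) q z
  have hle : I ≤ Ideal.radical (LinearMap.ker (LinearMap.toSpanSingleton A _ (((gammaCx J L).homologyπ q).hom c))) := by
    intro f hf
    obtain ⟨n, w, hw, hdw⟩ := exists_pow_smul_eq_d (fun m =>
      haveI := hinj m
      Module.injective_module_of_injective_object A (L.X m)) f
      (fun p q hpq x hx => by
        obtain ⟨n, hn⟩ := hc p q hpq x hx
        exact ⟨n, hn _ (Ideal.pow_mem_pow hf n)⟩)
      J (q - 1) q (sub_add_cancel q 1) _ (((gammaCx J L).iCycles q).hom c : DRing.torsionSub J (L.X q)).2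
      (congrArg Subtype.val (d_iCycles c))
    refine ⟨n, ?_⟩
    rw [LinearMap.mem_ker, LinearMap.toSpanSingleton_apply, ← map_smul, homologyπ_eq_zero_iff]
    exact ⟨⟨w, hw⟩, Subtype.ext (hdw.trans (congrArg Subtype.val (map_smul ((gammaCx J L).iCycles q).hom _ c)).symm)⟩
  obtain ⟨n, hn⟩ := Ideal.exists_pow_le_of_le_radical_of_fg hle (IsNoetherian.noetherian I)
  exact ⟨n, fun a ha => hn ha⟩

omit [DRing.HasRgammaI I] [IsNoetherianRing A] in
theorem isPowerTorsion_sup {J : Ideal A} {M : Type u} [AddCommGroup M] [Module A M]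
    (h1 : LocCoh.IsPowerTorsion I M) (h2 : LocCoh.IsPowerTorsion J M) : LocCoh.IsPowerTorsion (I ⊔ J) M := by
  intro x
  obtain ⟨n, hn⟩ := h1 x
  obtain ⟨k, hk⟩ := h2 x
  refine ⟨n + k, fun c hc => ?_⟩
  obtain ⟨u, hu, v, hv, rfl⟩ := Submodule.mem_sup.1 (Ideal.sup_pow_add_le_pow_sup_pow hc)
  rw [add_smul, hn u hu, hk v hv, add_zero]

omit [DRing.HasRgammaI I] [IsNoetherianRing A] in
theorem isPowerTorsion_mono {J : Ideal A} (h : I ≤ J) {M : Type u} [AddCommGroup M] [Module A M]
    (hM : LocCoh.IsPowerTorsion J M) : LocCoh.IsPowerTorsion I M :=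
  fun x => (hM x).imp fun n hn c hc => hn c (Ideal.pow_right_mono h n hc)

theorem nonempty_rgamma_comp_iso (J : Ideal A) [DRing.HasRgammaI J] [DRing.HasRgammaI (I ⊔ J)] (K : Dual.D A) :
    Nonempty ((DRing.RgammaI J).obj ((DRing.RgammaI I).obj K) ≅ (DRing.RgammaI (I ⊔ J)).obj K) := by
  let P := (DRing.RgammaI J).obj ((DRing.RgammaI I).obj K)
  have hP : ∀ q, LocCoh.IsPowerTorsion (I ⊔ J) (Dual.HD A P q) := fun q =>
    isPowerTorsion_sup I (isPowerTorsion_HD_rgamma_of I J _ (isPowerTorsion_HD_rgamma I K) q)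
      (isPowerTorsion_HD_rgamma J _ q)
  let π : P ⟶ K := (DRing.RgammaIε J).app _ ≫ (DRing.RgammaIε I).app K
  let Q := (DRing.RgammaI (I ⊔ J)).obj K
  have hQ := fun q => isPowerTorsion_HD_rgamma (I ⊔ J) K q
  have key : ∀ L : Dual.D A, (∀ q, LocCoh.IsPowerTorsion (I ⊔ J) (Dual.HD A L q)) →
      Function.Bijective fun f : L ⟶ P => f ≫ π := fun L hL => by
    have := (comp_ε_bijective I L K fun q => isPowerTorsion_mono I le_sup_left (hL q)).comp
      (comp_ε_bijective J L ((DRing.RgammaI I).obj K) fun q => isPowerTorsion_mono J le_sup_right (hL q))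
    simpa [Function.comp_def, π, P] using this
  obtain ⟨α, hα⟩ := (comp_ε_bijective (I ⊔ J) P K hP).2 π
  obtain ⟨β, hβ⟩ := (key Q hQ).2 ((DRing.RgammaIε (I ⊔ J)).app K)
  simp only at hα hβ
  exact ⟨{ hom := α, inv := β
           hom_inv_id := (key P hP).1 (by
             show (α ≫ β) ≫ π = 𝟙 P ≫ π
             rw [Category.assoc, hβ, hα, Category.id_comp])
           inv_hom_id := (comp_ε_bijective (I ⊔ J) Q K hQ).1 (by
             show (β ≫ α) ≫ (DRing.RgammaIε (I ⊔ J)).app K = 𝟙 Q ≫ (DRing.RgammaIε (I ⊔ J)).app K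
             rw [Category.assoc, hα, hβ, Category.id_comp]) }⟩

end Groth.Agent.LocDual54
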