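import Groth.Prelude.Def_DDual2
import Groth.Agent.LocDual54.RGammaAdj
import Groth.Agent.LocDual54.HDIBridge
import Mathlib.Algebra.Homology.DerivedCategory.Linear

/-!
# Objects right orthogonal to torsion objects, through iterated cones of multiplications
-/

universe u

open CategoryTheory CategoryTheory.Limits CategoryTheory.Pretriangulated

namespace Groth.Agent.LocDual54

attribute [local instance] HasDerivedCategory.standard

variable {A : Type u} [CommRing A]

/-- The total right derived functor of `Γ_I` exists. -/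
theorem hasRgammaI (I : Ideal A) : DRing.HasRgammaI I := by
  open Groth.Agent.TriCat in
  have := qh_isLeftAdjoint_of_exists_resolution (exists_res (A := A))
  let adj := Adjunction.ofIsLeftAdjoint (DerivedCategory.Qh (C := ModuleCat.{u} A))
  have hd := isRightDerivedFunctor_of_adjunction adj
    (HomotopyCategory.quasiIso (ModuleCat.{u} A) (ComplexShape.up ℤ)) (DRing.gammaIKh I)
  exact Functor.HasRightDerivedFunctor.mk' (L := DerivedCategory.Qh)
    (DerivedCategory.Qh.rightAdjoint ⋙ DRing.gammaIKh I) (Functor.whiskerRight adj.unit (DRing.gammaIKh I))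
    (W := HomotopyCategory.quasiIso (ModuleCat.{u} A) (ComplexShape.up ℤ))

/-- Torsion cohomology. -/
def IsTors (I : Ideal A) (L : Dual.D A) : Prop := ∀ i : ℤ, LocCoh.IsPowerTorsion I (Dual.HD A L i)

/-- Right orthogonal to objects with torsion cohomology. -/
def IsLocal (I : Ideal A) (C : Dual.D A) : Prop := ∀ L : Dual.D A, IsTors I L → ∀ x : L ⟶ C, x = 0

/-- The iterated cone of the multiplications by the members of `fs` vanishes. -/
def KosZero : List A → Dual.D A → Prop
  | [], C => IsZero C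
  | f :: fs, C => ∃ (C' : Dual.D A) (g : C ⟶ C') (h : C' ⟶ C⟦(1 : ℤ)⟧),
      Triangle.mk (f • 𝟙 C) g h ∈ distTriang _ ∧ KosZero fs C'

theorem homologyMap_smul (f : A) (C : Dual.D A) (i : ℤ) (x : Dual.HD A C i) :
    ((DerivedCategory.homologyFunctor (ModuleCat.{u} A) i).map (f • 𝟙 C)).hom x = f • x := by
  obtain ⟨J, -, -, ⟨e⟩⟩ := exists_kinj_rep C
  have hn : (DerivedCategory.homologyFunctor (ModuleCat.{u} A) i).map (DerivedCategory.Q.map (smulCx J f)) ≫
      (hdIso J i).hom = (hdIso J i).hom ≫ HomologicalComplex.homologyMap (smulCx J f) i :=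
    (DerivedCategory.homologyFunctorFactors (ModuleCat.{u} A) i).hom.naturality (smulCx J f)
  have hs : smulCx J f = f • 𝟙 J :=
    HomologicalComplex.hom_ext _ _ fun n => ModuleCat.hom_ext (LinearMap.ext fun x => rfl)
  have hQ : DerivedCategory.Q.map (smulCx J f) = f • 𝟙 (DerivedCategory.Q.obj J) := by
    rw [hs, Functor.map_smul, CategoryTheory.Functor.map_id]
  have hC : e.hom ≫ (f • 𝟙 C) = (f • 𝟙 (DerivedCategory.Q.obj J)) ≫ e.hom := by
    rw [Linear.comp_smul, Category.comp_id, Linear.smul_comp, Category.id_comp]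
  let Φ := ((DerivedCategory.homologyFunctor _ i).mapIso e.symm ≪≫ hdIso J i).toLinearEquiv
  apply Φ.injective
  rw [map_smul, ← homologyMap_smulCx]
  show ((DerivedCategory.homologyFunctor _ i).map e.inv ≫ (hdIso J i).hom).hom
      (((DerivedCategory.homologyFunctor _ i).map (f • 𝟙 C)).hom x) =
    (HomologicalComplex.homologyMap (smulCx J f) i).hom
      (((DerivedCategory.homologyFunctor _ i).map e.inv ≫ (hdIso J i).hom).hom x)
  rw [← ModuleCat.comp_apply, ← ModuleCat.comp_apply]
  congr 1
  congr 1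
  rw [← Category.assoc, ← Functor.map_comp, Category.assoc, ← hn, ← Category.assoc, ← Functor.map_comp, hQ]
  congr 2
  rw [Linear.comp_smul, Category.comp_id, Linear.smul_comp, Category.id_comp]

variable (I : Ideal A)

theorem isTors_of_iso {K L : Dual.D A} (e : K ≅ L) (h : IsTors I K) : IsTors I L := fun i =>
  isPowerTorsion_of_linearEquiv I ((DerivedCategory.homologyFunctor _ i).mapIso e).toLinearEquiv (h i)

theorem isTors_shift {L : Dual.D A} (h : IsTors I L) (n : ℤ) : IsTors I (L⟦n⟧) := fun i =>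
  isPowerTorsion_of_linearEquiv I
    (((DerivedCategory.homologyFunctor (ModuleCat.{u} A) 0).shiftIso n i (n + i) rfl).app L).symm.toLinearEquiv
    (h (n + i))

theorem isLocal_of_iso {C C' : Dual.D A} (e : C ≅ C') (h : IsLocal I C) : IsLocal I C' := fun L hL x => by
  rw [← cancel_mono e.inv, zero_comp]
  exact h L hL _

theorem eq_zero_of_shift_hom_eq_zero {n m : ℤ} (hnm : n + m = 0) {L C : Dual.D A}
    (h : ∀ y : L⟦n⟧ ⟶ C, y = 0) (x : L ⟶ C⟦m⟧) : x = 0 :=
  ((shiftEquiv' (Dual.D A) n m hnm).toAdjunction.homEquiv L C).symm.injective ((h _).trans (h _).symm)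

theorem isLocal_shift {C : Dual.D A} (h : IsLocal I C) (n : ℤ) : IsLocal I (C⟦n⟧) := fun L hL x =>
  eq_zero_of_shift_hom_eq_zero (neg_add_cancel n) (h _ (isTors_shift I hL (-n))) x

/-- Bijectivity of composition passes to shifts. -/
theorem comp_shift_bijective {P K : Dual.D A} (ε : P ⟶ K)
    (h : ∀ L, IsTors I L → Function.Bijective fun f : L ⟶ P => f ≫ ε) (n : ℤ) (L : Dual.D A) (hL : IsTors I L) :
    Function.Bijective fun f : L ⟶ P⟦n⟧ => f ≫ ε⟦n⟧' := by
  let adj := (shiftEquiv' (Dual.D A) (-n) n (neg_add_cancel n)).toAdjunction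
  have e : (fun f : L ⟶ P⟦n⟧ => f ≫ ε⟦n⟧') =
      (adj.homEquiv L K) ∘ (fun f => f ≫ ε) ∘ (adj.homEquiv L P).symm := by
    funext f
    simp only [Function.comp_apply]
    rw [adj.homEquiv_naturality_right, Equiv.apply_symm_apply]
    rfl
  rw [e]
  exact (adj.homEquiv L K).bijective.comp ((h _ (isTors_shift I hL (-n))).comp (adj.homEquiv L P).symm.bijective)

/-- In a distinguished triangle with local third object, the first map is universal. -/
theorem comp_bijective_of_isLocal (T : Triangle (Dual.D A)) (hT : T ∈ distTriang _) (h : IsLocal I T.obj₃)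
    (L : Dual.D A) (hL : IsTors I L) : Function.Bijective fun f : L ⟶ T.obj₁ => f ≫ T.mor₁ := by
  constructor
  · intro y y' he
    simp only at he
    rw [← sub_eq_zero] at he ⊢
    rw [← Preadditive.sub_comp] at he
    obtain ⟨z, hz⟩ := T.invRotate.coyoneda_exact₂ (inv_rot_of_distTriang _ hT) (y - y') he
    rw [hz, show z = 0 from isLocal_shift I h (-1) L hL z]
    exact zero_comp
  · intro x
    obtain ⟨y, hy⟩ := T.coyoneda_exact₂ hT x (h L hL _)
    exact ⟨y, hy.symm⟩

section Noeth

variable [DRing.HasRgammaI I] [IsNoetherianRing A]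

/-- The localisation triangle. -/
theorem exists_local_triangle (K : Dual.D A) : ∃ (C : Dual.D A) (g : K ⟶ C)
    (h : C ⟶ ((DRing.RgammaI I).obj K)⟦(1 : ℤ)⟧),
    Triangle.mk ((DRing.RgammaIε I).app K) g h ∈ distTriang _ ∧ IsLocal I C := by
  obtain ⟨C, g, h, hT⟩ := distinguished_cocone_triangle ((DRing.RgammaIε I).app K)
  refine ⟨C, g, h, hT, fun L hL x => ?_⟩
  have h31 := comp_distTriang_mor_zero₃₁ _ hT
  have hx : x ≫ h = 0 := by
    refine (comp_shift_bijective I _ (fun M hM => comp_ε_bijective I M K hM) 1 L hL).1 ?_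
    show (x ≫ h) ≫ _ = 0 ≫ _
    rw [Category.assoc, zero_comp]
    exact (congrArg (x ≫ ·) h31).trans comp_zero
  obtain ⟨y, hy⟩ := Triangle.coyoneda_exact₃ _ hT x hx
  obtain ⟨z, hz⟩ := (comp_ε_bijective I L K hL).2 y
  simp only at hz
  rw [hy, ← hz]
  exact (Category.assoc _ _ _).trans ((congrArg (z ≫ ·) (comp_distTriang_mor_zero₁₂ _ hT)).trans comp_zero)

theorem isLocal_of_isZero_rgamma {C : Dual.D A} (h : IsZero ((DRing.RgammaI I).obj C)) : IsLocal I C :=
  fun L hL x => by
    obtain ⟨z, hz⟩ := (comp_ε_bijective I L C hL).2 x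
    rw [← hz, h.eq_of_tgt z 0]
    exact zero_comp

/-- An object left orthogonal to all local objects has torsion cohomology. -/
theorem isTors_of_orth {X : Dual.D A} (h : ∀ C, IsLocal I C → ∀ x : X ⟶ C, x = 0) : IsTors I X := fun i => by
  obtain ⟨C, g, d, hT, hC⟩ := exists_local_triangle I X
  obtain ⟨s, hs⟩ := Triangle.coyoneda_exact₂ _ hT (𝟙 X) ((Category.id_comp g).trans (h C hC g))
  let H := DerivedCategory.homologyFunctor (ModuleCat.{u} A) i
  intro x
  obtain ⟨n, hn⟩ := isPowerTorsion_HD_rgamma I X i ((H.map s).hom x)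
  refine ⟨n, fun a ha => ?_⟩
  have hsx : (H.map ((DRing.RgammaIε I).app X)).hom ((H.map s).hom x) = x := by
    refine (ModuleCat.comp_apply (H.map s) _ x).symm.trans ?_
    refine (congrArg (fun k : H.obj X ⟶ H.obj X => k.hom x) (H.map_comp s _).symm).trans ?_
    refine (congrArg (fun k => (H.map k).hom x) hs.symm).trans ?_
    exact (congrArg (fun k : H.obj X ⟶ H.obj X => k.hom x) (H.map_id X)).trans rfl
  rw [← hsx, ← map_smul, hn a ha, map_zero]

omit [DRing.HasRgammaI I] [IsNoetherianRing A] in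
theorem isZero_of_homology' {X : Dual.D A}
    (h : ∀ i, IsZero ((DerivedCategory.homologyFunctor (ModuleCat.{u} A) i).obj X)) : IsZero X := by
  have : IsIso (0 : X ⟶ X) := (DerivedCategory.isIso_iff _ _).2 fun i =>
    ⟨0, (h i).eq_of_src _ _, (h i).eq_of_src _ _⟩
  exact (IsZero.iff_id_eq_zero X).2 ((IsIso.hom_inv_id (0 : X ⟶ X)).symm.trans zero_comp)

omit [DRing.HasRgammaI I] [IsNoetherianRing A] in
/-- Vanishing iterated cone kills maps out of objects on which the `fs` are nilpotent. -/
theorem hom_eq_zero_of_kosZero : ∀ (fs : List A) (C : Dual.D A), KosZero fs C → ∀ (L : Dual.D A),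
    (∀ f ∈ fs, ∃ n : ℕ, f ^ n • 𝟙 L = 0) → ∀ x : L ⟶ C, x = 0 := by
  intro fs
  induction fs with
  | nil => exact fun C hC L _ x => IsZero.eq_of_tgt hC x 0
  | cons f fs ih =>
    rintro C ⟨C', g, h, hT, hC'⟩ L hL x
    have hinj : ∀ y : L ⟶ C, f • y = 0 → y = 0 := by
      intro y hy
      obtain ⟨z, hz⟩ := (Triangle.mk (f • 𝟙 C) g h).invRotate.coyoneda_exact₂ (inv_rot_of_distTriang _ hT) y
        (show y ≫ (f • 𝟙 C) = 0 by rw [Linear.comp_smul, Category.comp_id, hy])
      have h0 : ∀ y' : L⟦(1 : ℤ)⟧ ⟶ C', y' = 0 := ih C' hC' _ (fun f' hf' => by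
        obtain ⟨n, hn⟩ := hL f' (List.mem_cons_of_mem _ hf')
        refine ⟨n, ?_⟩
        have := congrArg (shiftFunctor (Dual.D A) (1 : ℤ)).map hn
        rw [Functor.map_smul, CategoryTheory.Functor.map_id, Functor.map_zero] at this
        exact this)
      rw [hz, show z = 0 from eq_zero_of_shift_hom_eq_zero (add_neg_cancel 1) h0 z]
      exact zero_comp
    obtain ⟨n, hn⟩ := hL f List.mem_cons_self
    have hx : f ^ n • x = 0 := by
      rw [← Category.id_comp x, ← Linear.smul_comp, hn, zero_comp]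
    clear hn
    induction n with
    | zero => simpa using hx
    | succ n ihn => exact ihn (hinj _ (by rw [← mul_smul, ← pow_succ']; exact hx))

/-- A vanishing iterated cone over elements of `I` gives a local object. -/
theorem isLocal_of_kosZero (fs : List A) (hfs : ∀ f ∈ fs, f ∈ I) {C : Dual.D A} (h : KosZero fs C) :
    IsLocal I C := by
  refine isLocal_of_isZero_rgamma I (isZero_of_homology' fun q => ?_)
  obtain ⟨e⟩ := nonempty_HD_rgamma_equiv_HDI I C q
  have hz : IsZero (Dual2.HDI A I C q) := by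
    refine (IsZero.iff_id_eq_zero _).2 (colimit.hom_ext fun t => ?_)
    rw [Category.comp_id, comp_zero]
    refine ModuleCat.hom_ext (LinearMap.ext fun x => ?_)
    have h' : ∀ y : (DerivedCategory.singleFunctor (ModuleCat.{u} A) 0).obj (Groth.Agent.LC.qObj I t.unop.unop) ⟶
        C⟦q⟧, y = 0 := by
      intro y
      refine eq_zero_of_shift_hom_eq_zero (neg_add_cancel q) ?_ y
      exact hom_eq_zero_of_kosZero fs C h _ (fun f hf => by
        refine ⟨t.unop.unop, ?_⟩
        have hq : (f ^ t.unop.unop) • 𝟙 (Groth.Agent.LC.qObj I t.unop.unop) = 0 :=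
          ModuleCat.hom_ext (LinearMap.ext fun z => by
            obtain ⟨r, rfl⟩ := Ideal.Quotient.mk_surjective z
            exact Ideal.Quotient.eq_zero_iff_mem.2 (Ideal.mul_mem_right r _ (Ideal.pow_mem_pow (hfs f hf) _)))
        have := congrArg (DerivedCategory.singleFunctor (ModuleCat.{u} A) 0 ⋙ shiftFunctor (Dual.D A) (-q)).map hq
        simp only [Functor.comp_map, Functor.map_smul, CategoryTheory.Functor.map_id, Functor.map_zero] at this
        exact this)
    rw [h' x]
    exact map_zero _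
  have := ModuleCat.subsingleton_of_isZero hz
  exact @ModuleCat.isZero_of_subsingleton _ _ _ e.injective.subsingleton

theorem kosZero_of_isLocal_aux : ∀ (fs ds : List A) (C : Dual.D A), IsLocal I C →
    (∀ f ∈ ds, ∀ (i : ℤ) (x : Dual.HD A C i), ∃ n : ℕ, f ^ n • x = 0) →
    I ≤ Ideal.span {a | a ∈ ds ∨ a ∈ fs} → KosZero fs C := by
  intro fs
  induction fs with
  | nil =>
    intro ds C hC hds hspan
    have ht : IsTors I C := fun i x => by
      have hle : I ≤ Ideal.radical (LinearMap.ker (LinearMap.toSpanSingleton A _ x)) := by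
        refine hspan.trans (Ideal.span_le.2 fun a ha => ?_)
        rcases ha with ha | ha
        · obtain ⟨n, hn⟩ := hds a ha i x
          exact ⟨n, hn⟩
        · exact absurd ha List.not_mem_nil
      obtain ⟨n, hn⟩ := Ideal.exists_pow_le_of_le_radical_of_fg hle (IsNoetherian.noetherian I)
      exact ⟨n, fun a ha => hn ha⟩
    exact (IsZero.iff_id_eq_zero C).2 (hC C ht (𝟙 C))
  | cons f fs ih =>
    intro ds C hC hds hspan
    obtain ⟨C', g, h, hT⟩ := distinguished_cocone_triangle (f • 𝟙 C)
    refine ⟨C', g, h, hT, ih (f :: ds) C' ?_ ?_ (hspan.trans (Ideal.span_mono ?_))⟩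
    · intro L hL x
      have hx : x ≫ h = 0 := isLocal_shift I hC 1 L hL _
      obtain ⟨y, hy⟩ := Triangle.coyoneda_exact₃ _ hT x hx
      rw [hy, hC L hL y]
      exact zero_comp
    · intro f' hf' i z
      let H := DerivedCategory.homologyFunctor (ModuleCat.{u} A)
      let δ := DerivedCategory.HomologySequence.δ (Triangle.mk (f • 𝟙 C) g h) i (i + 1) rfl
      have h1 : f • δ.hom z = 0 := by
        refine (homologyMap_smul f C (i + 1) (δ.hom z)).symm.trans ?_
        exact ConcreteCategory.congr_hom (DerivedCategory.HomologySequence.δ_comp _ hT i (i + 1) rfl) z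
      have h2 : ∀ w : Dual.HD A C i, f • ((H i).map g).hom w = 0 := by
        intro w
        rw [← map_smul, ← homologyMap_smul f C i]
        have := comp_distTriang_mor_zero₁₂ _ hT
        refine (ModuleCat.comp_apply ((H i).map (f • 𝟙 C)) ((H i).map g) w).symm.trans ?_
        refine (congrArg (fun k : (H i).obj C ⟶ (H i).obj C' => k.hom w) ((H i).map_comp _ _).symm).trans ?_
        refine (congrArg (fun k => ((H i).map k).hom w) this).trans ?_
        exact (congrArg (fun k : (H i).obj C ⟶ (H i).obj C' => k.hom w) ((H i).map_zero C C')).trans rfl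
      have hex : ∀ z' : Dual.HD A C' i, δ.hom z' = 0 → ∃ w, ((H i).map g).hom w = z' :=
        (ShortComplex.moduleCat_exact_iff _).1
          (DerivedCategory.HomologySequence.exact₃ (Triangle.mk (f • 𝟙 C) g h) hT i (i + 1) rfl)
      rcases List.mem_cons.1 hf' with rfl | hf'
      · obtain ⟨w, hw⟩ := hex (f' • z) ((δ.hom.map_smul f' z).trans h1)
        exact ⟨2, by rw [pow_two, mul_smul, ← hw, h2]⟩
      · obtain ⟨n, hn⟩ := hds f' hf' (i + 1) (δ.hom z)
        obtain ⟨w, hw⟩ := hex (f' ^ n • z) ((δ.hom.map_smul (f' ^ n) z).trans hn)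
        obtain ⟨m, hm⟩ := hds f' hf' i w
        exact ⟨m + n, by rw [pow_add, mul_smul, ← hw, ← map_smul, hm, map_zero]⟩
    · intro a ha
      simp only [List.mem_cons, Set.mem_setOf_eq] at ha ⊢
      tauto

theorem kosZero_of_isLocal (fs : List A) (hfs : I = Ideal.span {a | a ∈ fs}) {C : Dual.D A} (h : IsLocal I C) :
    KosZero fs C :=
  kosZero_of_isLocal_aux I fs [] C h (fun f hf => absurd hf List.not_mem_nil)
    (hfs.le.trans (Ideal.span_mono fun _ ha => Or.inr ha))

end Noeth

end Groth.Agent.LocDual54
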