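import Groth.Prelude.Def_DualGr
import Mathlib.RingTheory.MvPowerSeries.Inverse
import Mathlib.Algebra.Order.Antidiag.Finsupp
import Mathlib.RingTheory.AdicCompletion.LocalRing
import Mathlib.RingTheory.Flat.FaithfullyFlat.Algebra
import Groth.Agent.FlatLoc6.Cpl

/-!
# The thickness ideal of a node is unique
-/

universe u

set_option linter.style.haveILetI false

open IsLocalRing

namespace Groth.Agent.LocDual54.NodeThick

section General

variable {K : Type u} [CommRing K]

/-- The model ring. -/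
abbrev Node (a : K) : Type u :=
  MvPowerSeries (Fin 2) K ⧸ Ideal.span {(MvPowerSeries.X 0 * MvPowerSeries.X 1 - MvPowerSeries.C a : MvPowerSeries (Fin 2) K)}

/-- A linear coefficient. -/
noncomputable abbrev lin (i : Fin 2) : MvPowerSeries (Fin 2) K →ₗ[K] K :=
  MvPowerSeries.coeff (Finsupp.single i 1)

theorem lin_mul (i : Fin 2) (F G : MvPowerSeries (Fin 2) K) :
    lin i (F * G) = lin i F * MvPowerSeries.constantCoeff G + MvPowerSeries.constantCoeff F * lin i G := by
  classical
  show MvPowerSeries.coeff (Finsupp.single i 1) (F * G) = _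
  rw [MvPowerSeries.coeff_mul, Finsupp.antidiagonal_single, Finset.sum_map]
  rw [show Finset.antidiagonal (1 : ℕ) = {(0, 1), (1, 0)} from rfl]
  simp [add_comm]

theorem lin_X (i j : Fin 2) : lin (K := K) i (MvPowerSeries.X j) = if i = j then 1 else 0 := by
  classical
  show MvPowerSeries.coeff (Finsupp.single i 1) (MvPowerSeries.X j) = _
  rw [MvPowerSeries.coeff_X]
  by_cases h : i = j
  · simp [h]
  · rw [if_neg h, if_neg]
    intro h'
    exact h (Finsupp.single_left_injective one_ne_zero h')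

theorem lin_C (i : Fin 2) (z : K) : lin i (MvPowerSeries.C z : MvPowerSeries (Fin 2) K) = 0 := by
  classical
  show MvPowerSeries.coeff (Finsupp.single i 1) (MvPowerSeries.C z : MvPowerSeries (Fin 2) K) = 0
  rw [MvPowerSeries.coeff_C, if_neg (by simp)]

/-- Every series is a constant plus multiples of the variables. -/
theorem exists_decomp (F : MvPowerSeries (Fin 2) K) : ∃ P Q : MvPowerSeries (Fin 2) K,
    F = MvPowerSeries.C (MvPowerSeries.constantCoeff F) + MvPowerSeries.X 0 * P + MvPowerSeries.X 1 * Q := by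
  classical
  let F₀ : MvPowerSeries (Fin 2) K := fun d => if d 0 = 0 then 0 else MvPowerSeries.coeff d F
  let G : MvPowerSeries (Fin 2) K := F - MvPowerSeries.C (MvPowerSeries.constantCoeff F) - F₀
  have hc : ∀ d, MvPowerSeries.coeff d F₀ = if d 0 = 0 then 0 else MvPowerSeries.coeff d F := fun d => rfl
  obtain ⟨P, hP⟩ : (MvPowerSeries.X 0 : MvPowerSeries (Fin 2) K) ∣ F₀ :=
    MvPowerSeries.X_dvd_iff.2 fun m hm => by rw [hc, if_pos hm]
  obtain ⟨Q, hQ⟩ : (MvPowerSeries.X 1 : MvPowerSeries (Fin 2) K) ∣ G :=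
    MvPowerSeries.X_dvd_iff.2 fun m hm => by
      simp only [G, map_sub, MvPowerSeries.coeff_C, hc]
      by_cases h0 : m 0 = 0
      · have : m = 0 := Finsupp.ext fun j => by fin_cases j <;> simp_all
        simp [this]
      · have : m ≠ 0 := fun h => h0 (by simp [h])
        simp [this, h0]
  exact ⟨P, Q, by rw [← hP, ← hQ]; simp only [G]; ring⟩

variable [IsLocalRing K]

theorem dvd_of_equiv {a b : K} (ha : a ∈ maximalIdeal K) (hb : b ∈ maximalIdeal K) (θ : Node b ≃+* Node a)
    (hθb : θ (Ideal.Quotient.mk _ (MvPowerSeries.C b)) = Ideal.Quotient.mk _ (MvPowerSeries.C b))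
    (hlin : ∀ z : K, ∃ z₀ : K, θ (Ideal.Quotient.mk _ (MvPowerSeries.C z)) - Ideal.Quotient.mk _ (MvPowerSeries.C z₀) ∈
      ((maximalIdeal K).map (MvPowerSeries.C : K →+* MvPowerSeries (Fin 2) K)).map (Ideal.Quotient.mk _)) :
    a ∣ b := by
  set rel : MvPowerSeries (Fin 2) K := MvPowerSeries.X 0 * MvPowerSeries.X 1 - MvPowerSeries.C a with hrel
  obtain ⟨U, hU⟩ := Ideal.Quotient.mk_surjective (θ (Ideal.Quotient.mk _ (MvPowerSeries.X 0)))
  obtain ⟨V, hV⟩ := Ideal.Quotient.mk_surjective (θ (Ideal.Quotient.mk _ (MvPowerSeries.X 1)))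
  have hX : ∀ (i : Fin 2) (W : MvPowerSeries (Fin 2) K),
      Ideal.Quotient.mk (Ideal.span {rel}) W = θ (Ideal.Quotient.mk _ (MvPowerSeries.X i)) →
        MvPowerSeries.constantCoeff W ∈ maximalIdeal K := fun i W hW => by
    by_contra h
    have h1 : IsUnit W := MvPowerSeries.isUnit_iff_constantCoeff.2 (not_not.1 h)
    have h2 : IsUnit (θ (Ideal.Quotient.mk _ (MvPowerSeries.X i))) := hW ▸ h1.map _
    rw [MulEquiv.isUnit_map] at h2
    obtain ⟨w, hw⟩ := h2.exists_right_inv
    obtain ⟨w, rfl⟩ := Ideal.Quotient.mk_surjective w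
    rw [← map_mul, ← sub_eq_zero, ← map_one (Ideal.Quotient.mk _), ← map_sub, Ideal.Quotient.eq_zero_iff_mem,
      Ideal.mem_span_singleton] at hw
    obtain ⟨q, hq⟩ := hw
    have h3 := congrArg MvPowerSeries.constantCoeff hq
    simp at h3
    exact (maximalIdeal.isMaximal K).ne_top ((Ideal.eq_top_iff_one _).2 (h3.symm ▸ Ideal.mul_mem_right _ _ hb))
  have hU0 := hX 0 U hU
  have hV0 := hX 1 V hV
  -- the relation `UV = b`
  obtain ⟨W, hW⟩ : rel ∣ U * V - MvPowerSeries.C b := by
    rw [← Ideal.mem_span_singleton, ← Ideal.Quotient.eq_zero_iff_mem, map_sub, map_mul, hU, hV, ← map_mul, ← map_mul, sub_eq_zero, ← hθb]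
    congr 1
    rw [Ideal.Quotient.eq]
    exact Ideal.subset_span rfl
  have hlinrel : ∀ (i : Fin 2) (Z : MvPowerSeries (Fin 2) K), lin i (rel * Z) = -(a * lin i Z) := fun i Z => by
    rw [lin_mul, hrel, map_sub, lin_mul, lin_C]
    simp
  -- the linear parts generate
  have hgen : ∀ j : Fin 2, ∃ p q : K, ∀ i : Fin 2,
      (if i = j then 1 else 0) - (p * lin i U + q * lin i V) ∈ maximalIdeal K := fun j => by
    obtain ⟨F, hF⟩ := Ideal.Quotient.mk_surjective (θ.symm (Ideal.Quotient.mk _ (MvPowerSeries.X j)))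
    obtain ⟨P, Q, hPQ⟩ := exists_decomp F
    obtain ⟨z₀, hz⟩ := hlin (MvPowerSeries.constantCoeff F)
    obtain ⟨P', hP'⟩ := Ideal.Quotient.mk_surjective (θ (Ideal.Quotient.mk _ P))
    obtain ⟨Q', hQ'⟩ := Ideal.Quotient.mk_surjective (θ (Ideal.Quotient.mk _ Q))
    obtain ⟨E, hE, hE'⟩ := (Ideal.mem_map_iff_of_surjective _ Ideal.Quotient.mk_surjective).1 hz
    have heq : Ideal.Quotient.mk (Ideal.span {rel}) (MvPowerSeries.X j) =
        Ideal.Quotient.mk _ (MvPowerSeries.C z₀ + E + U * P' + V * Q') := by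
      rw [map_add, map_add, map_add, map_mul, map_mul, hE', add_sub_cancel, hU, hV, hP', hQ', ← map_mul, ← map_mul,
        ← map_mul, ← map_mul, ← map_add, ← map_add, ← map_add, ← map_add, ← hPQ, hF, RingEquiv.apply_symm_apply]
    obtain ⟨Z, hZ⟩ := Ideal.mem_span_singleton.1 (Ideal.Quotient.eq.1 heq)
    refine ⟨MvPowerSeries.constantCoeff P', MvPowerSeries.constantCoeff Q', fun i => ?_⟩
    have hEi : lin i E ∈ maximalIdeal K := by
      clear hE' heq hZ
      induction hE using Submodule.span_induction with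
      | mem x hx => obtain ⟨t, -, rfl⟩ := hx; rw [lin_C]; exact zero_mem _
      | zero => rw [map_zero]; exact zero_mem _
      | add x y _ _ hx hy => rw [map_add]; exact add_mem hx hy
      | smul r x hx' hx =>
        rw [smul_eq_mul, lin_mul]
        refine add_mem (Ideal.mul_mem_left _ _ ?_) (Ideal.mul_mem_left _ _ hx)
        have : x ∈ Ideal.comap MvPowerSeries.constantCoeff (maximalIdeal K) := by
          refine (Ideal.map_le_iff_le_comap.2 fun t ht => ?_) hx'
          simpa using ht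
        exact this
    have h := congrArg (lin i) hZ
    rw [map_sub, lin_X, map_add, map_add, map_add, lin_C, lin_mul, lin_mul, hlinrel] at h
    have hmem : -(a * lin i Z) + lin i E + MvPowerSeries.constantCoeff U * lin i P' +
        MvPowerSeries.constantCoeff V * lin i Q' ∈ maximalIdeal K :=
      add_mem (add_mem (add_mem (neg_mem (Ideal.mul_mem_right _ _ ha)) hEi) (Ideal.mul_mem_right _ _ hU0))
        (Ideal.mul_mem_right _ _ hV0)
    convert hmem using 1
    linear_combination h
  obtain ⟨p₀, q₀, h₀⟩ := hgen 0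
  obtain ⟨p₁, q₁, h₁⟩ := hgen 1
  let Δ := lin 0 U * lin 1 V - lin 1 U * lin 0 V
  have hΔ : IsUnit Δ := by
    by_contra h
    have hm : Δ ∈ maximalIdeal K := h
    let π := residue K
    have e00 := (residue_eq_zero_iff _).2 (h₀ 0)
    have e10 := (residue_eq_zero_iff _).2 (h₀ 1)
    have e01 := (residue_eq_zero_iff _).2 (h₁ 0)
    have e11 := (residue_eq_zero_iff _).2 (h₁ 1)
    have eD := (residue_eq_zero_iff _).2 hm
    simp [Δ, sub_eq_zero] at e00 e10 e01 e11 eD
    refine one_ne_zero (α := ResidueField K) ?_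
    linear_combination (π p₁ * π (lin 1 U) + π q₁ * π (lin 1 V)) * e00 + e11 -
      (π p₁ * π (lin 0 U) + π q₁ * π (lin 0 V)) * e10 + (π p₀ * π q₁ - π q₀ * π p₁) * eD
  have hsys : ∀ i : Fin 2, lin i U * MvPowerSeries.constantCoeff V + MvPowerSeries.constantCoeff U * lin i V ∈
      Ideal.span {a} := fun i => by
    have h := congrArg (lin i) hW
    rw [map_sub, lin_mul, lin_C, sub_zero, hlinrel] at h
    rw [h]
    exact neg_mem (Ideal.mul_mem_right _ _ (Ideal.mem_span_singleton_self a))
  have hUa : MvPowerSeries.constantCoeff U ∈ Ideal.span {a} := by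
    rw [← Ideal.unit_mul_mem_iff_mem _ hΔ]
    have : Δ * MvPowerSeries.constantCoeff U =
        lin 0 U * (lin 1 U * MvPowerSeries.constantCoeff V + MvPowerSeries.constantCoeff U * lin 1 V) -
          lin 1 U * (lin 0 U * MvPowerSeries.constantCoeff V + MvPowerSeries.constantCoeff U * lin 0 V) := by
      simp only [Δ]; ring
    rw [this]
    exact sub_mem (Ideal.mul_mem_left _ _ (hsys 1)) (Ideal.mul_mem_left _ _ (hsys 0))
  have h := congrArg MvPowerSeries.constantCoeff hW
  simp [hrel] at h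
  rw [← Ideal.mem_span_singleton, show b = MvPowerSeries.constantCoeff U * MvPowerSeries.constantCoeff V + a * MvPowerSeries.constantCoeff W by linear_combination -h]
  exact add_mem (Ideal.mul_mem_right _ _ hUa) (Ideal.mul_mem_right _ _ (Ideal.mem_span_singleton_self a))

end General

variable {R A : Type u} [CommRing R] [IsLocalRing R] [IsNoetherianRing R] [CommRing A] [IsLocalRing A]

theorem span_le {φ : R →+* A} {a b : R} (ha : a ∈ maximalIdeal R) (hb : b ∈ maximalIdeal R)
    (h₁ : DualGr.IsThickNode φ a) (h₂ : DualGr.IsThickNode φ b) : Ideal.span {b} ≤ Ideal.span {a} := by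
  obtain ⟨e₁, he₁⟩ := h₁
  obtain ⟨e₂, he₂⟩ := h₂
  haveI : Module.FaithfullyFlat R (Curv2.cpl R) := FlatLoc6.faithfullyFlat_cpl R
  haveI : IsLocalRing (Curv2.cpl R) := FlatLoc6.isLocalRing_cpl R
  set K := Curv2.cpl R
  let ι := algebraMap R K
  have hmax : maximalIdeal K = (maximalIdeal R).map ι := AdicCompletion.maximalIdeal_eq_map
  let θ : Node (ι b) ≃+* Node (ι a) := e₂.symm.trans e₁
  have hθ : ∀ r : R, θ (Ideal.Quotient.mk _ (MvPowerSeries.C (ι r))) = Ideal.Quotient.mk _ (MvPowerSeries.C (ι r)) :=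
    fun r => by
      show e₁ (e₂.symm _) = _
      rw [← he₂ r, RingEquiv.symm_apply_apply]
      exact he₁ r
  have hdvd : ι a ∣ ι b := by
    refine dvd_of_equiv (hmax ▸ Ideal.mem_map_of_mem _ ha) (hmax ▸ Ideal.mem_map_of_mem _ hb) θ (hθ b) fun z => ?_
    let M : Ideal (Node (ι a)) :=
      ((maximalIdeal K).map (MvPowerSeries.C : K →+* MvPowerSeries (Fin 2) K)).map (Ideal.Quotient.mk _)
    have hle : maximalIdeal K ≤ M.comap (θ.toRingHom.comp ((Ideal.Quotient.mk _).comp MvPowerSeries.C)) := by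
      rw [hmax, Ideal.map_le_iff_le_comap]
      intro r hr
      show θ (Ideal.Quotient.mk _ (MvPowerSeries.C (ι r))) ∈ M
      rw [hθ]
      exact Ideal.mem_map_of_mem _ (Ideal.mem_map_of_mem _ (hmax ▸ Ideal.mem_map_of_mem _ hr))
    obtain ⟨s, hs⟩ := AdicCompletion.eval_surjective (maximalIdeal R) R 1 (AdicCompletion.eval _ R 1 z) |> fun _ =>
      Submodule.Quotient.mk_surjective _ (z.1 1)
    refine ⟨ι s, ?_⟩
    have hzs : z - ι s ∈ maximalIdeal K := by
      rw [AdicCompletion.mem_maximalIdeal_iff_eval_one_eq_zero]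
      show z.1 1 - (ι s).1 1 = 0
      rw [← hs, sub_eq_zero]
      rfl
    have := hle hzs
    rw [Ideal.mem_comap, map_sub] at this
    simp only [RingHom.comp_apply, RingEquiv.toRingHom_eq_coe, RingEquiv.coe_toRingHom] at this
    rwa [hθ] at this
  rw [← Ideal.comap_map_eq_self_of_faithfullyFlat (B := K) (Ideal.span {a}), Ideal.span_le, Set.singleton_subset_iff]
  show ι b ∈ (Ideal.span {a}).map ι
  rw [Ideal.map_span, Set.image_singleton, Ideal.mem_span_singleton]
  exact hdvd

end Groth.Agent.LocDual54.NodeThick
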