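import Groth.Agent.LC.AnnLocal
import Groth.Agent.LC.DepthLoc
import Groth.Agent.LC.CohCech
import Mathlib.RingTheory.Ideal.KrullsHeightTheorem

/-!
# Annihilating local cohomology prime by prime

If a fixed power of `f` kills `H^l_q(N_q)` for all primes `q ⊇ J`, then a power of `f`, bounded by the length of
the chains of such primes, kills `H^l_J(N)`.
-/

universe u

open CategoryTheory Limits IsLocalRing

namespace Groth.Agent.LocDual54

open Groth.Agent.LC

variable {A : Type u} [CommRing A]

/-- `f` kills `H^l` of the localization at `q`, with support in the closed point. -/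
def KillAt (f : A) (l : ℕ) (N : Type u) [AddCommGroup N] [Module A N] (q : Ideal A) [q.IsPrime] : Prop :=
  ∀ z : LocCoh.H (maximalIdeal (Localization.AtPrime q)) l (LocalizedModule q.primeCompl N),
    algebraMap A (Localization.AtPrime q) f • z = 0

theorem KillAt.pow_le {f : A} {l : ℕ} {N : Type u} [AddCommGroup N] [Module A N] {q : Ideal A} [q.IsPrime]
    {m k : ℕ} (h : KillAt (f ^ m) l N q) (hmk : m ≤ k) : KillAt (f ^ k) l N q := fun z => by
  rw [← Nat.sub_add_cancel hmk, pow_add, map_mul, mul_smul, h z, smul_zero]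

theorem killAt_congr {f : A} {l : ℕ} {N N' : Type u} [AddCommGroup N] [Module A N] [AddCommGroup N'] [Module A N']
    {q : Ideal A} [q.IsPrime]
    (e : LocalizedModule q.primeCompl N ≃ₗ[Localization.AtPrime q] LocalizedModule q.primeCompl N')
    (h : KillAt f l N q) : KillAt f l N' q := fun z => by
  let E := ((localCohomology (maximalIdeal (Localization.AtPrime q)) l).mapIso e.toModuleIso).toLinearEquiv
  obtain ⟨w, rfl⟩ := E.surjective z
  rw [← map_smul, h w, map_zero]

/-- Localizing a localization. -/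
theorem isLocalizedModule_comp_of_le {S S' : Submonoid A} (hS : S ≤ S') {M N P : Type u} [AddCommGroup M]
    [Module A M] [AddCommGroup N] [Module A N] [AddCommGroup P] [Module A P] (f : M →ₗ[A] N) (g : N →ₗ[A] P)
    [IsLocalizedModule S f] [IsLocalizedModule S' g] : IsLocalizedModule S' (g ∘ₗ f) where
  map_units s := IsLocalizedModule.map_units g s
  surj y := by
    obtain ⟨⟨n, t⟩, ht⟩ := IsLocalizedModule.surj S' g y
    obtain ⟨⟨m, r⟩, hr⟩ := IsLocalizedModule.surj S f n
    refine ⟨(m, ⟨r.1 * t.1, S'.mul_mem (hS r.2) t.2⟩), ?_⟩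
    show (r.1 * t.1) • y = g (f m)
    rw [mul_smul, ← hr]
    show r.1 • t.1 • y = g (r.1 • n)
    rw [map_smul, ← ht]
    rfl
  exists_of_eq {x₁ x₂} h := by
    obtain ⟨⟨t, ht'⟩, ht⟩ := IsLocalizedModule.exists_of_eq (S := S') (f := g) h
    have h2 : f (t • x₁) = f (t • x₂) := by rw [map_smul, map_smul]; exact ht
    obtain ⟨r, hr⟩ := IsLocalizedModule.exists_of_eq (S := S) (f := f) h2
    refine ⟨⟨r.1 * t, S'.mul_mem (hS r.2) ht'⟩, ?_⟩
    show (r.1 * t) • x₁ = (r.1 * t) • x₂
    rw [mul_smul, mul_smul]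
    exact hr

/-- A further localization does not change the module at `q`. -/
theorem killAt_of_localized {f : A} {l : ℕ} {S : Submonoid A} {M N : Type u} [AddCommGroup M] [Module A M]
    [AddCommGroup N] [Module A N] (φ : M →ₗ[A] N) [IsLocalizedModule S φ] (q : Ideal A) [q.IsPrime]
    (hS : S ≤ q.primeCompl) : KillAt f l N q ↔ KillAt f l M q := by
  have := isLocalizedModule_comp_of_le (S := S) hS φ (LocalizedModule.mkLinearMap q.primeCompl N)
  let e := (IsLocalizedModule.iso q.primeCompl (LocalizedModule.mkLinearMap q.primeCompl N ∘ₗ φ)).extendScalarsOfIsLocalization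
    q.primeCompl (Localization.AtPrime q)
  exact ⟨killAt_congr e.symm, killAt_congr e⟩

variable [IsNoetherianRing A]

omit [IsNoetherianRing A] in
/-- An invertible element of `q` kills everything at `q`. -/
theorem killAt_of_bijective (f : A) (l : ℕ) {N : Type u} [AddCommGroup N] [Module A N] (q : Ideal A) [q.IsPrime]
    {t : A} (ht : t ∈ q) (hb : Function.Bijective fun y : N => t • y) : KillAt f l N q := by
  intro z
  let B := Localization.AtPrime q
  let L := ModuleCat.of B (LocalizedModule q.primeCompl N)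
  have hb' : Function.Bijective fun y : L => algebraMap A B t • y := by
    let φ : N →ₗ[A] N := t • LinearMap.id
    have : Function.Bijective (LocalizedModule.map q.primeCompl φ) :=
      ⟨LocalizedModule.map_injective _ _ hb.1, LocalizedModule.map_surjective _ _ hb.2⟩
    refine (congrArg Function.Bijective (funext fun y => ?_)).mp this
    induction y using LocalizedModule.induction_on with
    | h m s =>
      rw [LocalizedModule.map_mk, algebraMap_smul, LocalizedModule.smul'_mk]
      rfl
  have htm : algebraMap A B t ∈ maximalIdeal B := by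
    rw [← Localization.AtPrime.map_eq_maximalIdeal]
    exact Ideal.mem_map_of_mem _ ht
  have key : ∀ y : (localCohomology (maximalIdeal B) l).obj L, y = 0 := by
    intro y
    obtain ⟨n, hn⟩ := isPowerTorsion_obj (maximalIdeal B) l L y
    have h0 : (algebraMap A B t) ^ n • y = 0 := hn _ (Ideal.pow_mem_pow htm n)
    clear hn
    induction n with
    | zero => simpa using h0
    | succ n ih =>
      refine ih ((smul_bijective_obj (maximalIdeal B) l L _ hb').1 ?_)
      show algebraMap A B t • (algebraMap A B t) ^ n • y = algebraMap A B t • 0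
      rw [smul_zero, ← mul_smul, ← pow_succ']
      exact h0
  rw [key z, smul_zero]

/-- Killing at a minimal prime of `J`, seen on `H^l_J`. -/
theorem exists_smul_eq_zero_of_killAt {f : A} {l : ℕ} {J : Ideal A} {N : ModuleCat.{u} A} {q : Ideal A}
    (hq : q ∈ J.minimalPrimes) (h : haveI := hq.1.1; KillAt f l N q) (z : (localCohomology J l).obj N) :
    ∃ t ∉ q, t • f • z = 0 := by
  have := hq.1.1
  let B := Localization.AtPrime q
  obtain ⟨e⟩ := exists_localizedH J N q l
  let r := (localCohomology.isoOfSameRadical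
    (J := J.map (algebraMap A B)) (K := maximalIdeal B) (by
      rw [IsLocalization.AtPrime.radical_map_of_mem_minimalPrimes (A := B) q J hq, Localization.AtPrime.map_eq_maximalIdeal, (maximalIdeal.isMaximal B).isPrime.radical]) l).app
      (ModuleCat.of B (LocalizedModule q.primeCompl N))
  have h0 : LocalizedModule.mkLinearMap q.primeCompl _ (f • z) = 0 := by
    rw [map_smul, ← algebraMap_smul B f]
    refine e.injective (r.toLinearEquiv.injective ?_)
    rw [map_smul, map_smul, h _, map_zero, map_zero]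
  obtain ⟨⟨t, ht⟩, hts⟩ := (IsLocalizedModule.eq_zero_iff q.primeCompl _).1 h0
  exact ⟨t, ht, hts⟩

/-- Killed elements at all minimal primes come from a bigger ideal. -/
theorem exists_mem_range_supH {J : Ideal A} {l : ℕ} {N : ModuleCat.{u} A} (z : (localCohomology J l).obj N)
    (h : ∀ q ∈ J.minimalPrimes, ∃ t ∉ q, t • z = 0) :
    ∃ x : A, (∀ q ∈ J.minimalPrimes, x ∉ q) ∧ z ∈ LinearMap.range (supH x J l N) := by
  classical
  let K := LinearMap.ker (LinearMap.toSpanSingleton A _ z)
  have hfin := Ideal.finite_minimalPrimes_of_isNoetherianRing A J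
  have hsub : ¬ (K : Set A) ⊆ ⋃ q ∈ (hfin.toFinset : Set (Ideal A)), (q : Set A) := by
    rw [Ideal.subset_union_prime ⊥ ⊥ fun q hq _ _ => (hfin.mem_toFinset.1 hq).1.1]
    rintro ⟨q, hq, hK⟩
    obtain ⟨t, ht, htz⟩ := h q (hfin.mem_toFinset.1 hq)
    exact ht (hK htz)
  obtain ⟨x, hxK, hx⟩ := Set.not_subset.1 hsub
  refine ⟨x, fun q hq hxq => hx (Set.mem_biUnion (hfin.mem_toFinset.2 hq) hxq),
    (mem_range_supH_iff x J l N z).2 ⟨1, ?_⟩⟩
  rw [pow_one]
  exact hxK

/-- Vanishing at every prime of `V(J)`. -/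
theorem subsingleton_H_of_forall (l : ℕ) (N : ModuleCat.{u} A) : ∀ J : Ideal A,
    (∀ (q : Ideal A) [q.IsPrime], J ≤ q → KillAt (1 : A) l N q) → Subsingleton ((localCohomology J l).obj N) := by
  intro J
  induction J using WellFoundedGT.induction with
  | _ J ih =>
  intro h
  refine subsingleton_of_forall_eq 0 fun z => ?_
  rcases eq_or_ne J ⊤ with rfl | hJ
  · obtain ⟨n, hn⟩ := isPowerTorsion_obj (⊤ : Ideal A) l N z
    simpa using hn 1 (by simp [Ideal.top_pow])
  obtain ⟨x, hx, w, rfl⟩ := exists_mem_range_supH z fun q hq => by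
    have := hq.1.1
    obtain ⟨t, ht, htz⟩ := exists_smul_eq_zero_of_killAt hq (h q hq.1.2) z
    exact ⟨t, ht, by rwa [one_smul] at htz⟩
  have hlt : J < J ⊔ Ideal.span {x} := lt_of_le_of_ne le_sup_left fun e => by
    obtain ⟨q, hq, hle⟩ := Ideal.exists_le_maximal J hJ
    obtain ⟨P, hP, -⟩ := Ideal.exists_minimalPrimes_le (J := q) (I := J) hle
    exact hx P hP (hP.1.2 (e ▸ Ideal.mem_sup_right (Ideal.mem_span_singleton_self x)))
  have := ih _ hlt fun q _ hq => h q (le_sup_left.trans hq)
  rw [Subsingleton.elim w 0, map_zero]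

/-- Uniform annihilation along `V(J)`. -/
theorem pow_kill_of_killAt (f : A) (l N₀ : ℕ) (N : ModuleCat.{u} A) (μ : PrimeSpectrum A → ℕ)
    (hμ : ∀ p q : PrimeSpectrum A, p < q → μ q < μ p ∨ μ q = 0) : ∀ (d : ℕ) (J : Ideal A),
    (∀ q : PrimeSpectrum A, J ≤ q.asIdeal → μ q ≤ d ∧ KillAt (f ^ N₀) l N q.asIdeal ∧
      (μ q = 0 → KillAt (1 : A) l N q.asIdeal)) →
    ∀ z : (localCohomology J l).obj N, f ^ (N₀ * d) • z = 0 := by
  intro d
  induction d with
  | zero =>
    intro J h z
    have := subsingleton_H_of_forall l N J fun q hq' hq => (h ⟨q, hq'⟩ hq).2.2 (Nat.le_zero.1 (h ⟨q, hq'⟩ hq).1)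
    exact Subsingleton.elim _ _
  | succ d ih =>
    intro J h z
    obtain ⟨x, hx, w, hw⟩ := exists_mem_range_supH (f ^ N₀ • z) fun q hq => by
      have := hq.1.1
      exact exists_smul_eq_zero_of_killAt hq (h ⟨q, hq.1.1⟩ hq.1.2).2.1 z
    have key := ih (J ⊔ Ideal.span {x}) (fun q hq => by
      obtain ⟨P, hP, hPq⟩ := Ideal.exists_minimalPrimes_le (J := q.asIdeal) (I := J) (le_sup_left.trans hq)
      have hlt : (⟨P, hP.1.1⟩ : PrimeSpectrum A) < q := lt_of_le_of_ne hPq fun e =>
        hx P hP (show x ∈ P by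
          rw [show P = q.asIdeal from congrArg PrimeSpectrum.asIdeal e]
          exact hq (Ideal.mem_sup_right (Ideal.mem_span_singleton_self x)))
      obtain ⟨h1, h2, h3⟩ := h q (le_sup_left.trans hq)
      refine ⟨?_, h2, h3⟩
      have h4 := (h ⟨P, hP.1.1⟩ hP.1.2).1
      have h5 := hμ _ _ hlt
      omega) w
    rw [Nat.mul_succ, pow_add, mul_smul, ← hw, ← map_smul, key, map_zero]

omit [IsNoetherianRing A] in
/-- `H_{I''} → H_{I'} → H_I`. -/
theorem HmapOfLE_comp {I I' I'' : Ideal A} (h : I ≤ I') (h' : I' ≤ I'') (l : ℕ) (N : ModuleCat.{u} A)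
    (z : (localCohomology I'' l).obj N) :
    ((Dual2.HmapOfLE h l).app N).hom (((Dual2.HmapOfLE h' l).app N).hom z) =
      ((Dual2.HmapOfLE (h.trans h') l).app N).hom z := by
  obtain ⟨n, x, rfl⟩ := exists_toH I'' l z
  rw [HmapOfLE_toH, HmapOfLE_toH, HmapOfLE_toH]
  refine congrArg (toH I l N n) ?_
  rw [← Abelian.Ext.comp_assoc _ _ _ (zero_add 0) (zero_add l) (by simp), Abelian.Ext.mk₀_comp_mk₀]
  congr 2
  exact ModuleCat.hom_ext (Submodule.linearMap_qext _ rfl)

end Groth.Agent.LocDual54
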