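import Groth.Agent.LocDual54.KoszulTest
import Mathlib.Algebra.Homology.HomotopyCategory.HomComplexCohomology
import Mathlib.Algebra.Homology.DerivedCategory.KProjective

/-!
# Cocycles as morphisms in `D(A)`
-/

universe u

open CategoryTheory CochainComplex.HomComplex

namespace Groth.Agent.LocDual54

attribute [local instance] HasDerivedCategory.standard

variable {A : Type u} [CommRing A] {P E E' : CochainComplex (ModuleCat.{u} A) ℤ} {q : ℤ}

theorem isKProjective_of_bddFree (hP : BddFree P) : P.IsKProjective := by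
  obtain ⟨N, hN⟩ := hP.bdd
  have : P.IsStrictlyLE (N : ℤ) := (CochainComplex.isStrictlyLE_iff _ _).2 fun i hi => hN i (Or.inr hi)
  have : ∀ n, Projective (P.X n) := fun n =>
    haveI := hP.free n
    ModuleCat.projective_of_free (Module.Free.chooseBasis A (P.X n))
  exact CochainComplex.isKProjective_of_projective P N

/-- The morphism `P ⟶ E⟦q⟧` of `D(A)` given by a cocycle. -/
noncomputable def toDq (x : Cocycle P E q) :
    DerivedCategory.Q.obj P ⟶ (DerivedCategory.Q.obj E)⟦q⟧ :=
  DerivedCategory.Q.map (Cocycle.equivHomShift.symm x) ≫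
    ((DerivedCategory.Q (C := ModuleCat.{u} A)).commShiftIso q).hom.app E

theorem toDq_postcomp (x : Cocycle P E q) (U : E ⟶ E') :
    toDq (x.postcomp U) = toDq x ≫ (DerivedCategory.Q.map U)⟦q⟧' := by
  rw [toDq, toDq, Cocycle.equivHomShift_symm_postcomp, Functor.map_comp, Category.assoc, Category.assoc]
  congr 1
  exact (((DerivedCategory.Q (C := ModuleCat.{u} A)).commShiftIso q).hom.naturality U)

variable [P.IsKProjective]

theorem Q_map_bijective_of_proj :
    Function.Surjective (DerivedCategory.Q.map : (P ⟶ E) → (DerivedCategory.Q.obj P ⟶ DerivedCategory.Q.obj E)) ∧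
      ∀ g : P ⟶ E, DerivedCategory.Q.map g = 0 → (HomotopyCategory.quotient _ _).map g = 0 := by
  let α := DerivedCategory.quotientCompQhIso (ModuleCat.{u} A)
  constructor
  · intro x
    obtain ⟨v, hv⟩ := (CochainComplex.IsKProjective.Qh_map_bijective P
      ((HomotopyCategory.quotient (ModuleCat.{u} A) (ComplexShape.up ℤ)).obj E)).2
      (α.hom.app P ≫ x ≫ α.inv.app E)
    obtain ⟨g, rfl⟩ := (HomotopyCategory.quotient (ModuleCat.{u} A) (ComplexShape.up ℤ)).map_surjective v
    refine ⟨g, ?_⟩
    rw [← cancel_epi (α.hom.app P)]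
    refine (DerivedCategory.quotientCompQhIso_hom_naturality (C := ModuleCat.{u} A) g).symm.trans ?_
    rw [hv]
    simp only [Category.assoc, Iso.inv_hom_id_app]
    exact congrArg (α.hom.app P ≫ ·) (Category.comp_id x)
  · intro g hg
    refine (CochainComplex.IsKProjective.Qh_map_bijective P _).1 ?_
    rw [Functor.map_zero, ← cancel_mono (α.hom.app E), Limits.zero_comp]
    refine (DerivedCategory.quotientCompQhIso_hom_naturality (C := ModuleCat.{u} A) g).trans ?_
    rw [hg, Limits.comp_zero]

theorem toDq_surjective : Function.Surjective (toDq : Cocycle P E q → _) := fun x => by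
  obtain ⟨g, hg⟩ := (Q_map_bijective_of_proj (P := P) (E := E⟦q⟧)).1
    (x ≫ ((DerivedCategory.Q (C := ModuleCat.{u} A)).commShiftIso q).inv.app E)
  refine ⟨Cocycle.equivHomShift g, ?_⟩
  rw [toDq, AddEquiv.symm_apply_apply, hg, Category.assoc, Iso.inv_hom_id_app]
  exact Category.comp_id x

theorem toDq_eq_zero_iff (x : Cocycle P E q) :
    toDq x = 0 ↔ x ∈ coboundaries P E q := by
  rw [← CohomologyClass.toHom_mk_eq_zero_iff, CohomologyClass.toHom_mk, toDq]
  constructor
  · intro h
    refine (Q_map_bijective_of_proj).2 _ ?_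
    rwa [← Preadditive.IsIso.comp_right_eq_zero _ (((DerivedCategory.Q (C := ModuleCat.{u} A)).commShiftIso q).hom.app E)]
  · intro h
    rw [HomotopyCategory.quotient_map_eq_zero_iff] at h
    rw [DerivedCategory.Q_map_eq_of_homotopy (C := ModuleCat.{u} A) h.some, Functor.map_zero, Limits.zero_comp]

end Groth.Agent.LocDual54
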