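import Groth.Agent.LocDual54.PunctLin
import Groth.Agent.LocDual54.Punctured
import Groth.Agent.QCoh.ExtendFT
import Groth.Agent.Algz7.Tilde
import Groth.Agent.LC.TopDim

/-!
# Cohomology of coherent sheaves on the punctured spectrum is Artinian
-/

universe u

set_option linter.style.haveILetI false

open CategoryTheory CategoryTheory.Limits AlgebraicGeometry TopologicalSpace Opposite

noncomputable section

namespace Groth.Agent.LocDual54.PunctLin

variable {A : Type u} [CommRing A] (I : Ideal A)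

/-- An isomorphism of modules induces one on cohomology, linearly. -/
def congrLin {M N : (Us I).Modules} (e : M ≅ N) (p : ℕ) : Coh.HH (Us I) M p ≃ₗ[A] Coh.HH (Us I) N p :=
  have h : ∀ {P Q : (Us I).Modules} (e : P ≅ Q) (y : Coh.HH (Us I) Q p),
      CohPull.mapH e.hom p (CohPull.mapH e.inv p y) = y := fun e y => by
    show Sheaf.H.map _ p (Sheaf.H.map _ p y) = y
    rw [← Sheaf.H.map_comp_apply]
    refine Eq.trans (congrArg (fun f => Sheaf.H.map f p y) (((SheafOfModules.toSheaf _).map_comp e.inv e.hom).symm.trans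
      ((congrArg _ e.inv_hom_id).trans ((SheafOfModules.toSheaf _).map_id _)))) (Sheaf.H.map_id_apply y)
  LinearEquiv.ofBijective
    { toFun := CohPull.mapH e.hom p
      map_add' := map_add _
      map_smul' := fun _ x => CExt24.map_smul_mapH e.hom _ p x : Coh.HH (Us I) M p →ₗ[A] Coh.HH (Us I) N p }
    (Function.bijective_iff_has_inverse.mpr ⟨CohPull.mapH e.inv p, fun x => h e.symm x, h e⟩)

variable [IsNoetherianRing A]

theorem exists_finite_extension (F : (Us I).Modules) (hF : Coh.IsCoh F) :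
    ∃ M : ModuleCat.{u} A, Module.Finite A M ∧ Nonempty ((shU I).obj M ≅ F) := by
  let U : (Spec (CommRingCat.of A)).Opens := LocCoh.puncturedOpen A I
  have hc : IsCompact (U : Set (Spec (CommRingCat.of A))) :=
    LocDual54.isCompact_puncturedOpen (IsNoetherian.noetherian I)
  haveI : QuasiCompact U.ι := inferInstance
  obtain ⟨G, hq, hft, ⟨e⟩⟩ := QCoh.exists_extension_abs (QCoh.extStep_qcqs hc) F hF.1 hF.2
  haveI : G.IsQuasicoherent := hq
  refine ⟨(moduleSpecΓFunctor (R := CommRingCat.of A)).obj G, Algz7.finite_Γ_of_isCoh ⟨hq, hft⟩, ⟨?_⟩⟩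
  have hiso : IsIso (Scheme.Modules.fromTildeΓ (R := CommRingCat.of A) G) :=
    @Scheme.Modules.isIso_fromTildeΓ_of_isQuasicoherent (CommRingCat.of A) G hq
  exact (Scheme.Modules.restrictFunctor U.ι).mapIso (@asIso _ _ _ _ (Scheme.Modules.fromTildeΓ (R := CommRingCat.of A) G) hiso) ≪≫ e

theorem isArtinian_HH [IsLocalRing A] (F : (Us (IsLocalRing.maximalIdeal A)).Modules) (hF : Coh.IsCoh F)
    (i : ℕ) (hi : 0 < i) : IsArtinian A (Coh.HH (Us (IsLocalRing.maximalIdeal A)) F i) := by
  obtain ⟨M, hM, ⟨e⟩⟩ := exists_finite_extension _ F hF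
  obtain ⟨p, rfl⟩ : ∃ p, i = p + 1 := ⟨i - 1, by omega⟩
  obtain ⟨e'⟩ := nonempty_equiv (IsLocalRing.maximalIdeal A) p M
  haveI : IsArtinian A ((localCohomology (IsLocalRing.maximalIdeal A) (p + 2)).obj M) := LC.isArtinian_H (p + 2) M
  exact isArtinian_of_linearEquiv ((congrLin _ e (p + 1)).symm ≪≫ₗ e').symm

end Groth.Agent.LocDual54.PunctLin
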