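import Groth.Agent.Koszul70.Results
import Groth.Agent.LocDual54.StableGamma
import Groth.Agent.LC.CohAcyclic
import Groth.Prelude.Def_Wider
import Mathlib.AlgebraicGeometry.Modules.Tilde

/-!
# Cohomology of the punctured open as local cohomology
-/

universe u

open CategoryTheory AlgebraicGeometry TopologicalSpace Opposite

noncomputable section

namespace Groth.Agent.LocDual54

variable {R : Type u} [CommRing R] [IsNoetherianRing R]

theorem nonempty_HH_punctured_span (gs : List R) (M : ModuleCat.{u} R) (p : ℕ) (hp : 1 ≤ p) :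
    Nonempty (Coh.HHon (Spec (CommRingCat.of R)) (tilde (R := CommRingCat.of R) M)
      (LocCoh.puncturedOpen R (Ideal.span {x | x ∈ gs})) p ≃+
      (localCohomology (Ideal.span {x | x ∈ gs}) (p + 1)).obj M) := by
  let S : CommRingCat.{u} := CommRingCat.of R
  let X : Scheme.{u} := Spec S
  let e : R ≃+* Γ(X, ⊤) := (Scheme.ΓSpecIso S).symm.commRingCatIsoToRingEquiv
  let F : X.Modules := tilde (R := S) M
  let fs : List Γ(X, ⊤) := gs.map e
  haveI : Coh.IsQCoh F := inferInstanceAs ((tilde (R := S) M).IsQuasicoherent)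
  haveI : IsNoetherianRing Γ(X, ⊤) := isNoetherianRing_of_ringEquiv R e
  letI : Algebra R Γ(X, ⊤) := e.toRingHom.toAlgebra
  have haff : ∀ i : Fin fs.length, IsAffineOpen (X.basicOpen (fs.get i)) := fun i =>
    (isAffineOpen_top X).basicOpen _
  have hU : (LocCoh.puncturedOpen R (Ideal.span {x | x ∈ gs}) : X.Opens) =
      ⨆ i : Fin fs.length, X.basicOpen (fs.get i) := by
    have hb : ∀ g : R, ∀ x : X, x ∈ X.basicOpen (e g) ↔ g ∉ (show PrimeSpectrum R from x).asIdeal := fun g x => by
      show x ∈ X.basicOpen ((Scheme.ΓSpecIso S).inv.hom g) ↔ _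
      rw [basicOpen_eq_of_affine]
      rfl
    ext x
    simp only [SetLike.mem_coe, Opens.mem_iSup]
    constructor
    · intro hx
      obtain ⟨g, hg, hgx⟩ : ∃ g ∈ gs, g ∉ (show PrimeSpectrum R from x).asIdeal := by
        by_contra h
        push Not at h
        exact hx (show Ideal.span {x | x ∈ gs} ≤ (show PrimeSpectrum R from x).asIdeal from Ideal.span_le.2 h)
      obtain ⟨i, hi⟩ := List.get_of_mem (List.mem_map_of_mem (f := e) hg : e g ∈ fs)
      exact ⟨i, hi ▸ (hb g x).2 hgx⟩
    · rintro ⟨i, hi⟩ hx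
      obtain ⟨g, hg, hgi⟩ := List.mem_map.1 (List.get_mem fs i : fs.get i ∈ gs.map e)
      rw [← hgi, hb] at hi
      exact hi (hx (Ideal.subset_span hg))
  let N : ModuleCat.{u} Γ(X, ⊤) := ModuleCat.of Γ(X, ⊤) (F.val.obj (op ⊤))
  letI : Module R N := Module.compHom N e.toRingHom
  haveI : IsScalarTower R Γ(X, ⊤) N := IsScalarTower.of_algebraMap_smul fun _ _ => rfl
  obtain ⟨e₁⟩ := Koszul70.HHon_equiv_hlim F fs haff hp
  obtain ⟨e₂⟩ := Koszul70.koszulHLim_equiv N fs (p + 1)
  obtain ⟨e₃⟩ := Stable.nonempty_homology_equiv fs (p + 1) N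
  obtain ⟨e₄, -⟩ := LC.exists_indep (R := R) (R' := Γ(X, ⊤)) (Ideal.span {x | x ∈ gs}) (p + 1) N
  have hI : Stable.idl fs = (Ideal.span {x | x ∈ gs}).map (algebraMap R Γ(X, ⊤)) := by
    rw [Ideal.map_span]
    show Ideal.span {a | a ∈ fs} = _
    congr 1
    ext a
    show a ∈ gs.map e ↔ a ∈ e '' {x | x ∈ gs}
    simp only [List.mem_map, Set.mem_image]
    rfl
  let iso : ModuleCat.of R N ≅ M := (({
      toFun := fun x => (tilde.toOpen (R := S) M ⊤).hom x
      map_add' := map_add _
      map_smul' := fun r x => by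
        refine ((tilde.toOpen (R := S) M ⊤).hom.map_smul r x).trans ?_
        show ((X.presheaf.map (homOfLE (le_top : (⊤ : X.Opens) ≤ ⊤)).op).hom (e r)) •
          (show Γ(F, ⊤) from (tilde.toOpen (R := S) M ⊤).hom x) = _
        rw [show (homOfLE (le_top : (⊤ : X.Opens) ≤ ⊤)).op = 𝟙 _ from rfl, CategoryTheory.Functor.map_id]
        rfl
      invFun := fun y => (tilde.isoTop (R := S) M).inv.hom y
      left_inv := fun x => ConcreteCategory.congr_hom (tilde.isoTop (R := S) M).hom_inv_id x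
      right_inv := fun y => ConcreteCategory.congr_hom (tilde.isoTop (R := S) M).inv_hom_id y } :
    M ≃ₗ[R] N).toModuleIso).symm
  rw [hU]
  rw [hI] at e₃
  exact ⟨e₁.trans ((e₂ ≪≫ₗ e₃).toAddEquiv.trans
    (e₄.trans ((localCohomology _ (p + 1)).mapIso iso).toLinearEquiv.toAddEquiv))⟩

theorem nonempty_HH_punctured (I : Ideal R) (M : ModuleCat.{u} R) (p : ℕ) (hp : 1 ≤ p) :
    Nonempty (Coh.HHon (Spec (CommRingCat.of R)) (tilde (R := CommRingCat.of R) M)
      (LocCoh.puncturedOpen R I) p ≃+ (localCohomology I (p + 1)).obj M) := by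
  obtain ⟨s, hs⟩ := (IsNoetherian.noetherian I : I.FG)
  have : I = Ideal.span {x | x ∈ s.toList} := by simpa [Finset.mem_toList] using hs.symm
  rw [this]
  exact nonempty_HH_punctured_span s.toList M p hp

end Groth.Agent.LocDual54
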