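import Groth.Agent.LocDual54.PunctDT
import Groth.Agent.LocDual54.PunctCoh
import Groth.Agent.CExt24.EpsSmul
import Groth.Agent.QCoh.Tilde
import Groth.Agent.LC.CohAcyclic
import Mathlib.Algebra.Category.ModuleCat.EnoughInjectives

/-!
# `H^p(U, M~) ≅ H^{p+1}_I(M)` linearly
-/

universe u

set_option linter.style.haveILetI false

open CategoryTheory CategoryTheory.Limits AlgebraicGeometry TopologicalSpace Opposite

noncomputable section

namespace Groth.Agent.LocDual54.PunctLin

theorem preservesZero_tilde (R : CommRingCat.{u}) : (tilde.functor R).PreservesZeroMorphisms := inferInstance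

theorem tilde_shortExact {R : CommRingCat.{u}} {S : ShortComplex (ModuleCat.{u} R)} (hS : S.ShortExact) :
    (S.map (tilde.functor R)).ShortExact :=
  hS.map_of_exact (tilde.functor R)

variable {A : Type u} [CommRing A] (I : Ideal A)

/-- The punctured open as a scheme. -/
abbrev Us : Scheme.{u} := (LocCoh.puncturedOpen A I : (Spec (CommRingCat.of A)).Opens)

/-- Restriction of `M~` to the punctured open. -/
abbrev shU : ModuleCat.{u} A ⥤ (Us I).Modules :=
  tilde.functor (CommRingCat.of A) ⋙ Scheme.Modules.restrictFunctor (LocCoh.puncturedOpen A I).ι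

instance : (tilde.functor (CommRingCat.of A)).PreservesZeroMorphisms := preservesZero_tilde _

instance : (shU I).PreservesZeroMorphisms :=
  have : (Scheme.Modules.restrictFunctor (LocCoh.puncturedOpen A I).ι).PreservesZeroMorphisms := inferInstance
  inferInstance

/-- Its cohomology. -/
abbrev HU (M : ModuleCat.{u} A) (p : ℕ) : Type u := Coh.HH (Us I) ((shU I).obj M) p

/-- Maps in cohomology. -/
def mapLin {M N : ModuleCat.{u} A} (φ : M ⟶ N) (p : ℕ) : HU I M p →ₗ[A] HU I N p where
  toFun := CohPull.mapH ((shU I).map φ) p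
  map_add' := map_add _
  map_smul' _ x := CExt24.map_smul_mapH ((shU I).map φ) _ p x

/-- The connecting map. -/
def deltaLin {T : ShortComplex (Us I).Modules} (hT : T.ShortExact) (p : ℕ) :
    Coh.HH (Us I) T.X₃ p →ₗ[A] Coh.HH (Us I) T.X₁ (p + 1) where
  toFun := CExt24.deltaMod hT p
  map_add' := map_add _
  map_smul' _ x := CExt24.deltaMod_smul hT _ p x

theorem shU_shortExact {S : ShortComplex (ModuleCat.{u} A)} (hS : S.ShortExact) : (S.map (shU I)).ShortExact :=
  CExt24.restrict_shortExact (tilde_shortExact (R := CommRingCat.of A) hS) _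

theorem toGlobal_eq (r : A) :
    Coh.toGlobal ((Us I) ↘ Spec (CommRingCat.of A)) r =
      QCoh.rhoV (𝟙 (Spec (CommRingCat.of A))) (LocCoh.puncturedOpen A I)
        ((Spec (CommRingCat.of A)).presheaf.map (homOfLE (le_top : LocCoh.puncturedOpen A I ≤ ⊤)).op
          ((Scheme.ΓSpecIso (CommRingCat.of A)).inv.hom r)) := by
  let U := LocCoh.puncturedOpen A I
  show (U.ι.appTop).hom ((Scheme.ΓSpecIso (CommRingCat.of A)).inv.hom r) =
    ((Spec (CommRingCat.of A)).presheaf.map (homOfLE (le_top : U ≤ ⊤)).op ≫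
      U.ι.appLE U ⊤ U.ι_preimage_self.ge).hom ((Scheme.ΓSpecIso (CommRingCat.of A)).inv.hom r)
  rw [Scheme.Hom.map_appLE, Scheme.Hom.appTop, Scheme.Hom.app_eq_appLE]
  rfl

/-- Sections as zeroth cohomology. -/
def h0 (M : ModuleCat.{u} A) : Punct.sec M (Punct.U₀ I) →ₗ[A] HU I M 0 where
  toFun s := CohPull.sectH0 (tilde (R := CommRingCat.of A) M) (LocCoh.puncturedOpen A I)
    (show Γ(tilde (R := CommRingCat.of A) M, LocCoh.puncturedOpen A I) from s)
  map_add' := map_add (CohPull.sectH0 (tilde (R := CommRingCat.of A) M) (LocCoh.puncturedOpen A I))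
  map_smul' r s := by
    refine Eq.trans ?_ (CExt24.smul_sectH0 (𝟙 (Spec (CommRingCat.of A))) (tilde (R := CommRingCat.of A) M)
      (LocCoh.puncturedOpen A I) ((Spec (CommRingCat.of A)).presheaf.map
        (homOfLE (le_top : LocCoh.puncturedOpen A I ≤ ⊤)).op ((Scheme.ΓSpecIso (CommRingCat.of A)).inv.hom r))
      (show Γ(tilde (R := CommRingCat.of A) M, LocCoh.puncturedOpen A I) from s)).symm |>.trans ?_
    · rfl
    · rw [← toGlobal_eq]
      rfl

theorem h0_bijective (M : ModuleCat.{u} A) : Function.Bijective (h0 I M) :=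
  (CohPull.sectH0 (tilde (R := CommRingCat.of A) M) (LocCoh.puncturedOpen A I)).bijective

/-- Maps on sections. -/
abbrev secMap {M N : ModuleCat.{u} A} (φ : M ⟶ N) (U : (Spec (CommRingCat.of A)).Opens) :
    Punct.sec M U ⟶ Punct.sec N U :=
  (modulesSpecToSheaf.map (tilde.map (R := CommRingCat.of A) φ)).1.app (op U)

theorem secMap_toU {M N : ModuleCat.{u} A} (φ : M ⟶ N) (U : (Spec (CommRingCat.of A)).Opens) (m : M) :
    (secMap φ U).hom (Punct.toU M U m) = Punct.toU N U (φ.hom m) :=
  congr($(tilde.toOpen_map_app (R := CommRingCat.of A) φ U) m)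

theorem mapLin_h0 {M N : ModuleCat.{u} A} (φ : M ⟶ N) (s : Punct.sec M (Punct.U₀ I)) :
    mapLin I φ 0 (h0 I M s) = h0 I N ((secMap φ (Punct.U₀ I)).hom s) := by
  let F := tilde (R := CommRingCat.of A) M
  let G := tilde (R := CommRingCat.of A) N
  let U := LocCoh.puncturedOpen A I
  apply (Sheaf.H.equiv₀ (Coh.toAb (G.restrict U.ι)) isTerminalTop).injective
  refine (Sheaf.H.equiv₀_naturality isTerminalTop
    ((SheafOfModules.toSheaf _).map ((shU I).map φ)) (h0 I M s)).symm.trans ?_
  refine (congrArg _ (CExt24.sectH0_apply F U (show Γ(F, U) from s))).trans ?_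
  refine Eq.trans ?_ (CExt24.sectH0_apply G U (show Γ(G, U) from (secMap φ U).hom s)).symm
  exact QCoh.map_app_comm (tilde.map (R := CommRingCat.of A) φ) (eqToHom U.ι_image_top) (show Γ(F, U) from s)

variable [IsNoetherianRing A]

theorem subsingleton_HU_injective (E : ModuleCat.{u} A) [Injective E] (p : ℕ) (hp : 1 ≤ p) :
    Subsingleton (HU I E p) := by
  obtain ⟨e⟩ := LocDual54.nonempty_HH_punctured I E p hp
  haveI := LC.subsingleton_of_injective I E p
  exact e.toEquiv.subsingleton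

theorem nonempty_equiv : ∀ (p : ℕ) (M : ModuleCat.{u} A),
    Nonempty (HU I M (p + 1) ≃ₗ[A] (localCohomology I (p + 2)).obj M)
  | 0, M => by
    let S := ShortComplex.mk (Injective.ι M) (cokernel.π (Injective.ι M)) (cokernel.condition _)
    have hS : S.ShortExact := ShortComplex.ShortExact.mk' (ShortComplex.exact_cokernel _) inferInstance inferInstance
    have hX : ∀ i, Subsingleton ((localCohomology I (i + 1)).obj S.X₂) := fun i =>
      LC.subsingleton_of_injective _ _ i
    have hT := shU_shortExact I hS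
    have hg : Function.Surjective S.g.hom := (ModuleCat.epi_iff_surjective _).1 hS.epi_g
    obtain ⟨e₃, he₃⟩ := Punct.exists_secDT S.X₃ I
    obtain ⟨e₂, he₂⟩ := Punct.exists_secDT S.X₂ I
    let a : Punct.sec S.X₃ (Punct.U₀ I) →ₗ[A] HU I S.X₁ 1 := deltaLin I hT 0 ∘ₗ h0 I S.X₃
    let b : Punct.sec S.X₃ (Punct.U₀ I) →ₗ[A] (localCohomology I 2).obj S.X₁ :=
      (LC.shiftEquiv I hS hX 0).toLinearMap ∘ₗ LC.δD I S.X₃ ∘ₗ e₃.toLinearMap
    have ha : Function.Surjective a := fun z => by
      obtain ⟨y, hy⟩ := CExt24.exists_deltaMod_eq hT 0 z ((subsingleton_HU_injective I S.X₂ 1 le_rfl).elim _ _)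
      obtain ⟨s, rfl⟩ := (h0_bijective I S.X₃).2 y
      exact ⟨s, hy⟩
    have hb : Function.Surjective b := (LC.shiftEquiv I hS hX 0).surjective.comp
      ((LC.δD_surjective I S.X₃).comp e₃.surjective)
    have hE : Function.Surjective (Punct.toU S.X₂ (Punct.U₀ I)) := fun s => by
      haveI := hX 0
      obtain ⟨x, hx⟩ := (LC.exact_toDT_δD I S.X₂ (e₂ s)).1 (Subsingleton.elim _ _)
      exact ⟨x, e₂.injective ((he₂ x).trans hx)⟩
    have hker : ∀ s, a s = 0 ↔ ∃ x, Punct.toU S.X₃ (Punct.U₀ I) x = s := fun s => by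
      constructor
      · intro hs
        obtain ⟨y, hy⟩ := CExt24.exists_mapH_eq hT 0 _ hs
        obtain ⟨t, rfl⟩ := (h0_bijective I S.X₂).2 y
        obtain ⟨x, rfl⟩ := hE t
        refine ⟨S.g.hom x, (h0_bijective I S.X₃).1 (Eq.trans ?_ hy)⟩
        rw [← secMap_toU, ← mapLin_h0]
        rfl
      · rintro ⟨x, rfl⟩
        obtain ⟨w, rfl⟩ := hg x
        show CExt24.deltaMod hT 0 (h0 I S.X₃ _) = 0
        rw [← secMap_toU, ← mapLin_h0]
        exact CExt24.deltaMod_mapH hT 0 _
    refine ⟨Koszul70.equivOfKer a b ha hb fun s => (hker s).trans ?_⟩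
    show _ ↔ (LC.shiftEquiv I hS hX 0) (LC.δD I S.X₃ (e₃ s)) = 0
    rw [LinearEquiv.map_eq_zero_iff, LC.exact_toDT_δD I S.X₃ (e₃ s)]
    exact ⟨fun ⟨x, hx⟩ => ⟨x, by rw [← he₃, hx]⟩, fun ⟨x, hx⟩ => ⟨x, e₃.injective ((he₃ x).trans hx)⟩⟩
  | p + 1, M => by
    let S := ShortComplex.mk (Injective.ι M) (cokernel.π (Injective.ι M)) (cokernel.condition _)
    have hS : S.ShortExact := ShortComplex.ShortExact.mk' (ShortComplex.exact_cokernel _) inferInstance inferInstance
    have hX : ∀ i, Subsingleton ((localCohomology I (i + 1)).obj S.X₂) := fun i =>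
      LC.subsingleton_of_injective _ _ i
    have hT := shU_shortExact I hS
    obtain ⟨e⟩ := nonempty_equiv p S.X₃
    let d : HU I S.X₃ (p + 1) ≃ₗ[A] HU I S.X₁ (p + 2) := LinearEquiv.ofBijective (deltaLin I hT (p + 1))
      ⟨(injective_iff_map_eq_zero _).2 fun z hz => by
        obtain ⟨y, rfl⟩ := CExt24.exists_mapH_eq hT (p + 1) z hz
        haveI : Subsingleton (Coh.HH (Us I) (S.map (shU I)).X₂ (p + 1)) := subsingleton_HU_injective I S.X₂ (p + 1) (by omega)
        exact (congrArg _ (Subsingleton.elim y 0)).trans (map_zero (mapLin I S.g (p + 1))), fun z =>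
        CExt24.exists_deltaMod_eq hT (p + 1) z (Subsingleton.elim (h := subsingleton_HU_injective I S.X₂ (p + 2) (by omega)) _ _)⟩
    exact ⟨d.symm ≪≫ₗ e ≪≫ₗ LC.shiftEquiv I hS hX (p + 1)⟩

end Groth.Agent.LocDual54.PunctLin
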