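import Groth.Agent.LocDual54.RGammaTransfer
import Groth.Agent.KFlatLib.Ring.DualizingFlat
import Groth.Agent.KFlatLib.Ring.ShriekPerfect

/-!
# `HDI` and changes of rings; Frobenius
-/

universe u

open CategoryTheory CategoryTheory.Limits

open scoped TensorProduct

namespace Groth.Agent.LocDual54

attribute [local instance] HasDerivedCategory.standard

section Restrict

variable {A B : Type u} [CommRing A] [CommRing B] [IsNoetherianRing A] [IsNoetherianRing B] (φ : A →+* B)

theorem nonempty_HDI_restrictD (I : Ideal A) (K : Dual.D B) (i : ℤ) :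
    Nonempty (Dual2.HDI A I ((DRing.restrictD φ).obj K) i ≅
      (ModuleCat.restrictScalars φ).obj (Dual2.HDI B (I.map φ) K i)) := by
  have := hasRgammaI I
  have := hasRgammaI (I.map φ)
  obtain ⟨e₁⟩ := nonempty_HD_rgamma_equiv_HDI I ((DRing.restrictD φ).obj K) i
  obtain ⟨e₂⟩ := nonempty_HD_rgamma_equiv_HDI (I.map φ) K i
  obtain ⟨t⟩ := nonempty_restrictD_rgamma φ I K
  let e₃ : Dual.HD A ((DRing.restrictD φ).obj ((DRing.RgammaI (I.map φ)).obj K)) i ≃ₗ[A]
      (ModuleCat.restrictScalars φ).obj (Dual2.HDI B (I.map φ) K i) :=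
    ((KFlatLib.mapDCHomologyIso (ModuleCat.restrictScalars φ) i).app _).toLinearEquiv.trans
      { toFun := fun x => e₂ x
        invFun := fun y => e₂.symm y
        left_inv := fun x => e₂.symm_apply_apply x
        right_inv := fun y => e₂.apply_symm_apply y
        map_add' := fun x y => e₂.map_add x y
        map_smul' := fun a x => e₂.map_smul (φ a) x }
  exact ⟨((e₁.symm.trans ((DerivedCategory.homologyFunctor _ i).mapIso t.symm).toLinearEquiv).trans e₃).toModuleIso⟩

end Restrict

section BaseChange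

variable {A B : Type u} [CommRing A] [CommRing B] [Algebra A B]

theorem exists_extendLEquiv' (M : ModuleCat.{u + 1} A) :
    Nonempty ((ModuleCat.extendScalars (algebraMap A B)).obj M ≃ₗ[B] B ⊗[A] M) := by
  rename_i i1 i2 i3
  have he : (algebraMap A B).toAlgebra = i3 := Algebra.algebra_ext _ _ fun _ => rfl
  generalize algebraMap A B = φ at he
  subst he
  letI := φ.toAlgebra
  exact ⟨LinearEquiv.refl B _⟩

theorem nonempty_HDI_LBaseChange_flat [IsNoetherianRing A] [IsNoetherianRing B] [Module.Flat A B]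
    [DRing.HasLBaseChange (algebraMap A B)] (I : Ideal A) (K : Dual.D A) (i : ℤ) :
    Nonempty (Dual2.HDI B (I.map (algebraMap A B)) ((DRing.LBaseChange (algebraMap A B)).obj K) i ≅
      (ModuleCat.extendScalars (algebraMap A B)).obj (Dual2.HDI A I K i)) := by
  have := hasRgammaI I
  have := hasRgammaI (I.map (algebraMap A B))
  haveI := KFlatLib.hasLBase (algebraMap A B)
  obtain ⟨e₁⟩ := nonempty_HD_rgamma_equiv_HDI (I.map (algebraMap A B)) ((DRing.LBaseChange (algebraMap A B)).obj K) i
  obtain ⟨e₂⟩ := nonempty_HD_rgamma_equiv_HDI I K i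
  obtain ⟨t⟩ := nonempty_lbase_rgamma (algebraMap A B) I K
  obtain ⟨u'⟩ := KFlatLib.nonempty_LBaseChange_iso (algebraMap A B)
  obtain ⟨h⟩ := KFlatLib.exists_hdLBaseLEquiv (B := B) ((DRing.RgammaI I).obj K) i
  obtain ⟨c⟩ := exists_extendLEquiv' (B := B) (Dual2.HDI A I K i)
  exact ⟨(((e₁.symm.trans ((DerivedCategory.homologyFunctor _ i).mapIso
    (t.symm ≪≫ u'.app _)).toLinearEquiv).trans h).trans
    ((TensorProduct.AlgebraTensorModule.congr (LinearEquiv.refl B B) e₂).trans c.symm)).toModuleIso⟩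

end BaseChange

section Radical

variable {A : Type u} [CommRing A]

theorem isPowerTorsion_of_le_radical {I J : Ideal A} (h : I ≤ J.radical) (hI : I.FG) {M : Type u}
    [AddCommGroup M] [Module A M] (hM : LocCoh.IsPowerTorsion J M) : LocCoh.IsPowerTorsion I M := fun x => by
  obtain ⟨k, hk⟩ := Ideal.exists_pow_le_of_le_radical_of_fg h hI
  obtain ⟨n, hn⟩ := hM x
  exact ⟨k * n, fun a ha => hn a (Ideal.pow_right_mono hk n (by rwa [← pow_mul]))⟩

/-- `RΓ_I` only depends on the radical of `I`. -/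
theorem nonempty_rgamma_congr [IsNoetherianRing A] {I J : Ideal A} (h₁ : I ≤ J.radical) (h₂ : J ≤ I.radical)
    [DRing.HasRgammaI I] [DRing.HasRgammaI J] (K : Dual.D A) :
    Nonempty ((DRing.RgammaI I).obj K ≅ (DRing.RgammaI J).obj K) := by
  have hIJ : ∀ L, IsTors J L → IsTors I L := fun L hL i =>
    isPowerTorsion_of_le_radical h₁ (IsNoetherian.noetherian I) (hL i)
  have hJI : ∀ L, IsTors I L → IsTors J L := fun L hL i =>
    isPowerTorsion_of_le_radical h₂ (IsNoetherian.noetherian J) (hL i)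
  exact nonempty_iso_rgamma J ((DRing.RgammaIε I).app K)
    (hJI _ (isPowerTorsion_HD_rgamma I K)) fun L hL => comp_ε_bijective I L K (hIJ L hL)

/-- Derived base change of the ring is the target ring. -/
theorem nonempty_lbase_inD_self {B : Type u} [CommRing B] (φ : A →+* B) [DRing.HasLBaseChange φ] :
    Nonempty ((DRing.LBaseChange φ).obj (Dual.inD A A) ≅ Dual.inD B B) := by
  haveI := KFlatLib.hasLBase φ
  obtain ⟨e⟩ := KFlatLib.nonempty_LBaseChange_iso φ
  obtain ⟨v⟩ := KFlatLib.nonempty_LBase_unit φ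
  let w : ∀ (R : Type u) [CommRing R], Dual.inD R R ≅ DTen.unit R := fun R _ =>
    (DerivedCategory.singleFunctorIsoCompQ (ModuleCat R) 0).app (ModuleCat.of R R)
  exact ⟨e.app _ ≪≫ (DTen.LBase φ).mapIso (w A) ≪≫ v ≪≫ (w B).symm⟩

theorem nonempty_frobenius_rgamma (p : ℕ) [Fact p.Prime] [IsNoetherianRing A] [CharP A p] (I : Ideal A)
    [DRing.HasRgammaI I] [DRing.HasLBaseChange (frobenius A p)] :
    Nonempty ((DRing.LBaseChange (frobenius A p)).obj ((DRing.RgammaI I).obj (Dual.inD A A)) ≅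
      (DRing.RgammaI I).obj (Dual.inD A A)) := by
  have := hasRgammaI (I.map (frobenius A p))
  obtain ⟨t⟩ := nonempty_lbase_rgamma (frobenius A p) I (Dual.inD A A)
  obtain ⟨v⟩ := nonempty_lbase_inD_self (frobenius A p)
  have h1 : I.map (frobenius A p) ≤ I.radical := by
    refine (Ideal.map_le_iff_le_comap.2 fun a ha => ?_).trans Ideal.le_radical
    rw [Ideal.mem_comap, frobenius_def]
    exact Ideal.pow_mem_of_mem I ha p (Fact.out : p.Prime).pos
  have h2 : I ≤ (I.map (frobenius A p)).radical := fun a ha =>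
    ⟨p, by rw [← frobenius_def]; exact Ideal.mem_map_of_mem _ ha⟩
  obtain ⟨s⟩ := nonempty_rgamma_congr h1 h2 (Dual.inD A A)
  exact ⟨t ≪≫ (DRing.RgammaI (I.map (frobenius A p))).mapIso v ≪≫ s⟩

end Radical

end Groth.Agent.LocDual54
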