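import Groth.Agent.LC.CohLoc

/-!
# Power torsion subcomplexes of complexes of injective modules over a Noetherian ring
-/

universe u

open CategoryTheory Limits

namespace Groth.Agent.LocDual54

open Groth.Agent.LC

variable {R : Type u} [CommRing R] [IsNoetherianRing R]

theorem injective_torsionSub (a : Ideal R) (N : Type u) [AddCommGroup N] [Module R N] [Module.Injective R N] :
    Module.Injective R (DRing.torsionSub a N) := by
  rw [torsionSub_eq_iSup]; exact injective_torsion a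

/-- Divisibility up to `f`-power torsion inside the `a`-power torsion of an injective module. -/
theorem exists_div {a : Ideal R} {N : Type u} [AddCommGroup N] [Module R N] [Module.Injective R N]
    (f : R) (n : ℕ) {v : N} (hv : v ∈ DRing.torsionSub a N) :
    ∃ v' ∈ DRing.torsionSub a N, ∃ l : ℕ, f ^ l • (f ^ n • v' - v) = 0 := by
  have := injective_torsionSub a N
  obtain ⟨w, hw⟩ := surjective_mkLinearMap_of_injective (DRing.torsionSub a N) f
    (LocalizedModule.mk ⟨v, hv⟩ ⟨f ^ n, _, rfl⟩)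
  rw [LocalizedModule.mkLinearMap_apply, LocalizedModule.mk_eq] at hw
  obtain ⟨⟨_, l, rfl⟩, hl⟩ := hw
  simp only [Submonoid.smul_def, one_smul] at hl
  refine ⟨w, w.2, l, ?_⟩
  have h : f ^ l • f ^ n • (w : N) = f ^ l • v := congrArg Subtype.val hl
  rw [smul_sub, h, sub_self]

theorem mem_torsionSub_bot {N : Type u} [AddCommGroup N] [Module R N] (x : N) :
    x ∈ DRing.torsionSub (⊥ : Ideal R) N :=
  ⟨1, fun c hc => by rw [pow_one] at hc; rw [(Submodule.mem_bot R).1 hc, zero_smul]⟩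

theorem torsionSub_mono {a b : Ideal R} (h : a ≤ b) {N : Type u} [AddCommGroup N] [Module R N] {x : N}
    (hx : x ∈ DRing.torsionSub b N) : x ∈ DRing.torsionSub a N :=
  hx.imp fun n hn c hc => hn c (Ideal.pow_right_mono h n hc)

variable (L : CochainComplex (ModuleCat.{u} R) ℤ)

/-- The cohomology of `L` is `a`-power torsion, in terms of elements. -/
def TorsionCycles (a : Ideal R) : Prop :=
  ∀ (p q : ℤ), p + 1 = q → ∀ x : L.X q, (L.d q (q + 1)).hom x = 0 →
    ∃ n : ℕ, ∀ c ∈ a ^ n, ∃ w : L.X p, (L.d p q).hom w = c • x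

/-- The inclusion of the `a`-power torsion subcomplex is a homology isomorphism, in terms of elements. -/
def TorsionDominates (a : Ideal R) : Prop :=
  (∀ (p q : ℤ), p + 1 = q → ∀ x : L.X q, (L.d q (q + 1)).hom x = 0 →
    ∃ w : L.X p, x - (L.d p q).hom w ∈ DRing.torsionSub a (L.X q)) ∧
  (∀ (p q : ℤ), p + 1 = q → ∀ x ∈ DRing.torsionSub a (L.X q), ∀ w : L.X p, (L.d p q).hom w = x →
    ∃ w' ∈ DRing.torsionSub a (L.X p), (L.d p q).hom w' = x)

variable {L}

omit [IsNoetherianRing R] in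
theorem d_d {p q r : ℤ} (w : L.X p) : (L.d q r).hom ((L.d p q).hom w) = 0 :=
  ConcreteCategory.congr_hom (L.d_comp_d p q r) w

theorem torsionDominates_insert (hinj : ∀ q, Module.Injective R (L.X q)) {a : Ideal R} {f : R}
    (ha : TorsionDominates L a) (hL : TorsionCycles L (a ⊔ Ideal.span {f})) :
    TorsionDominates L (a ⊔ Ideal.span {f}) := by
  refine ⟨fun p q hpq x hx => ?_, fun p q hpq x hx w hw => ?_⟩
  · obtain ⟨w₀, hx₁⟩ := ha.1 p q hpq x hx
    obtain ⟨m, hm⟩ := hL p q hpq x hx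
    obtain ⟨v, hv⟩ := hm (f ^ m) (Ideal.pow_mem_pow (Ideal.mem_sup_right (Ideal.mem_span_singleton_self f)) m)
    have hdv : (L.d p q).hom (v - f ^ m • w₀) = f ^ m • (x - (L.d p q).hom w₀) := by
      rw [map_sub, map_smul, hv, smul_sub]
    obtain ⟨v₁, hv₁, hdv₁⟩ := ha.2 p q hpq _ (Submodule.smul_mem _ (f ^ m) hx₁) _ hdv
    have := hinj p
    obtain ⟨v₂, hv₂, l, hl⟩ := exists_div f m hv₁
    refine ⟨w₀ + v₂, mem_torsionSub_sup_span f a ?_ (k := l + m) ?_⟩
    · rw [map_add, ← sub_sub]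
      exact Submodule.sub_mem _ hx₁ (DRing.map_mem_torsionSub a _ hv₂)
    · rw [map_add, ← sub_sub, smul_sub, pow_add, mul_smul, mul_smul, ← hdv₁]
      rw [smul_sub, sub_eq_zero] at hl
      rw [← map_smul, ← map_smul, ← map_smul, hl, sub_self]
  · obtain ⟨w₁, hw₁, hdw₁⟩ := ha.2 p q hpq x (torsionSub_mono le_sup_left hx) w hw
    obtain ⟨k, hk⟩ := hx
    have hfk : f ^ k • x = 0 := hk _ (Ideal.pow_mem_pow (Ideal.mem_sup_right (Ideal.mem_span_singleton_self f)) k)
    have hcyc : (L.d p (p + 1)).hom (f ^ k • w₁) = 0 := by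
      rw [hpq, map_smul, hdw₁, hfk]
    obtain ⟨m, hm⟩ := hL (p - 1) p (sub_add_cancel p 1) _ hcyc
    obtain ⟨v, hv⟩ := hm (f ^ m) (Ideal.pow_mem_pow (Ideal.mem_sup_right (Ideal.mem_span_singleton_self f)) m)
    obtain ⟨v₁, hv₁, hdv₁⟩ := ha.2 (p - 1) p (sub_add_cancel p 1) _
      (Submodule.smul_mem _ (f ^ m) (Submodule.smul_mem _ (f ^ k) hw₁)) v hv
    have := hinj (p - 1)
    obtain ⟨v₂, hv₂, l, hl⟩ := exists_div f (m + k) hv₁
    refine ⟨w₁ - (L.d (p - 1) p).hom v₂, mem_torsionSub_sup_span f a ?_ (k := l + (m + k)) ?_, ?_⟩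
    · exact Submodule.sub_mem _ hw₁ (DRing.map_mem_torsionSub a _ hv₂)
    · rw [smul_sub, sub_eq_zero] at hl
      have h1 : f ^ (l + (m + k)) • w₁ = f ^ l • f ^ m • f ^ k • w₁ := by
        rw [pow_add, pow_add, mul_smul, mul_smul]
      have h2 : f ^ (l + (m + k)) • v₂ = f ^ l • v₁ := by
        rw [pow_add, mul_smul, hl]
      rw [smul_sub, h1, ← hdv₁, ← map_smul _ (f ^ (l + (m + k))), h2, map_smul, sub_self]
    · rw [map_sub, d_d, sub_zero, hdw₁]

theorem torsionDominates (hinj : ∀ q, Module.Injective R (L.X q)) (a : Ideal R) (hL : TorsionCycles L a) :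
    TorsionDominates L a := by
  classical
  obtain ⟨s, hs⟩ : a.FG := IsNoetherian.noetherian a
  induction s using Finset.induction generalizing a with
  | empty =>
    obtain rfl : a = ⊥ := by rw [← hs]; simp
    exact ⟨fun p q _ x _ => ⟨0, mem_torsionSub_bot _⟩, fun p q _ x _ w hw => ⟨w, mem_torsionSub_bot _, hw⟩⟩
  | insert f s _ ih =>
    have e : a = Ideal.span (s : Set R) ⊔ Ideal.span {f} := by
      rw [← hs, Finset.coe_insert, Ideal.span_insert, sup_comm]
    subst e
    refine torsionDominates_insert hinj (ih _ (fun p q hpq x hx => ?_) rfl) hL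
    obtain ⟨n, hn⟩ := hL p q hpq x hx
    exact ⟨n, fun c hc => hn c (Ideal.pow_right_mono le_sup_left n hc)⟩

end Groth.Agent.LocDual54

namespace Groth.Agent.LocDual54

open Groth.Agent.LC

variable {R : Type u} [CommRing R] [IsNoetherianRing R] {L : CochainComplex (ModuleCat.{u} R) ℤ}

/-- If the cohomology of `L` is `f`-power torsion, then so is that of its `a`-power torsion subcomplex. -/
theorem exists_pow_smul_eq_d (hinj : ∀ q, Module.Injective R (L.X q)) (f : R)
    (hf : ∀ (p q : ℤ), p + 1 = q → ∀ x : L.X q, (L.d q (q + 1)).hom x = 0 →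
      ∃ (n : ℕ) (w : L.X p), (L.d p q).hom w = f ^ n • x) (a : Ideal R) :
    ∀ (p q : ℤ), p + 1 = q → ∀ x ∈ DRing.torsionSub a (L.X q), (L.d q (q + 1)).hom x = 0 →
      ∃ (n : ℕ), ∃ w ∈ DRing.torsionSub a (L.X p), (L.d p q).hom w = f ^ n • x := by
  classical
  obtain ⟨s, hs⟩ : a.FG := IsNoetherian.noetherian a
  induction s using Finset.induction generalizing a with
  | empty =>
    obtain rfl : a = ⊥ := by rw [← hs]; simp
    intro p q hpq x _ hx
    obtain ⟨n, w, hw⟩ := hf p q hpq x hx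
    exact ⟨n, w, mem_torsionSub_bot _, hw⟩
  | insert g s _ ih =>
    obtain ⟨b, hb, rfl⟩ : ∃ b, b = Ideal.span (s : Set R) ∧ a = b ⊔ Ideal.span {g} := by
      refine ⟨_, rfl, ?_⟩
      rw [← hs, Finset.coe_insert, Ideal.span_insert, sup_comm]
    have hb' := ih b hb.symm
    intro p q hpq x hx hxd
    obtain ⟨n, w, hw, hdw⟩ := hb' p q hpq x (torsionSub_mono le_sup_left hx) hxd
    obtain ⟨k, hk⟩ := hx
    have hgk : g ^ k • x = 0 :=
      hk _ (Ideal.pow_mem_pow (Ideal.mem_sup_right (Ideal.mem_span_singleton_self g)) k)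
    have hcyc : (L.d p (p + 1)).hom (g ^ k • w) = 0 := by
      rw [hpq, map_smul, hdw, smul_comm, hgk, smul_zero]
    obtain ⟨m, v, hv, hdv⟩ := hb' (p - 1) p (sub_add_cancel p 1) _ (Submodule.smul_mem _ (g ^ k) hw) hcyc
    have := hinj (p - 1)
    obtain ⟨v', hv', l, hl⟩ := exists_div g k hv
    refine ⟨m + n, f ^ m • w - (L.d (p - 1) p).hom v', mem_torsionSub_sup_span g b ?_ (k := l + k) ?_, ?_⟩
    · exact Submodule.sub_mem _ (Submodule.smul_mem _ _ hw) (DRing.map_mem_torsionSub b _ hv')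
    · rw [smul_sub, sub_eq_zero] at hl
      have h1 : g ^ (l + k) • f ^ m • w = g ^ l • f ^ m • g ^ k • w := by
        rw [pow_add, mul_smul, smul_comm (g ^ k) (f ^ m)]
      have h2 : g ^ (l + k) • v' = g ^ l • v := by
        rw [pow_add, mul_smul, hl]
      rw [smul_sub, h1, ← hdv, ← map_smul _ (g ^ (l + k)), h2, map_smul, sub_self]
    · rw [map_sub, d_d, sub_zero, map_smul, hdw, pow_add, mul_smul]

end Groth.Agent.LocDual54
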