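import Groth.Agent.LocDual54.RGammaBasic
import Groth.Agent.LocDual54.TorsionElem

/-!
# `RΓ_I` on objects with torsion cohomology
-/

universe u

open CategoryTheory CategoryTheory.Limits

namespace Groth.Agent.LocDual54

attribute [local instance] HasDerivedCategory.standard

variable {A : Type u} [CommRing A] (I : Ideal A)

theorem torsionCycles_of_homology (J : CochainComplex (ModuleCat.{u} A) ℤ)
    (h : ∀ q, LocCoh.IsPowerTorsion I (J.homology q)) : TorsionCycles J I := by
  intro p q hpq x hx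
  obtain rfl : p = q - 1 := by omega
  obtain ⟨c, rfl⟩ := exists_cycles_eq x hx
  obtain ⟨n, hn⟩ := h q ((J.homologyπ q).hom c)
  refine ⟨n, fun a ha => ?_⟩
  obtain ⟨w, hw⟩ := (homologyπ_eq_zero_iff (a • c)).1 (by rw [map_smul, hn a ha])
  exact ⟨w, by rw [hw, map_smul]⟩

theorem quasiIso_gammaCxι [IsNoetherianRing A] (J : CochainComplex (ModuleCat.{u} A) ℤ)
    (hinj : ∀ n, Injective (J.X n)) (h : ∀ q, LocCoh.IsPowerTorsion I (J.homology q)) :
    QuasiIso (gammaCxι I J) := by
  have hM : ∀ n, Module.Injective A (J.X n) := fun n =>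
    haveI := hinj n
    Module.injective_module_of_injective_object A (J.X n)
  obtain ⟨hs, hi⟩ := torsionDominates hM I (torsionCycles_of_homology I J h)
  refine quasiIso_of_elem _ (fun q x hx => ?_) fun q y hy hw => ?_
  · obtain ⟨w, hw⟩ := hs (q - 1) q (sub_add_cancel q 1) x hx
    refine ⟨⟨_, hw⟩, Subtype.ext ?_, w, ?_⟩
    · show (J.d q (q + 1)).hom (x - (J.d (q - 1) q).hom w) = 0
      rw [map_sub, hx, d_d, sub_zero]
    · show (J.d (q - 1) q).hom w = x - (x - (J.d (q - 1) q).hom w)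
      rw [sub_sub_cancel]
  · obtain ⟨w, hw⟩ := hw
    obtain ⟨w', hw', hdw⟩ := hi (q - 1) q (sub_add_cancel q 1) y.1 y.2 w hw
    exact ⟨⟨w', hw'⟩, Subtype.ext hdw⟩

variable [DRing.HasRgammaI I]

/-- `ε` is an isomorphism on objects with torsion cohomology (Noetherian ring). -/
theorem isIso_ε [IsNoetherianRing A] (K : Dual.D A)
    (hK : ∀ i : ℤ, LocCoh.IsPowerTorsion I (Dual.HD A K i)) : IsIso ((DRing.RgammaIε I).app K) := by
  obtain ⟨J, hJ, hinj, ⟨e⟩⟩ := exists_kinj_rep K
  have := quasiIso_gammaCxι I J hinj fun q =>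
    isPowerTorsion_of_linearEquiv I ((DerivedCategory.homologyFunctor _ q).mapIso e.symm ≪≫
      hdIso J q).toLinearEquiv (hK q)
  exact (NatTrans.isIso_app_iff_of_iso _ e).1 (isIso_ε_of_quasiIso I J)

end Groth.Agent.LocDual54
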