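import Groth.Agent.LocDual54.KosLocal
import Groth.Agent.H9Misc.DRingAdjoint
import Mathlib.CategoryTheory.Triangulated.Adjunction

/-!
# `RΓ_I` and changes of rings
-/

universe u

open CategoryTheory CategoryTheory.Limits CategoryTheory.Pretriangulated

namespace Groth.Agent.LocDual54

attribute [local instance] HasDerivedCategory.standard

section Generic

variable {R S : Type u} [CommRing R] [CommRing S] (F : Dual.D R ⥤ Dual.D S)
  (hFT : ∀ T ∈ (distTriang (Dual.D R)), ∃ c, Triangle.mk (F.map T.mor₁) (F.map T.mor₂) c ∈ distTriang _)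
  {ι : Type} (σ : ι → R) (τ : ι → S) (hF : ∀ (j : ι) (X : Dual.D R), F.map (σ j • 𝟙 X) = τ j • 𝟙 (F.obj X))
  (hF0 : ∀ X : Dual.D R, IsZero X → IsZero (F.obj X))

include hFT hF hF0 in
/-- Vanishing iterated cones are preserved. -/
theorem kosZero_map : ∀ (l : List ι) (C : Dual.D R), KosZero (l.map σ) C → KosZero (l.map τ) (F.obj C) := by
  intro l
  induction l with
  | nil => exact fun C hC => hF0 C hC
  | cons j l ih =>
    rintro C ⟨C', g, h, hT, hC'⟩
    obtain ⟨c, hc⟩ := hFT _ hT
    refine ⟨F.obj C', F.map g, c, ?_, ih C' hC'⟩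
    rw [show F.map (Triangle.mk (σ j • 𝟙 C) g h).mor₁ = τ j • 𝟙 (F.obj C) from hF j C] at hc
    exact hc

end Generic

variable {A B : Type u} [CommRing A] [CommRing B] (φ : A →+* B)

/-- Restriction turns multiplication by `φ a` into multiplication by `a`. -/
theorem restrictD_map_smul (a : A) (X : Dual.D B) :
    (DRing.restrictD φ).map (φ a • 𝟙 X) = a • 𝟙 ((DRing.restrictD φ).obj X) := by
  let F := ModuleCat.restrictScalars.{u} φ
  obtain ⟨J, -, -, ⟨e⟩⟩ := exists_kinj_rep X
  have hs : φ a • 𝟙 X = e.inv ≫ DerivedCategory.Q.map (φ a • 𝟙 J) ≫ e.hom := by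
    rw [Functor.map_smul, CategoryTheory.Functor.map_id, Linear.smul_comp, Category.id_comp,
      Linear.comp_smul, e.inv_hom_id]
  have hF : (F.mapHomologicalComplex (ComplexShape.up ℤ)).map (φ a • 𝟙 J) = a • 𝟙 _ :=
    HomologicalComplex.hom_ext _ _ fun n => ModuleCat.hom_ext (LinearMap.ext fun x => rfl)
  have hn := F.mapDerivedCategoryFactors.hom.naturality (φ a • 𝟙 J)
  rw [Functor.comp_map, Functor.comp_map] at hn
  have hQ : (DRing.restrictD φ).map (DerivedCategory.Q.map (φ a • 𝟙 J)) = a • 𝟙 _ := by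
    rw [← cancel_mono (F.mapDerivedCategoryFactors.hom.app J)]
    refine hn.trans ?_
    rw [hF, Functor.map_smul, CategoryTheory.Functor.map_id, Linear.comp_smul, Linear.smul_comp]
    erw [Category.comp_id, Category.id_comp]
  rw [hs, Functor.map_comp, Functor.map_comp, hQ, Linear.smul_comp, Category.id_comp, Linear.comp_smul,
    ← Functor.map_comp, e.inv_hom_id, CategoryTheory.Functor.map_id]

theorem isTors_restrictD (I : Ideal A) {L : Dual.D B} (h : IsTors (I.map φ) L) :
    IsTors I ((DRing.restrictD φ).obj L) := fun i => by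
  refine isPowerTorsion_of_linearEquiv I
    ((KFlatLib.mapDCHomologyIso (ModuleCat.restrictScalars φ) i).app L).symm.toLinearEquiv fun x => ?_
  obtain ⟨n, hn⟩ := h i x
  refine ⟨n, fun a ha => ?_⟩
  show φ a • (show Dual.HD B L i from x) = 0
  exact hn _ (by rw [← Ideal.map_pow]; exact Ideal.mem_map_of_mem φ ha)

variable (I : Ideal A) [IsNoetherianRing A] [IsNoetherianRing B]

theorem exists_list (I : Ideal A) : ∃ fs : List A, I = Ideal.span {a | a ∈ fs} := by
  obtain ⟨s, hs⟩ : I.FG := IsNoetherian.noetherian I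
  refine ⟨s.toList, ?_⟩
  rw [← hs]
  congr 1
  ext a
  simp

theorem exists_indexed_list : ∃ (n : ℕ) (σ : Fin n → A), I = Ideal.span {a | a ∈ (List.finRange n).map σ} ∧
    I.map φ = Ideal.span {b | b ∈ (List.finRange n).map (fun j => φ (σ j))} := by
  obtain ⟨fs, hfs⟩ := exists_list I
  have hset : {a | a ∈ (List.finRange fs.length).map fun j => fs[j]} = {a | a ∈ fs} := by
    ext a
    simp [List.mem_iff_getElem, Fin.exists_iff]
  refine ⟨fs.length, fun j => fs[j], ?_, ?_⟩
  · rw [hset]; exact hfs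
  · have himg : {b | b ∈ (List.finRange fs.length).map (fun j => φ fs[j])} = φ '' {a | a ∈ fs} := by
      ext b
      simp [List.mem_iff_getElem, Fin.exists_iff]
    rw [himg, ← Ideal.map_span, ← hfs]

/-- Restriction preserves local objects. -/
theorem isLocal_restrictD {C : Dual.D B} (h : IsLocal (I.map φ) C) : IsLocal I ((DRing.restrictD φ).obj C) := by
  have := hasRgammaI I
  have := hasRgammaI (I.map φ)
  obtain ⟨n, σ, hσ, hσ'⟩ := exists_indexed_list φ I
  refine isLocal_of_kosZero I ((List.finRange n).map σ) (fun f hf => hσ ▸ Ideal.subset_span hf) ?_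
  refine kosZero_map (DRing.restrictD φ) (fun T hT => ⟨_, (DRing.restrictD φ).map_distinguished T hT⟩)
    (fun j => φ (σ j)) σ (fun j X => restrictD_map_smul φ (σ j) X)
    (fun X hX => (DRing.restrictD φ).map_isZero hX) _ _ ?_
  exact kosZero_of_isLocal (I.map φ) _ hσ' h

variable {φ} in
/-- The universal property identifies a coreflection. -/
theorem nonempty_iso_rgamma [DRing.HasRgammaI I] {P K : Dual.D A} (π : P ⟶ K) (hP : IsTors I P)
    (hπ : ∀ L, IsTors I L → Function.Bijective fun f : L ⟶ P => f ≫ π) :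
    Nonempty (P ≅ (DRing.RgammaI I).obj K) := by
  let Q := (DRing.RgammaI I).obj K
  have hQ : IsTors I Q := isPowerTorsion_HD_rgamma I K
  obtain ⟨α, hα⟩ := (comp_ε_bijective I P K hP).2 π
  obtain ⟨β, hβ⟩ := (hπ Q hQ).2 ((DRing.RgammaIε I).app K)
  simp only at hα hβ
  exact ⟨{ hom := α, inv := β
           hom_inv_id := (hπ P hP).1 (by
             show (α ≫ β) ≫ π = 𝟙 P ≫ π
             rw [Category.assoc, hβ, hα, Category.id_comp])
           inv_hom_id := (comp_ε_bijective I Q K hQ).1 (by
             show (β ≫ α) ≫ (DRing.RgammaIε I).app K = 𝟙 Q ≫ (DRing.RgammaIε I).app K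
             rw [Category.assoc, hα, hβ, Category.id_comp]) }⟩

/-- `RΓ_I` commutes with restriction of scalars. -/
theorem nonempty_restrictD_rgamma [DRing.HasRgammaI I] [DRing.HasRgammaI (I.map φ)] (K : Dual.D B) :
    Nonempty ((DRing.restrictD φ).obj ((DRing.RgammaI (I.map φ)).obj K) ≅
      (DRing.RgammaI I).obj ((DRing.restrictD φ).obj K)) := by
  obtain ⟨C, g, h, hT, hC⟩ := exists_local_triangle (I.map φ) K
  refine nonempty_iso_rgamma I ((DRing.restrictD φ).map ((DRing.RgammaIε (I.map φ)).app K))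
    (isTors_restrictD φ I (isPowerTorsion_HD_rgamma (I.map φ) K)) fun L hL => ?_
  exact comp_bijective_of_isLocal I _ ((DRing.restrictD φ).map_distinguished _ hT)
    (isLocal_restrictD φ I hC) L hL

/-- `RΓ_I` commutes with derived base change. -/
theorem nonempty_lbase_rgamma [DRing.HasLBaseChange φ] [DRing.HasRgammaI I] [DRing.HasRgammaI (I.map φ)]
    (K : Dual.D A) :
    Nonempty ((DRing.LBaseChange φ).obj ((DRing.RgammaI I).obj K) ≅
      (DRing.RgammaI (I.map φ)).obj ((DRing.LBaseChange φ).obj K)) := by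
  obtain ⟨adj⟩ := H9Misc.DRingAdjoint.nonempty_adj φ
  letI := adj.leftAdjointCommShift ℤ
  haveI : adj.CommShift ℤ := adj.commShift_of_rightAdjoint ℤ
  haveI : (DRing.restrictD φ).IsTriangulated := inferInstance
  haveI := adj.isTriangulated_leftAdjoint
  have hsmul : ∀ (a : A) (X : Dual.D A),
      (DRing.LBaseChange φ).map (a • 𝟙 X) = φ a • 𝟙 ((DRing.LBaseChange φ).obj X) := by
    intro a X
    refine (adj.homEquiv _ _).injective ?_
    rw [adj.homEquiv_unit, adj.homEquiv_unit, restrictD_map_smul, Linear.comp_smul]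
    refine (adj.unit.naturality (a • 𝟙 X)).symm.trans ?_
    rw [Functor.id_map, Linear.smul_comp]
    erw [Category.id_comp, Category.comp_id]
  have hloc : ∀ C : Dual.D A, IsLocal I C → IsLocal (I.map φ) ((DRing.LBaseChange φ).obj C) := by
    intro C hC
    obtain ⟨n, σ, hσ, hσ'⟩ := exists_indexed_list φ I
    refine isLocal_of_kosZero (I.map φ) ((List.finRange n).map fun j => φ (σ j))
      (fun f hf => hσ' ▸ Ideal.subset_span hf) ?_
    refine kosZero_map (DRing.LBaseChange φ) (fun T hT => ⟨_, (DRing.LBaseChange φ).map_distinguished T hT⟩)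
      σ (fun j => φ (σ j)) (fun j X => hsmul (σ j) X)
      (fun X hX => (DRing.LBaseChange φ).map_isZero hX) _ _ ?_
    exact kosZero_of_isLocal I _ hσ hC
  have htors : ∀ L : Dual.D A, IsTors I L → IsTors (I.map φ) ((DRing.LBaseChange φ).obj L) := by
    intro L hL
    refine isTors_of_orth (I.map φ) fun C hC x => (adj.homEquiv L C).injective ?_
    exact (isLocal_restrictD φ I hC L hL _).trans (isLocal_restrictD φ I hC L hL _).symm
  obtain ⟨C, g, h, hT, hC⟩ := exists_local_triangle I K
  refine nonempty_iso_rgamma (I.map φ) ((DRing.LBaseChange φ).map ((DRing.RgammaIε I).app K))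
    (htors _ (isPowerTorsion_HD_rgamma I K)) fun L hL => ?_
  exact comp_bijective_of_isLocal (I.map φ) _ ((DRing.LBaseChange φ).map_distinguished _ hT) (hloc C hC) L hL

end Groth.Agent.LocDual54
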