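import Groth.Agent.LC.HTensor
import Mathlib.Algebra.Category.ModuleCat.ChangeOfRings

/-!
# Representability of the dual of the top local cohomology
-/

universe u

set_option linter.style.haveILetI false

open CategoryTheory Opposite
open scoped TensorProduct

namespace Groth.Agent.LocDual54.ReprTop

variable (R S : Type u) [CommRing R] [CommRing S] [IsNoetherianRing S] [Algebra R S] (J : Ideal S) (d : ℕ)
  (F : Type u) [AddCommGroup F] [Module R F]

theorem isRepresentable
    (hvan : ∀ (N : ModuleCat.{u} S), Module.Finite S N → Subsingleton ((localCohomology J (d + 1)).obj N)) :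
    ((localCohomology J d ⋙ ModuleCat.restrictScalars (algebraMap R S)).op ⋙
      yoneda.obj (ModuleCat.of R F)).IsRepresentable := by
  let H : ModuleCat.{u} S := (localCohomology J d).obj (ModuleCat.of S S)
  letI : ∀ Y : ModuleCat.{u} S, Module R ((localCohomology J d).obj Y) := fun Y =>
    Module.compHom _ (algebraMap R S)
  haveI : IsScalarTower R S H := IsScalarTower.of_algebraMap_smul fun r h => rfl
  -- the representing module
  letI : SMul S (H →ₗ[R] F) := ⟨fun s g =>
    g.comp ((DistribSMul.toLinearMap R H s : H →ₗ[R] H))⟩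
  have hsmul : ∀ (s : S) (g : H →ₗ[R] F) (h : H), (s • g) h = g (s • h) := fun _ _ _ => rfl
  letI : Module S (H →ₗ[R] F) :=
    { one_smul := fun g => LinearMap.ext fun h => by rw [hsmul, one_smul]
      mul_smul := fun a b g => LinearMap.ext fun h => by rw [hsmul, hsmul, hsmul, smul_smul, mul_comm a b]
      smul_zero := fun a => LinearMap.ext fun h => by rw [hsmul]; rfl
      smul_add := fun a f g => LinearMap.ext fun h => rfl
      add_smul := fun a b g => LinearMap.ext fun h => by
        rw [hsmul, add_smul, map_add]; rfl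
      zero_smul := fun g => LinearMap.ext fun h => by rw [hsmul, zero_smul, map_zero]; rfl }
  let W : ModuleCat.{u} S := ModuleCat.of S (H →ₗ[R] F)
  -- the universal pairing
  let ev : ∀ Y : ModuleCat.{u} S, (Y ⟶ W) → ((H ⊗[S] Y) →+ F) := fun Y f =>
    TensorProduct.liftAddHom
      (AddMonoidHom.mk' (fun h => AddMonoidHom.mk' (fun y => (f.hom y : H →ₗ[R] F) h) fun a b => by
          show (f.hom (a + b) : H →ₗ[R] F) h = _; rw [map_add]; rfl)
        fun a b => AddMonoidHom.ext fun y => map_add (f.hom y : H →ₗ[R] F) a b)
      fun s h y => by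
        show (f.hom y : H →ₗ[R] F) (s • h) = (f.hom (s • y) : H →ₗ[R] F) h
        rw [map_smul f.hom]; exact (hsmul s _ h).symm
  have hb := fun Y : ModuleCat.{u} S => LC.htensor_bijective J d hvan Y
  let e : ∀ Y : ModuleCat.{u} S, H ⊗[S] Y ≃ₗ[S] (localCohomology J d).obj Y := fun Y =>
    LinearEquiv.ofBijective (LC.htensor J d Y) (hb Y)
  let X : ModuleCat.{u} S → ModuleCat.{u} R := fun Y =>
    (ModuleCat.restrictScalars (algebraMap R S)).obj ((localCohomology J d).obj Y)
  let fwd : ∀ Y : ModuleCat.{u} S, (Y ⟶ W) → (X Y ⟶ ModuleCat.of R F) := fun Y f =>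
    ModuleCat.ofHom
      { toFun := fun z : X Y => ev Y f ((e Y).symm (show (localCohomology J d).obj Y from z))
        map_add' := fun a b => by
          show ev Y f ((e Y).symm (_ + _)) = _
          rw [map_add, map_add]
        map_smul' := fun r a => by
          show ev Y f ((e Y).symm ((algebraMap R S r) • (show (localCohomology J d).obj Y from a))) = r • ev Y f _
          rw [map_smul]
          generalize (e Y).symm (show (localCohomology J d).obj Y from a) = t
          induction t with
          | zero => rw [smul_zero, map_zero, smul_zero]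
          | tmul h y =>
            rw [TensorProduct.smul_tmul']
            show (f.hom y : H →ₗ[R] F) (algebraMap R S r • h) = r • (f.hom y : H →ₗ[R] F) h
            rw [algebraMap_smul, map_smul]
          | add x y hx hy => rw [smul_add, map_add, hx, hy, map_add, smul_add] }
  let bwd : ∀ Y : ModuleCat.{u} S, (X Y ⟶ ModuleCat.of R F) → (Y ⟶ W) := fun Y g =>
    ModuleCat.ofHom
      { toFun := fun y =>
          ({ toFun := fun h => g.hom (show X Y from LC.htensor J d Y (h ⊗ₜ y))
             map_add' := fun a b => by
               rw [← map_add]; exact congrArg g.hom ((congrArg (LC.htensor J d Y) (TensorProduct.add_tmul a b y)).trans (map_add _ _ _))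
             map_smul' := fun r h => by
               refine Eq.trans (congrArg g.hom ?_) (map_smul g.hom r _)
               show LC.htensor J d Y ((r • h) ⊗ₜ y) = algebraMap R S r • LC.htensor J d Y (h ⊗ₜ y)
               rw [← map_smul, TensorProduct.smul_tmul', algebraMap_smul] } : H →ₗ[R] F)
        map_add' := fun a b => LinearMap.ext fun h => by
          show g.hom _ = g.hom _ + g.hom _
          rw [← map_add]; exact congrArg g.hom ((congrArg (LC.htensor J d Y) (TensorProduct.tmul_add h a b)).trans (map_add _ _ _))
        map_smul' := fun s y => LinearMap.ext fun h => by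
          show g.hom (show X Y from LC.htensor J d Y (h ⊗ₜ (s • y))) = g.hom (show X Y from LC.htensor J d Y ((s • h) ⊗ₜ y))
          rw [TensorProduct.smul_tmul] }
  have h1 : ∀ {Y : ModuleCat.{u} S} (f : Y ⟶ W) (t : H ⊗[S] Y), (fwd Y f).hom (e Y t) = ev Y f t := fun {Y} f t => by
    show ev Y f ((e Y).symm (e Y t)) = _
    rw [LinearEquiv.symm_apply_apply]
  refine (Functor.RepresentableBy.isRepresentable (Y := W) ⟨fun {Y} => ⟨fwd Y, bwd Y, fun f => ?_, fun g => ?_⟩, fun {Y Y'} f g => ?_⟩)
  · refine ModuleCat.hom_ext (LinearMap.ext fun y => LinearMap.ext fun h => ?_)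
    exact h1 f (h ⊗ₜ y)
  · refine ModuleCat.hom_ext (LinearMap.ext fun (z : X Y) => ?_)
    obtain ⟨t, rfl⟩ : ∃ t, z = e Y t := ⟨(e Y).symm z, ((e Y).apply_symm_apply z).symm⟩
    show (fwd Y (bwd Y g)).hom (e Y t) = g.hom (e Y t)
    rw [h1]
    induction t with
    | zero => rw [map_zero, map_zero]; exact (map_zero g.hom).symm
    | tmul h y => rfl
    | add x y hx hy => rw [map_add, map_add, hx, hy]; exact (map_add g.hom _ _).symm
  · refine ModuleCat.hom_ext (LinearMap.ext fun (z : X Y) => ?_)
    obtain ⟨t, rfl⟩ : ∃ t, z = e Y t := ⟨(e Y).symm z, ((e Y).apply_symm_apply z).symm⟩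
    show (fwd Y (f ≫ g)).hom (e Y t) = (fwd Y' g).hom (((localCohomology J d).map f).hom (LC.htensor J d Y t))
    rw [h1, ← LC.htensor_natural J d f]
    refine Eq.trans ?_ (h1 (Y := Y') g (f.hom.lTensor H t)).symm
    induction t with
    | zero => rw [map_zero, map_zero, map_zero]
    | tmul h y => rfl
    | add x y hx hy => rw [map_add, map_add, map_add, hx, hy]

end Groth.Agent.LocDual54.ReprTop
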