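import Groth.Agent.LocDual54.DualKill
import Groth.Agent.Dual59.DualizingLoc

/-!
# Points where a module satisfying `(S_k)` has depth exactly `k`
-/

set_option linter.style.haveILetI false

universe u

open CategoryTheory IsLocalRing

namespace Groth.Agent.LocDual54

attribute [local instance] HasDerivedCategory.standard

open Groth.Agent.KFlatLib Groth.Agent.Dual59

variable {A : Type u} [CommRing A] [IsNoetherianRing A] {ω : Dual.D A}

theorem finite_setOf_depth_eq_of_hasSk (hω : Dual.IsDualizing A ω) (M : Type u) [AddCommGroup M] [Module A M]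
    [Module.Finite A M] (k : ℕ) (hM : LocCoh.HasSk k A M) :
    Set.Finite {p : PrimeSpectrum A | LocCoh.depth (Localization.AtPrime p.asIdeal) (LocalizedModule p.asIdeal.primeCompl M) = k ∧
      (k : WithBot ℕ∞) < Module.supportDim (Localization.AtPrime p.asIdeal) (LocalizedModule p.asIdeal.primeCompl M)} := by
  obtain ⟨n, hn, hcov, hmono, lo, hi, hb⟩ := exists_extDegree hω
  obtain ⟨a, b, -, _, _⟩ := exists_bounds_of_isDualizing hω
  let T : Set (Ideal A) :=
    (⋃ j ∈ Finset.Icc (lo - k) hi, (Module.annihilator A (Dual.inD A M ⟶ ω⟦j⟧)).minimalPrimes) ∪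
    (⋃ P ∈ (Module.annihilator A M).minimalPrimes, ⋃ P₀ ∈ (Module.annihilator A M).minimalPrimes,
      (P ⊔ P₀).minimalPrimes)
  have hT : T.Finite := by
    refine Set.Finite.union ?_ ?_
    · exact (Finset.Icc (lo - k) hi).finite_toSet.biUnion fun j _ =>
        Ideal.finite_minimalPrimes_of_isNoetherianRing A _
    · exact (Ideal.finite_minimalPrimes_of_isNoetherianRing A _).biUnion fun P _ =>
        (Ideal.finite_minimalPrimes_of_isNoetherianRing A _).biUnion fun P₀ _ =>
          Ideal.finite_minimalPrimes_of_isNoetherianRing A _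
  refine Set.Finite.subset (hT.preimage fun p _ q _ e => PrimeSpectrum.ext e)
    (fun p hp => ?_ : _ ⊆ PrimeSpectrum.asIdeal ⁻¹' T)
  obtain ⟨hdep, hdim⟩ := hp
  have hsupp : p ∈ Module.support A M := by
    by_contra h
    have : Subsingleton (LocalizedModule p.asIdeal.primeCompl M) := Module.notMem_support_iff.1 h
    rw [Module.supportDim_eq_bot_of_subsingleton] at hdim
    exact not_lt_bot hdim
  obtain ⟨kp, hkp, -, hnt⟩ := exists_top_degree hω hn M p hsupp
  obtain rfl : k = kp := by exact_mod_cast hdep.symm.trans hkp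
  set j := n p - k with hjdef
  have := finite_hom_module ω a hω.finite_cohomology M j
  have hann : Module.annihilator A (Dual.inD A M ⟶ ω⟦j⟧) ≤ p.asIdeal :=
    Module.mem_support_iff_of_finite.1 (Module.mem_support_iff.2 hnt)
  by_cases hmin : p.asIdeal ∈ (Module.annihilator A (Dual.inD A M ⟶ ω⟦j⟧)).minimalPrimes
  · refine Or.inl ?_
    simp only [Set.mem_iUnion, exists_prop]
    exact ⟨j, by have := hb p; rw [Finset.mem_Icc]; omega, hmin⟩
  refine Or.inr ?_
  obtain ⟨p', hp', hp'le⟩ := Ideal.exists_minimalPrimes_le hann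
  let r : PrimeSpectrum A := ⟨p', hp'.1.1⟩
  have hrp : r < p := lt_of_le_of_ne (show r ≤ p from hp'le) fun e => hmin ((congrArg PrimeSpectrum.asIdeal e) ▸ hp')
  have hrE : r ∈ Module.support A (Dual.inD A M ⟶ ω⟦j⟧) := Module.mem_support_iff_of_finite.2 hp'.1.2
  have hrM : r ∈ Module.support A M := support_hom_subset M _ hrE
  -- a Cohen–Macaulay point
  have hSk : ∀ q : PrimeSpectrum A, q ∈ Module.support A M → ∀ kq : ℕ,
      LocCoh.depth (Localization.AtPrime q.asIdeal) (LocalizedModule q.asIdeal.primeCompl M) = kq → kq < k →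
      ∀ Q ∈ Module.support A M, Q ≤ q → n q - n Q ≤ kq := by
    intro q hq kq hkq hlt
    have h := hM q.asIdeal
    rw [hkq] at h
    refine (supportDim_localized_le_iff hmono hcov M q kq).1 ?_
    rcases le_total (k : WithBot ℕ∞) (Module.supportDim (Localization.AtPrime q.asIdeal)
      (LocalizedModule q.asIdeal.primeCompl M)) with h' | h'
    · rw [min_eq_left h'] at h
      exact absurd (by exact_mod_cast h : k ≤ kq) (by omega)
    · rw [min_eq_right h'] at h
      exact_mod_cast h
  have hdeg : ∀ (q : PrimeSpectrum A) (kq : ℕ),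
      LocCoh.depth (Localization.AtPrime q.asIdeal) (LocalizedModule q.asIdeal.primeCompl M) = kq →
      q ∈ Module.support A M → ∀ i : ℤ, q ∈ Module.support A (Dual.inD A M ⟶ ω⟦i⟧) → i ≤ n q - kq := by
    intro q kq hkq hq i hi'
    obtain ⟨kq', hkq', hvan', -⟩ := exists_top_degree hω hn M q hq
    obtain rfl : kq = kq' := by exact_mod_cast hkq.symm.trans hkq'
    exact le_of_not_gt fun hlt => by
      have := Module.mem_support_iff.1 hi'
      exact not_subsingleton _ (hvan' i hlt)
  obtain ⟨kr, hkr, -, -⟩ := exists_top_degree hω hn M r hrM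
  have hjr := hdeg r kr hkr hrM j hrE
  have hnr := hmono hrp
  obtain ⟨P, hP, hPr⟩ := exists_minimal_below M hrM
  have hdimr := hSk r hrM kr hkr (by omega)
  have hPsupp : P ∈ Module.support A M := Module.mem_support_iff_of_finite.2 hP.1.2
  have h1 := hdimr P hPsupp hPr
  have h2 := hdeg r kr hkr hrM (n P) (Module.mem_support_iff.2 (nontrivial_localized_of_minimal hω hn M hP hPr))
  -- a component of larger dimension
  obtain ⟨Q, hQ, hQp, hQk⟩ : ∃ Q ∈ Module.support A M, Q ≤ p ∧ (k : ℤ) < n p - n Q := by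
    by_contra h
    push Not at h
    exact not_le.2 hdim ((supportDim_localized_le_iff hmono hcov M p k).2 h)
  obtain ⟨P₀, hP₀, hP₀Q⟩ := exists_minimal_below M hQ
  have hnP₀ := hmono.monotone hP₀Q
  have hP₀supp : P₀ ∈ Module.support A M := Module.mem_support_iff_of_finite.2 hP₀.1.2
  simp only [Set.mem_iUnion, exists_prop]
  refine ⟨P.asIdeal, hP, P₀.asIdeal, hP₀,
    ⟨p.2, sup_le (show P ≤ p from hPr.trans hrp.le) (show P₀ ≤ p from hP₀Q.trans hQp)⟩, fun q' hq' hqp => ?_⟩
  let q : PrimeSpectrum A := ⟨q', hq'.1⟩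
  rcases (show q ≤ p from hqp).eq_or_lt with e | hlt
  · exact (congrArg PrimeSpectrum.asIdeal e).ge
  exfalso
  have hPq : P ≤ q := (le_sup_left.trans hq'.2 : P.asIdeal ≤ q')
  have hP₀q : P₀ ≤ q := (le_sup_right.trans hq'.2 : P₀.asIdeal ≤ q')
  have hqM : q ∈ Module.support A M := Module.mem_support_mono hPq hPsupp
  obtain ⟨kq, hkq, -, -⟩ := exists_top_degree hω hn M q hqM
  have h3 := hdeg q kq hkq hqM (n P) (Module.mem_support_iff.2 (nontrivial_localized_of_minimal hω hn M hP hPq))
  have hnq := hmono hlt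
  have h4 := hSk q hqM kq hkq (by omega) P₀ hP₀supp hP₀q
  omega

end Groth.Agent.LocDual54
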