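import Groth.Agent.LC.DTExact

/-!
# Splittings from cohomological dimension one
-/

universe u

open CategoryTheory

noncomputable section

namespace Groth.Agent.LocDual54

variable {A : Type u} [CommRing A] [IsNoetherianRing A]

theorem exists_splitting {r : ℕ} (f : Fin r → A) (h₁ : LocCoh.CdLE A (Ideal.span (Set.range f)) 1) :
    ∃ (c : ℕ) (φ : Fin r → (↥(Ideal.span (Set.range f) ^ (c + 1)) →ₗ[A] A)),
      ∀ x : ↥(Ideal.span (Set.range f) ^ (c + 1)), (x : A) = ∑ j, f j * φ j x := by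
  classical
  let I := Ideal.span (Set.range f)
  have htop : I • (⊤ : Submodule A (LocCoh.DT I A)) = ⊤ :=
    (LC.idealTransform_exact_iff_smul_top I).1 ((LC.idealTransform_exact_iff_cdLE_one I).2 h₁)
  obtain ⟨s, hs⟩ : ∃ s : Fin r → LocCoh.DT I A, LocCoh.toDT I A (1 : A) = ∑ j, f j • s j := by
    refine Submodule.smul_induction_on (htop.ge Submodule.mem_top : LocCoh.toDT I A (1 : A) ∈ _)
      (fun a ha x _ => ?_) ?_
    · obtain ⟨c, hc⟩ := (Ideal.mem_span_range_iff_exists_fun).1 ha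
      exact ⟨fun j => c j • x, by simp only [← hc, Finset.sum_smul, smul_smul, mul_comm]⟩
    · rintro x y ⟨s, hs⟩ ⟨t, ht⟩
      exact ⟨s + t, by simp [hs, ht, smul_add, Finset.sum_add_distrib]⟩
  choose n ψ hψ using fun j => LC.exists_toD I (M := ModuleCat.of A A) (s j)
  let N := Finset.univ.sup n
  let χ : Fin r → (LC.pObj I N ⟶ ModuleCat.of A A) := fun j =>
    LC.pMap I (Finset.le_sup (Finset.mem_univ j) (f := n)) ≫ ψ j
  have h0 : LC.toD I (ModuleCat.of A A) N (LC.smulMor I (ModuleCat.of A A) N (1 : A) - ∑ j, f j • χ j) = 0 := by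
    rw [map_sub, map_sum, ← LC.toDT_eq I (ModuleCat.of A A) (1 : A) N, sub_eq_zero]
    refine hs.trans (Finset.sum_congr rfl fun j _ => ?_)
    rw [map_smul, LC.toD_res, hψ]
  obtain ⟨m, hm, h0⟩ := (LC.toD_eq_zero_iff I _).1 h0
  refine ⟨m, fun j => (LC.pMap I (hm.trans (Nat.le_succ m)) ≫ χ j).hom, fun x => ?_⟩
  have h := congrArg (fun t : LC.pObj I m ⟶ ModuleCat.of A A => t.hom ((LC.pMap I (Nat.le_succ m)).hom x)) h0
  simp only [ModuleCat.hom_comp, LinearMap.coe_comp, Function.comp_apply, ModuleCat.hom_sub, LinearMap.sub_apply,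
    ModuleCat.hom_sum, LinearMap.sum_apply, ModuleCat.hom_smul, LinearMap.smul_apply, ModuleCat.hom_zero,
    LinearMap.zero_apply, sub_eq_zero, smul_eq_mul] at h
  refine Eq.trans ?_ (h.trans (Finset.sum_congr rfl fun j _ => rfl))
  exact (mul_one (x : A)).symm

end Groth.Agent.LocDual54
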