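import Groth.Prelude.Def_Wider
import Mathlib.RingTheory.Flat.Basic
import Mathlib.RingTheory.Flat.FaithfullyFlat.Basic
import Mathlib.RingTheory.Flat.Stability
import Mathlib.LinearAlgebra.TensorProduct.RightExactness
import Mathlib.Algebra.Category.ModuleCat.Products
import Mathlib.Algebra.Homology.ShortComplex.ModuleCat
import Mathlib.Algebra.Homology.DerivedCategory.Ext.EnoughInjectives
import Mathlib.Algebra.Homology.DerivedCategory.Ext.Linear
import Mathlib.Algebra.Category.ModuleCat.EnoughInjectives

/-!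
# Tensor products with flat modules which vanish modulo `I` are orthogonal to `I`-power torsion modules

If `C` is flat with `C = I C` then `Ext^i(L, C ⊗ Q) = 0` for every `I`-power torsion `L` and every `Q`.
-/

universe u

open CategoryTheory CategoryTheory.Limits CategoryTheory.Abelian
open scoped TensorProduct

namespace Groth.Agent.LocDual54

variable {A : Type u} [CommRing A]

section LongExact

variable {S : ShortComplex (ModuleCat.{u} A)} (hS : S.ShortExact) (X : ModuleCat.{u} A)

include hS

theorem postcomp_f_bijective (h₃ : ∀ i, Subsingleton (Ext X S.X₃ i)) (n : ℕ) :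
    Function.Bijective fun x : Ext X S.X₁ n => x.comp (Ext.mk₀ S.f) (add_zero n) := by
  constructor
  · intro x y hxy
    have h0 : (x - y).comp (Ext.mk₀ S.f) (add_zero n) = 0 := by
      simp only [sub_eq_add_neg, Ext.add_comp, Ext.neg_comp]
      rw [show x.comp (Ext.mk₀ S.f) (add_zero n) = y.comp (Ext.mk₀ S.f) (add_zero n) from hxy]
      exact add_neg_cancel _
    rw [← sub_eq_zero]
    rcases n with _ | n
    · obtain ⟨g, hg⟩ := (Ext.mk₀_bijective _ _).2 (x - y)
      rw [← hg, Ext.mk₀_comp_mk₀] at h0
      haveI := hS.mono_f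
      have : g = 0 := by
        rw [← cancel_mono S.f, zero_comp]
        exact (Ext.mk₀_bijective _ _).1 (h0.trans (Ext.mk₀_zero (X := X) (Y := S.X₂)).symm)
      rw [← hg, this, Ext.mk₀_zero]
    · obtain ⟨z, hz⟩ := Ext.covariant_sequence_exact₁ X hS (x - y) h0 (rfl : n + 1 = n + 1)
      rw [← hz, (h₃ n).elim z 0, Ext.zero_comp]
  · intro y
    obtain ⟨x, hx⟩ := Ext.covariant_sequence_exact₂ X hS y ((h₃ n).elim _ _)
    exact ⟨x, hx⟩

theorem postcomp_g_bijective (h₁ : ∀ i, Subsingleton (Ext X S.X₁ i)) (n : ℕ) :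
    Function.Bijective fun x : Ext X S.X₂ n => x.comp (Ext.mk₀ S.g) (add_zero n) := by
  constructor
  · intro x y hxy
    have h0 : (x - y).comp (Ext.mk₀ S.g) (add_zero n) = 0 := by
      simp only [sub_eq_add_neg, Ext.add_comp, Ext.neg_comp]
      rw [show x.comp (Ext.mk₀ S.g) (add_zero n) = y.comp (Ext.mk₀ S.g) (add_zero n) from hxy]
      exact add_neg_cancel _
    obtain ⟨z, hz⟩ := Ext.covariant_sequence_exact₂ X hS (x - y) h0
    rw [← sub_eq_zero, ← hz, (h₁ n).elim z 0, Ext.zero_comp]
  · intro y
    obtain ⟨x, hx⟩ := Ext.covariant_sequence_exact₃ X hS y (rfl : n + 1 = n + 1) ((h₁ (n + 1)).elim _ _)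
    exact ⟨x, hx⟩

end LongExact

/-- The short complex of a pair of exact linear maps. -/
theorem shortExact_of_linear {M N P : Type u} [AddCommGroup M] [Module A M] [AddCommGroup N] [Module A N]
    [AddCommGroup P] [Module A P] {f : M →ₗ[A] N} {g : N →ₗ[A] P} (hf : Function.Injective f)
    (hg : Function.Surjective g) (he : Function.Exact f g) :
    (ShortComplex.mk (ModuleCat.ofHom f) (ModuleCat.ofHom g)
      (ModuleCat.hom_ext he.linearMap_comp_eq_zero)).ShortExact where
  exact := (ShortComplex.ShortExact.moduleCat_exact_iff_function_exact _).mpr he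
  mono_f := (ModuleCat.mono_iff_injective _).mpr hf
  epi_g := (ModuleCat.epi_iff_surjective _).mpr hg

/-- Tensoring a short exact pair with a flat module. -/
theorem shortExact_lTensor (C : Type u) [AddCommGroup C] [Module A C] [Module.Flat A C]
    {M N P : Type u} [AddCommGroup M] [Module A M] [AddCommGroup N] [Module A N]
    [AddCommGroup P] [Module A P] {f : M →ₗ[A] N} {g : N →ₗ[A] P} (hf : Function.Injective f)
    (hg : Function.Surjective g) (he : Function.Exact f g) :
    (ShortComplex.mk (ModuleCat.ofHom (f.lTensor C)) (ModuleCat.ofHom (g.lTensor C))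
      (ModuleCat.hom_ext (lTensor_exact C he hg).linearMap_comp_eq_zero)).ShortExact :=
  shortExact_of_linear (Module.Flat.lTensor_preserves_injective_linearMap f hf)
    (LinearMap.lTensor_surjective C hg) (lTensor_exact C he hg)

variable {I : Ideal A} {C : Type u} [AddCommGroup C] [Module A C]

theorem subsingleton_tensor_of_kill (hC : I • (⊤ : Submodule A C) = ⊤) (Q : Type u) [AddCommGroup Q]
    [Module A Q] (h : I ≤ Module.annihilator A Q) : Subsingleton (C ⊗[A] Q) := by
  refine subsingleton_of_forall_eq 0 fun z => ?_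
  induction z using TensorProduct.induction_on with
  | zero => rfl
  | tmul c q =>
    have hc : c ∈ I • (⊤ : Submodule A C) := hC.symm ▸ Submodule.mem_top
    induction hc using Submodule.smul_induction_on' with
    | smul a ha x _ => rw [TensorProduct.smul_tmul, Module.mem_annihilator.1 (h ha) q, TensorProduct.tmul_zero]
    | add x _ y _ hx hy => rw [TensorProduct.add_tmul, hx, hy, add_zero]
  | add a b ha hb => rw [ha, hb, add_zero]

variable [Module.Flat A C]

theorem subsingleton_ext_tensor_of_kill (hC : I • (⊤ : Submodule A C) = ⊤) (L : ModuleCat.{u} A) (N : ℕ)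
    (hL : ∀ a ∈ I, ∀ x : L, a ^ N • x = 0) (rem : List A) (hrem : ∀ f ∈ rem, f ∈ I)
    (Q : Type u) [AddCommGroup Q] [Module A Q] (hQ : I ≤ Ideal.ofList rem ⊔ Module.annihilator A Q) :
    ∀ i : ℕ, Subsingleton (Ext L (ModuleCat.of A (C ⊗[A] Q)) i) := by
  induction rem generalizing Q with
  | nil =>
    intro i
    haveI := subsingleton_tensor_of_kill hC Q (by simpa using hQ)
    have hz : IsZero (ModuleCat.of A (C ⊗[A] Q)) := ModuleCat.isZero_of_subsingleton _
    refine subsingleton_of_forall_eq 0 fun x => ?_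
    rw [← Ext.comp_mk₀_id x, hz.eq_of_src (𝟙 _) 0, Ext.mk₀_zero, Ext.comp_zero]
  | cons f rem ih =>
    intro i
    have hf : f ∈ I := hrem f (by simp)
    have hrem' : ∀ g ∈ rem, g ∈ I := fun g hg => hrem g (by simp [hg])
    let φ : Q →ₗ[A] Q := LinearMap.lsmul A Q f
    have hsub : ∀ (Q' : Type u) [AddCommGroup Q'] [Module A Q'], (∀ x : Q', f • x = 0) →
        (Module.annihilator A Q ≤ Module.annihilator A Q') →
        I ≤ Ideal.ofList rem ⊔ Module.annihilator A Q' := by
      intro Q' _ _ hf' hle
      refine hQ.trans ?_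
      rw [Ideal.ofList_cons]
      refine sup_le (sup_le ?_ le_sup_left) (hle.trans le_sup_right)
      rw [Ideal.span_le, Set.singleton_subset_iff]
      exact le_sup_right (a := Ideal.ofList rem) (Module.mem_annihilator.2 hf')
    have hK := ih hrem' (LinearMap.ker φ) (hsub _ (fun x => Subtype.ext x.2)
      (LinearMap.annihilator_le_of_injective (LinearMap.ker φ).subtype (Submodule.subtype_injective _)))
    have hQuot := ih hrem' (Q ⧸ LinearMap.range φ) (hsub _
      (fun x => by
        obtain ⟨x, rfl⟩ := Submodule.mkQ_surjective _ x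
        rw [← map_smul]
        exact (Submodule.Quotient.mk_eq_zero _).2 ⟨x, rfl⟩)
      (LinearMap.annihilator_le_of_surjective (LinearMap.range φ).mkQ (Submodule.mkQ_surjective _)))
    have h1 := shortExact_lTensor C (f := (LinearMap.ker φ).subtype) (g := φ.rangeRestrict)
      (Submodule.subtype_injective _) φ.surjective_rangeRestrict
      (LinearMap.exact_iff.2 (by rw [LinearMap.ker_rangeRestrict, Submodule.range_subtype]))
    have h2 := shortExact_lTensor C (f := (LinearMap.range φ).subtype) (g := (LinearMap.range φ).mkQ)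
      (Submodule.subtype_injective _) (Submodule.mkQ_surjective _)
      (LinearMap.exact_subtype_mkQ _)
    have hu := (postcomp_f_bijective h2 L hQuot i).comp (postcomp_g_bijective h1 L hK i)
    have hcomp : ∀ x : Ext L (ModuleCat.of A (C ⊗[A] Q)) i,
        (x.comp (Ext.mk₀ (ModuleCat.ofHom (φ.rangeRestrict.lTensor C))) (add_zero i)).comp
          (Ext.mk₀ (ModuleCat.ofHom ((LinearMap.range φ).subtype.lTensor C))) (add_zero i) = f • x := by
      intro x
      rw [Ext.comp_assoc_of_third_deg_zero, Ext.mk₀_comp_mk₀, Ext.smul_eq_comp_mk₀]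
      have : ModuleCat.ofHom (φ.rangeRestrict.lTensor C) ≫
          ModuleCat.ofHom ((LinearMap.range φ).subtype.lTensor C) =
          f • 𝟙 (ModuleCat.of A (C ⊗[A] Q)) := by
        apply ModuleCat.hom_ext
        apply TensorProduct.ext'
        intro c q
        show c ⊗ₜ[A] (f • q) = f • (c ⊗ₜ[A] q)
        rw [TensorProduct.tmul_smul]
      exact congrArg (fun t => x.comp (Ext.mk₀ t) (add_zero i)) this
    have hinj : Function.Injective fun x : Ext L (ModuleCat.of A (C ⊗[A] Q)) i => f • x := by
      intro x y hxy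
      exact hu.1 ((hcomp x).trans (hxy.trans (hcomp y).symm))
    have hinjN : ∀ k : ℕ, ∀ x : Ext L (ModuleCat.of A (C ⊗[A] Q)) i, f ^ k • x = 0 → x = 0 := by
      intro k
      induction k with
      | zero => intro x hx; simpa using hx
      | succ k ihk =>
        intro x hx
        refine ihk x (hinj ?_)
        show f • f ^ k • x = f • (0 : Ext L (ModuleCat.of A (C ⊗[A] Q)) i)
        rw [smul_zero, smul_smul, ← pow_succ']
        exact hx
    refine subsingleton_of_forall_eq 0 fun x => hinjN N x ?_
    have : f ^ N • 𝟙 L = 0 := by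
      ext z
      exact hL f hf z
    calc f ^ N • x = f ^ N • (Ext.mk₀ (𝟙 L)).comp x (zero_add i) := by rw [Ext.mk₀_id_comp]
      _ = (Ext.mk₀ (f ^ N • 𝟙 L)).comp x (zero_add i) := by rw [Ext.mk₀_smul, Ext.smul_comp]
      _ = 0 := by rw [this, Ext.mk₀_zero, Ext.zero_comp]

/-- `Ext` out of a coproduct vanishes if it vanishes out of each summand. -/
theorem subsingleton_ext_sigma {ι : Type u} (L : ι → ModuleCat.{u} A) (i : ℕ) (Y : ModuleCat.{u} A)
    (h : ∀ j, Subsingleton (Ext (L j) Y i)) : Subsingleton (Ext (∐ L) Y i) := by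
  induction i generalizing Y with
  | zero =>
    refine subsingleton_of_forall_eq 0 fun x => ?_
    obtain ⟨g, rfl⟩ := (Ext.mk₀_bijective _ _).2 x
    rw [show g = 0 from Sigma.hom_ext _ _ fun j => ?_, Ext.mk₀_zero]
    rw [comp_zero]
    exact (Ext.mk₀_bijective _ _).1 ((h j).elim _ _)
  | succ n ih =>
    let S : ShortComplex (ModuleCat.{u} A) :=
      ShortComplex.mk (Injective.ι Y) (cokernel.π _) (cokernel.condition _)
    have hS : S.ShortExact := { exact := ShortComplex.exact_cokernel (Injective.ι Y) }
    haveI : Injective S.X₂ := inferInstanceAs (Injective (Injective.under Y))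
    refine subsingleton_of_forall_eq 0 fun x => ?_
    obtain ⟨y, rfl⟩ := Ext.covariant_sequence_exact₁ (∐ L) hS x (Ext.eq_zero_of_injective _) rfl
    rcases n with _ | n
    · obtain ⟨g, rfl⟩ := (Ext.mk₀_bijective _ _).2 y
      have hl : ∀ j, ∃ l : L j ⟶ S.X₂, l ≫ S.g = Sigma.ι L j ≫ g := by
        intro j
        obtain ⟨l, hl⟩ := Ext.covariant_sequence_exact₃ (L j) hS (Ext.mk₀ (Sigma.ι L j ≫ g))
          (rfl : 0 + 1 = 1) ((h j).elim _ _)
        obtain ⟨l, rfl⟩ := (Ext.mk₀_bijective _ _).2 l
        rw [Ext.mk₀_comp_mk₀] at hl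
        exact ⟨l, (Ext.mk₀_bijective _ _).1 hl⟩
      choose l hl using hl
      have : g = Sigma.desc l ≫ S.g := Sigma.hom_ext _ _ fun j => by simp [hl]
      rw [this, ← Ext.mk₀_comp_mk₀, Ext.comp_assoc_of_second_deg_zero, hS.comp_extClass]
      exact Ext.comp_zero _ _ _ _ rfl
    · have : Subsingleton (Ext (∐ L) S.X₃ (n + 1)) := by
        refine ih S.X₃ fun j => subsingleton_of_forall_eq 0 fun z => ?_
        obtain ⟨z', hz'⟩ := Ext.covariant_sequence_exact₃ (L j) hS z (rfl : n + 1 + 1 = n + 2)
          ((h j).elim _ _)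
        rw [← hz', Ext.eq_zero_of_injective z', Ext.zero_comp]
      rw [this.elim y 0, Ext.zero_comp]

end Groth.Agent.LocDual54
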